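import Cfsg.Agent.Lib.H17.TCSV.Data
import Cfsg.Agent.Lib.H35.TC
set_option autoImplicit false
set_option maxRecDepth 100000
set_option linter.all false
namespace H17.TCSV
open H35.TC
/-- letters -/
inductive Lt | a | b | c | d | e | f | v
  deriving DecidableEq
/-- inverse letter -/
def inv : Lt → Lt
  | .a => .a
  | .b => .b
  | .c => .c
  | .d => .d
  | .e => .e
  | .f => .f
  | .v => .v
/-- table functions -/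
noncomputable def T : Lt → ℕ → ℕ
  | .a => T_a
  | .b => T_b
  | .c => T_c
  | .d => T_d
  | .e => T_e
  | .f => T_f
  | .v => T_v
/-- decoding of letter codes -/
def lt : ℕ → Lt
  | 0 => .a
  | 1 => .b
  | 2 => .c
  | 3 => .d
  | 4 => .e
  | 5 => .f
  | _ => .v
/-- Coxeter matrix (0: no relation) -/
def mm : Lt → Lt → ℕ
  | .a, .a => 1
  | .a, .b => 5
  | .a, .c => 2
  | .a, .d => 2
  | .a, .e => 2
  | .a, .f => 2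
  | .b, .a => 5
  | .b, .b => 1
  | .b, .c => 3
  | .b, .d => 2
  | .b, .e => 2
  | .b, .f => 3
  | .c, .a => 2
  | .c, .b => 3
  | .c, .c => 1
  | .c, .d => 8
  | .c, .e => 2
  | .c, .f => 2
  | .d, .a => 2
  | .d, .b => 2
  | .d, .c => 8
  | .d, .d => 1
  | .d, .e => 3
  | .d, .f => 2
  | .e, .a => 2
  | .e, .b => 2
  | .e, .c => 2
  | .e, .d => 3
  | .e, .e => 1
  | .e, .f => 2
  | .f, .a => 2
  | .f, .b => 3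
  | .f, .c => 2
  | .f, .d => 2
  | .f, .e => 2
  | .f, .f => 1
  | .v, .v => 1
  | _, _ => 0
/-- extra relators `w ^ n` -/
def extra : List (List Lt × ℕ) := [
  ([.a, .d, .c, .d, .c, .d, .c, .d, .c], 1),
  ([.v, .b, .v, .f, .b, .c, .d, .c, .b, .f, .b, .f, .b, .c, .d, .c, .b, .f], 1),
  ([.v, .c, .v, .f, .b, .c, .d, .c, .b, .f, .c, .f, .b, .c, .d, .c, .b, .f], 1),
  ([.a, .b, .c, .f], 5),
  ([.f, .b, .c, .d, .c, .b, .f, .v], 3),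
  ([.v, .d, .c, .b, .a, .v, .f, .b, .c, .d, .c, .b, .f, .a, .b, .c, .d, .f, .b, .c, .d, .c, .b, .f], 1),
  ([.v, .f, .e, .b, .c, .d, .c, .b, .f, .e, .v, .f, .b, .c, .d, .c, .b, .f, .e, .f, .b, .c, .d, .c, .b, .f], 1),
  ([.b, .c, .d, .c, .d, .b, .c, .d, .c, .d, .b, .c, .d, .c, .d, .b, .c, .d, .c, .d, .b, .c, .d, .c, .d, .e], 3)]
/-- relators -/
def rels : List (List Lt) := mkRels [(.a, .c), (.e, .f), (.d, .f), (.c, .f), (.c, .e), (.b, .e), (.a, .f), (.a, .e), (.a, .d), (.b, .d), (.b, .c), (.b, .f), (.d, .e), (.a, .b), (.c, .d), (.a, .a), (.b, .b), (.c, .c), (.d, .d), (.e, .e), (.f, .f), (.v, .v)] mm extra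
/-- subgroup words -/
def subs : List (List Lt) := [
  [.a],
  [.b],
  [.c],
  [.d],
  [.e],
  [.f]]
noncomputable def dp_a_0 (j u : ℕ) : Bool :=
  Bool.rec (motive := fun _ => Bool) (lS MG [T_d, T_a, T_d] M (Nat.sub (T_a u) (Nat.mod (T_a u) M)) (nat_lit 40) (Nat.mod (T_a u) M) u) (lS MG [T_c, T_a, T_c] M (Nat.sub (T_a u) (Nat.mod (T_a u) M)) (nat_lit 40) (Nat.mod (T_a u) M) u) (Nat.ble (nat_lit 10) j)
noncomputable def dp_a_1 (j u : ℕ) : Bool :=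
  Bool.rec (motive := fun _ => Bool) (lS MG [T_f, T_a, T_f] M (Nat.sub (T_a u) (Nat.mod (T_a u) M)) (nat_lit 40) (Nat.mod (T_a u) M) u) (dp_a_0 j u) (Nat.ble (nat_lit 9) j)
noncomputable def dp_a_2 (j u : ℕ) : Bool :=
  Bool.rec (motive := fun _ => Bool) (lS MG [T_b, T_a, T_b, T_a, T_b, T_a, T_b, T_a, T_b] M (Nat.sub (T_a u) (Nat.mod (T_a u) M)) (nat_lit 40) (Nat.mod (T_a u) M) u) (lS MG [T_v, T_f, T_b, T_c, T_d, T_c, T_b, T_f, T_a, T_b, T_c, T_d, T_f, T_b, T_c, T_d, T_c, T_b, T_f, T_v, T_d, T_c, T_b] M (Nat.sub (T_a u) (Nat.mod (T_a u) M)) (nat_lit 40) (Nat.mod (T_a u) M) u) (Nat.ble (nat_lit 13) j)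
noncomputable def dp_a_3 (j u : ℕ) : Bool :=
  Bool.rec (motive := fun _ => Bool) (lS MG [T_e, T_a, T_e] M (Nat.sub (T_a u) (Nat.mod (T_a u) M)) (nat_lit 40) (Nat.mod (T_a u) M) u) (dp_a_2 j u) (Nat.ble (nat_lit 12) j)
noncomputable def dp_a_4 (j u : ℕ) : Bool :=
  Bool.rec (motive := fun _ => Bool) (lS MG [T_d, T_c, T_d, T_c, T_d, T_c, T_d, T_c] M (Nat.sub (T_a u) (Nat.mod (T_a u) M)) (nat_lit 40) (Nat.mod (T_a u) M) u) (lS MG [T_c, T_d, T_c, T_d, T_c, T_d, T_c, T_d] M (Nat.sub (T_a u) (Nat.mod (T_a u) M)) (nat_lit 40) (Nat.mod (T_a u) M) u) (Nat.ble (nat_lit 15) j)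
noncomputable def dp_a_5 (j u : ℕ) : Bool :=
  Bool.rec (motive := fun _ => Bool) (lS MG [T_b, T_c, T_d, T_v, T_f, T_b, T_c, T_d, T_c, T_b, T_f, T_d, T_c, T_b, T_a, T_f, T_b, T_c, T_d, T_c, T_b, T_f, T_v] M (Nat.sub (T_a u) (Nat.mod (T_a u) M)) (nat_lit 40) (Nat.mod (T_a u) M) u) (lF [T_b, T_a, T_b, T_a, T_b, T_a, T_b, T_a, T_b] M (Nat.sub (T_a u) (Nat.mod (T_a u) M)) (Nat.mod (T_a u) M) u) (Nat.ble (nat_lit 17) j)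
noncomputable def dp_a_6 (j u : ℕ) : Bool :=
  Bool.rec (motive := fun _ => Bool) (lS MG [T_f, T_c, T_b, T_a, T_f, T_c, T_b, T_a, T_f, T_c, T_b, T_a, T_f, T_c, T_b, T_a, T_f, T_c, T_b] M (Nat.sub (T_a u) (Nat.mod (T_a u) M)) (nat_lit 40) (Nat.mod (T_a u) M) u) (lS MG [T_b, T_c, T_f, T_a, T_b, T_c, T_f, T_a, T_b, T_c, T_f, T_a, T_b, T_c, T_f, T_a, T_b, T_c, T_f] M (Nat.sub (T_a u) (Nat.mod (T_a u) M)) (nat_lit 40) (Nat.mod (T_a u) M) u) (Nat.ble (nat_lit 21) j)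
noncomputable def dp_a_7 (j u : ℕ) : Bool :=
  Bool.rec (motive := fun _ => Bool) (lS MG [T_b, T_c, T_d, T_f, T_b, T_c, T_d, T_c, T_b, T_f, T_v, T_d, T_c, T_b, T_a, T_v, T_f, T_b, T_c, T_d, T_c, T_b, T_f] M (Nat.sub (T_a u) (Nat.mod (T_a u) M)) (nat_lit 40) (Nat.mod (T_a u) M) u) (lS MG [T_f, T_b, T_c, T_d, T_c, T_b, T_f, T_v, T_a, T_b, T_c, T_d, T_v, T_f, T_b, T_c, T_d, T_c, T_b, T_f, T_d, T_c, T_b] M (Nat.sub (T_a u) (Nat.mod (T_a u) M)) (nat_lit 40) (Nat.mod (T_a u) M) u) (Nat.ble (nat_lit 24) j)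
noncomputable def dp_a_8 (j u : ℕ) : Bool :=
  Bool.rec (motive := fun _ => Bool) (lH [] [] M (Nat.sub (T_a u) (Nat.mod (T_a u) M)) (Nat.mod (T_a u) M) u) (dp_a_7 j u) (Nat.ble (nat_lit 23) j)
noncomputable def dp_a_9 (j u : ℕ) : Bool :=
  Bool.rec (motive := fun _ => Bool) (dp_a_6 j u) (dp_a_8 j u) (Nat.ble (nat_lit 22) j)
noncomputable def dp_a_10 (j u : ℕ) : Bool :=
  Bool.rec (motive := fun _ => Bool) (lF [T_c, T_d, T_c, T_d, T_c, T_d, T_c, T_d] M (Nat.sub (T_a u) (Nat.mod (T_a u) M)) (Nat.mod (T_a u) M) u) (dp_a_9 j u) (Nat.ble (nat_lit 20) j)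
noncomputable def dp_a_11 (j u : ℕ) : Bool :=
  Bool.rec (motive := fun _ => Bool) (lF [T_d, T_c, T_d, T_c, T_d, T_c, T_d, T_c] M (Nat.sub (T_a u) (Nat.mod (T_a u) M)) (Nat.mod (T_a u) M) u) (dp_a_10 j u) (Nat.ble (nat_lit 19) j)
noncomputable def dp_a_12 (j u : ℕ) : Bool :=
  Bool.rec (motive := fun _ => Bool) (dp_a_5 j u) (dp_a_11 j u) (Nat.ble (nat_lit 18) j)
noncomputable def dp_a_13 (j u : ℕ) : Bool :=
  Bool.rec (motive := fun _ => Bool) (dp_a_4 j u) (dp_a_12 j u) (Nat.ble (nat_lit 16) j)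
noncomputable def dp_a_14 (j u : ℕ) : Bool :=
  Bool.rec (motive := fun _ => Bool) (dp_a_3 j u) (dp_a_13 j u) (Nat.ble (nat_lit 14) j)
noncomputable def dp_a_15 (j u : ℕ) : Bool :=
  Bool.rec (motive := fun _ => Bool) (dp_a_1 j u) (dp_a_14 j u) (Nat.ble (nat_lit 11) j)
noncomputable def dp_a_16 (j u : ℕ) : Bool :=
  Bool.rec (motive := fun _ => Bool) (lS MG [T_a] M (Nat.sub (T_a u) (Nat.mod (T_a u) M)) (nat_lit 40) (Nat.mod (T_a u) M) u) (dp_a_15 j u) (Nat.ble (nat_lit 8) j)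
noncomputable def dp_a_17 (j u : ℕ) : Bool :=
  Bool.rec (motive := fun _ => Bool) (lF3 T_e T_a T_e M (Nat.sub (T_a u) (Nat.mod (T_a u) M)) (Nat.mod (T_a u) M) u) (dp_a_16 j u) (Nat.ble (nat_lit 7) j)
noncomputable def dp_a_18 (j u : ℕ) : Bool :=
  Bool.rec (motive := fun _ => Bool) (Bool.rec (motive := fun _ => Bool) (lF3 T_d T_a T_d M (Nat.sub (T_a u) (Nat.mod (T_a u) M)) (Nat.mod (T_a u) M) u) (lF3 T_c T_a T_c M (Nat.sub (T_a u) (Nat.mod (T_a u) M)) (Nat.mod (T_a u) M) u) (Nat.ble (nat_lit 5) j)) (dp_a_17 j u) (Nat.ble (nat_lit 6) j)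
noncomputable def disp_a (j u : ℕ) : Bool :=
  Bool.rec (motive := fun _ => Bool) (Bool.rec (motive := fun _ => Bool) (lF1 T_a M (Nat.sub (T_a u) (Nat.mod (T_a u) M)) (Nat.mod (T_a u) M) u) (lDef P (nat_lit 0) (Nat.mod (T_a u) M) u) (Nat.ble (nat_lit 1) j)) (Bool.rec (motive := fun _ => Bool) (Bool.rec (motive := fun _ => Bool) (lDef P (nat_lit 0) u (Nat.mod (T_a u) M)) (lF3 T_f T_a T_f M (Nat.sub (T_a u) (Nat.mod (T_a u) M)) (Nat.mod (T_a u) M) u) (Nat.ble (nat_lit 3) j)) (dp_a_18 j u) (Nat.ble (nat_lit 4) j)) (Nat.ble (nat_lit 2) j)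
noncomputable def chk_a (j u : ℕ) : Bool :=
  Bool.rec (motive := fun _ => Bool) (disp_a j u) (Nat.ble (Nat.succ (MG u)) A) (Nat.ble A (T_a u))
noncomputable def dp_b_0 (j u : ℕ) : Bool :=
  Bool.rec (motive := fun _ => Bool) (lF [T_c, T_b, T_c, T_b, T_c] M (Nat.sub (T_b u) (Nat.mod (T_b u) M)) (Nat.mod (T_b u) M) u) (lS MG [T_d, T_b, T_d] M (Nat.sub (T_b u) (Nat.mod (T_b u) M)) (nat_lit 40) (Nat.mod (T_b u) M) u) (Nat.ble (nat_lit 8) j)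
noncomputable def dp_b_1 (j u : ℕ) : Bool :=
  Bool.rec (motive := fun _ => Bool) (lS MG [T_v, T_f, T_b, T_c, T_d, T_c, T_b, T_f, T_b, T_f, T_b, T_c, T_d, T_c, T_b, T_f, T_v] M (Nat.sub (T_b u) (Nat.mod (T_b u) M)) (nat_lit 40) (Nat.mod (T_b u) M) u) (dp_b_0 j u) (Nat.ble (nat_lit 7) j)
noncomputable def dp_b_2 (j u : ℕ) : Bool :=
  Bool.rec (motive := fun _ => Bool) (lS MG [T_e, T_b, T_e] M (Nat.sub (T_b u) (Nat.mod (T_b u) M)) (nat_lit 40) (Nat.mod (T_b u) M) u) (lS MG [T_c, T_b, T_c, T_b, T_c] M (Nat.sub (T_b u) (Nat.mod (T_b u) M)) (nat_lit 40) (Nat.mod (T_b u) M) u) (Nat.ble (nat_lit 10) j)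
noncomputable def dp_b_3 (j u : ℕ) : Bool :=
  Bool.rec (motive := fun _ => Bool) (lF [T_f, T_b, T_f, T_b, T_f] M (Nat.sub (T_b u) (Nat.mod (T_b u) M)) (Nat.mod (T_b u) M) u) (lS MG [T_a, T_b, T_a, T_b, T_a, T_b, T_a, T_b, T_a] M (Nat.sub (T_b u) (Nat.mod (T_b u) M)) (nat_lit 40) (Nat.mod (T_b u) M) u) (Nat.ble (nat_lit 13) j)
noncomputable def dp_b_4 (j u : ℕ) : Bool :=
  Bool.rec (motive := fun _ => Bool) (lF [T_v, T_f, T_b, T_c, T_d, T_c, T_b, T_f, T_b, T_f, T_b, T_c, T_d, T_c, T_b, T_f, T_v] M (Nat.sub (T_b u) (Nat.mod (T_b u) M)) (Nat.mod (T_b u) M) u) (dp_b_3 j u) (Nat.ble (nat_lit 12) j)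
noncomputable def dp_b_5 (j u : ℕ) : Bool :=
  Bool.rec (motive := fun _ => Bool) (lF [T_a, T_b, T_a, T_b, T_a, T_b, T_a, T_b, T_a] M (Nat.sub (T_b u) (Nat.mod (T_b u) M)) (Nat.mod (T_b u) M) u) (lS MG [T_c, T_d, T_v, T_f, T_b, T_c, T_d, T_c, T_b, T_f, T_d, T_c, T_b, T_a, T_f, T_b, T_c, T_d, T_c, T_b, T_f, T_v, T_a] M (Nat.sub (T_b u) (Nat.mod (T_b u) M)) (nat_lit 40) (Nat.mod (T_b u) M) u) (Nat.ble (nat_lit 16) j)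
noncomputable def dp_b_6 (j u : ℕ) : Bool :=
  Bool.rec (motive := fun _ => Bool) (lS MG [T_a, T_v, T_f, T_b, T_c, T_d, T_c, T_b, T_f, T_a, T_b, T_c, T_d, T_f, T_b, T_c, T_d, T_c, T_b, T_f, T_v, T_d, T_c] M (Nat.sub (T_b u) (Nat.mod (T_b u) M)) (nat_lit 40) (Nat.mod (T_b u) M) u) (dp_b_5 j u) (Nat.ble (nat_lit 15) j)
noncomputable def dp_b_7 (j u : ℕ) : Bool :=
  Bool.rec (motive := fun _ => Bool) (lS MG [T_f, T_v, T_d, T_c, T_b, T_a, T_v, T_f, T_b, T_c, T_d, T_c, T_b, T_f, T_a, T_b, T_c, T_d, T_f, T_b, T_c, T_d, T_c] M (Nat.sub (T_b u) (Nat.mod (T_b u) M)) (nat_lit 40) (Nat.mod (T_b u) M) u) (lS MG [T_f, T_v, T_b, T_v, T_f, T_b, T_c, T_d, T_c, T_b, T_f, T_b, T_f, T_b, T_c, T_d, T_c] M (Nat.sub (T_b u) (Nat.mod (T_b u) M)) (nat_lit 40) (Nat.mod (T_b u) M) u) (Nat.ble (nat_lit 19) j)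
noncomputable def dp_b_8 (j u : ℕ) : Bool :=
  Bool.rec (motive := fun _ => Bool) (lS MG [T_f, T_b, T_f, T_b, T_f] M (Nat.sub (T_b u) (Nat.mod (T_b u) M)) (nat_lit 40) (Nat.mod (T_b u) M) u) (dp_b_7 j u) (Nat.ble (nat_lit 18) j)
noncomputable def dp_b_9 (j u : ℕ) : Bool :=
  Bool.rec (motive := fun _ => Bool) (lS MG [T_c, T_d, T_c, T_b, T_f, T_b, T_f, T_b, T_c, T_d, T_c, T_b, T_f, T_v, T_b, T_v, T_f] M (Nat.sub (T_b u) (Nat.mod (T_b u) M)) (nat_lit 40) (Nat.mod (T_b u) M) u) (lS MG [T_c, T_f, T_a, T_b, T_c, T_f, T_a, T_b, T_c, T_f, T_a, T_b, T_c, T_f, T_a, T_b, T_c, T_f, T_a] M (Nat.sub (T_b u) (Nat.mod (T_b u) M)) (nat_lit 40) (Nat.mod (T_b u) M) u) (Nat.ble (nat_lit 21) j)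
noncomputable def dp_b_10 (j u : ℕ) : Bool :=
  Bool.rec (motive := fun _ => Bool) (lS MG [T_f, T_b, T_c, T_d, T_c, T_b, T_f, T_v, T_b, T_v, T_f, T_b, T_c, T_d, T_c, T_b, T_f] M (Nat.sub (T_b u) (Nat.mod (T_b u) M)) (nat_lit 40) (Nat.mod (T_b u) M) u) (lS MG [T_f, T_v, T_c, T_v, T_f, T_b, T_c, T_d, T_c, T_b, T_f, T_c, T_f, T_b, T_c, T_d, T_c] M (Nat.sub (T_b u) (Nat.mod (T_b u) M)) (nat_lit 40) (Nat.mod (T_b u) M) u) (Nat.ble (nat_lit 23) j)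
noncomputable def dp_b_11 (j u : ℕ) : Bool :=
  Bool.rec (motive := fun _ => Bool) (dp_b_9 j u) (dp_b_10 j u) (Nat.ble (nat_lit 22) j)
noncomputable def dp_b_12 (j u : ℕ) : Bool :=
  Bool.rec (motive := fun _ => Bool) (lS MG [T_f, T_v, T_a, T_b, T_c, T_d, T_v, T_f, T_b, T_c, T_d, T_c, T_b, T_f, T_d, T_c, T_b, T_a, T_f, T_b, T_c, T_d, T_c] M (Nat.sub (T_b u) (Nat.mod (T_b u) M)) (nat_lit 40) (Nat.mod (T_b u) M) u) (lS MG [T_c, T_d, T_c, T_b, T_f, T_d, T_c, T_b, T_a, T_f, T_b, T_c, T_d, T_c, T_b, T_f, T_v, T_a, T_b, T_c, T_d, T_v, T_f] M (Nat.sub (T_b u) (Nat.mod (T_b u) M)) (nat_lit 40) (Nat.mod (T_b u) M) u) (Nat.ble (nat_lit 26) j)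
noncomputable def dp_b_13 (j u : ℕ) : Bool :=
  Bool.rec (motive := fun _ => Bool) (lS MG [T_c, T_d, T_c, T_b, T_f, T_c, T_f, T_b, T_c, T_d, T_c, T_b, T_f, T_v, T_c, T_v, T_f] M (Nat.sub (T_b u) (Nat.mod (T_b u) M)) (nat_lit 40) (Nat.mod (T_b u) M) u) (dp_b_12 j u) (Nat.ble (nat_lit 25) j)
noncomputable def dp_b_14 (j u : ℕ) : Bool :=
  Bool.rec (motive := fun _ => Bool) (lH [] [] M (Nat.sub (T_b u) (Nat.mod (T_b u) M)) (Nat.mod (T_b u) M) u) (lF [T_f, T_b, T_c, T_d, T_c, T_b, T_f, T_v, T_b, T_v, T_f, T_b, T_c, T_d, T_c, T_b, T_f] M (Nat.sub (T_b u) (Nat.mod (T_b u) M)) (Nat.mod (T_b u) M) u) (Nat.ble (nat_lit 28) j)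
noncomputable def dp_b_15 (j u : ℕ) : Bool :=
  Bool.rec (motive := fun _ => Bool) (lS MG [T_c, T_d, T_c, T_b, T_f, T_e, T_f, T_b, T_c, T_d, T_c, T_b, T_f, T_v, T_e, T_f, T_b, T_c, T_d, T_c, T_b, T_e, T_f, T_v, T_f] M (Nat.sub (T_b u) (Nat.mod (T_b u) M)) (nat_lit 40) (Nat.mod (T_b u) M) u) (lS MG [T_f, T_v, T_f, T_b, T_c, T_d, T_c, T_b, T_f, T_v, T_f, T_b, T_c, T_d, T_c, T_b, T_f, T_v, T_f, T_b, T_c, T_d, T_c] M (Nat.sub (T_b u) (Nat.mod (T_b u) M)) (nat_lit 40) (Nat.mod (T_b u) M) u) (Nat.ble (nat_lit 30) j)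
noncomputable def dp_b_16 (j u : ℕ) : Bool :=
  Bool.rec (motive := fun _ => Bool) (dp_b_14 j u) (dp_b_15 j u) (Nat.ble (nat_lit 29) j)
noncomputable def dp_b_17 (j u : ℕ) : Bool :=
  Bool.rec (motive := fun _ => Bool) (lF [T_f, T_e, T_v, T_f, T_b, T_c, T_d, T_c, T_b, T_f, T_e, T_f, T_b, T_c, T_d, T_c, T_b, T_f, T_v, T_f, T_e, T_b, T_c, T_d, T_c] M (Nat.sub (T_b u) (Nat.mod (T_b u) M)) (Nat.mod (T_b u) M) u) (lF [T_c, T_d, T_c, T_b, T_f, T_e, T_v, T_f, T_b, T_c, T_d, T_c, T_b, T_f, T_e, T_f, T_b, T_c, T_d, T_c, T_b, T_f, T_v, T_f, T_e] M (Nat.sub (T_b u) (Nat.mod (T_b u) M)) (Nat.mod (T_b u) M) u) (Nat.ble (nat_lit 32) j)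
noncomputable def dp_b_18 (j u : ℕ) : Bool :=
  Bool.rec (motive := fun _ => Bool) (lS MG [T_a, T_f, T_c, T_b, T_a, T_f, T_c, T_b, T_a, T_f, T_c, T_b, T_a, T_f, T_c, T_b, T_a, T_f, T_c] M (Nat.sub (T_b u) (Nat.mod (T_b u) M)) (nat_lit 40) (Nat.mod (T_b u) M) u) (lF [T_c, T_d, T_c, T_b, T_f, T_b, T_f, T_b, T_c, T_d, T_c, T_b, T_f, T_v, T_b, T_v, T_f] M (Nat.sub (T_b u) (Nat.mod (T_b u) M)) (Nat.mod (T_b u) M) u) (Nat.ble (nat_lit 34) j)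
noncomputable def dp_b_19 (j u : ℕ) : Bool :=
  Bool.rec (motive := fun _ => Bool) (dp_b_17 j u) (dp_b_18 j u) (Nat.ble (nat_lit 33) j)
noncomputable def dp_b_20 (j u : ℕ) : Bool :=
  Bool.rec (motive := fun _ => Bool) (dp_b_16 j u) (dp_b_19 j u) (Nat.ble (nat_lit 31) j)
noncomputable def dp_b_21 (j u : ℕ) : Bool :=
  Bool.rec (motive := fun _ => Bool) (dp_b_13 j u) (dp_b_20 j u) (Nat.ble (nat_lit 27) j)
noncomputable def dp_b_22 (j u : ℕ) : Bool :=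
  Bool.rec (motive := fun _ => Bool) (dp_b_11 j u) (dp_b_21 j u) (Nat.ble (nat_lit 24) j)
noncomputable def dp_b_23 (j u : ℕ) : Bool :=
  Bool.rec (motive := fun _ => Bool) (dp_b_8 j u) (dp_b_22 j u) (Nat.ble (nat_lit 20) j)
noncomputable def dp_b_24 (j u : ℕ) : Bool :=
  Bool.rec (motive := fun _ => Bool) (dp_b_6 j u) (dp_b_23 j u) (Nat.ble (nat_lit 17) j)
noncomputable def dp_b_25 (j u : ℕ) : Bool :=
  Bool.rec (motive := fun _ => Bool) (dp_b_4 j u) (dp_b_24 j u) (Nat.ble (nat_lit 14) j)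
noncomputable def dp_b_26 (j u : ℕ) : Bool :=
  Bool.rec (motive := fun _ => Bool) (dp_b_2 j u) (dp_b_25 j u) (Nat.ble (nat_lit 11) j)
noncomputable def dp_b_27 (j u : ℕ) : Bool :=
  Bool.rec (motive := fun _ => Bool) (dp_b_1 j u) (dp_b_26 j u) (Nat.ble (nat_lit 9) j)
noncomputable def dp_b_28 (j u : ℕ) : Bool :=
  Bool.rec (motive := fun _ => Bool) (Bool.rec (motive := fun _ => Bool) (lS MG [T_b] M (Nat.sub (T_b u) (Nat.mod (T_b u) M)) (nat_lit 40) (Nat.mod (T_b u) M) u) (lF3 T_e T_b T_e M (Nat.sub (T_b u) (Nat.mod (T_b u) M)) (Nat.mod (T_b u) M) u) (Nat.ble (nat_lit 5) j)) (dp_b_27 j u) (Nat.ble (nat_lit 6) j)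
noncomputable def dp_b_29 (j u : ℕ) : Bool :=
  Bool.rec (motive := fun _ => Bool) (Bool.rec (motive := fun _ => Bool) (lF1 T_b M (Nat.sub (T_b u) (Nat.mod (T_b u) M)) (Nat.mod (T_b u) M) u) (lF3 T_d T_b T_d M (Nat.sub (T_b u) (Nat.mod (T_b u) M)) (Nat.mod (T_b u) M) u) (Nat.ble (nat_lit 3) j)) (dp_b_28 j u) (Nat.ble (nat_lit 4) j)
noncomputable def disp_b (j u : ℕ) : Bool :=
  Bool.rec (motive := fun _ => Bool) (Bool.rec (motive := fun _ => Bool) (lDef P (nat_lit 1) (Nat.mod (T_b u) M) u) (lDef P (nat_lit 1) u (Nat.mod (T_b u) M)) (Nat.ble (nat_lit 1) j)) (dp_b_29 j u) (Nat.ble (nat_lit 2) j)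
noncomputable def chk_b (j u : ℕ) : Bool :=
  Bool.rec (motive := fun _ => Bool) (disp_b j u) (Nat.ble (Nat.succ (MG u)) A) (Nat.ble A (T_b u))
noncomputable def dp_c_0 (j u : ℕ) : Bool :=
  Bool.rec (motive := fun _ => Bool) (lF [T_b, T_c, T_b, T_c, T_b] M (Nat.sub (T_c u) (Nat.mod (T_c u) M)) (Nat.mod (T_c u) M) u) (lF3 T_a T_c T_a M (Nat.sub (T_c u) (Nat.mod (T_c u) M)) (Nat.mod (T_c u) M) u) (Nat.ble (nat_lit 8) j)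
noncomputable def dp_c_1 (j u : ℕ) : Bool :=
  Bool.rec (motive := fun _ => Bool) (lS MG [T_v, T_f, T_b, T_c, T_d, T_c, T_b, T_f, T_c, T_f, T_b, T_c, T_d, T_c, T_b, T_f, T_v] M (Nat.sub (T_c u) (Nat.mod (T_c u) M)) (nat_lit 40) (Nat.mod (T_c u) M) u) (dp_c_0 j u) (Nat.ble (nat_lit 7) j)
noncomputable def dp_c_2 (j u : ℕ) : Bool :=
  Bool.rec (motive := fun _ => Bool) (lS MG [T_e, T_c, T_e] M (Nat.sub (T_c u) (Nat.mod (T_c u) M)) (nat_lit 40) (Nat.mod (T_c u) M) u) (lS MG [T_a, T_c, T_a] M (Nat.sub (T_c u) (Nat.mod (T_c u) M)) (nat_lit 40) (Nat.mod (T_c u) M) u) (Nat.ble (nat_lit 11) j)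
noncomputable def dp_c_3 (j u : ℕ) : Bool :=
  Bool.rec (motive := fun _ => Bool) (lS MG [T_f, T_c, T_f] M (Nat.sub (T_c u) (Nat.mod (T_c u) M)) (nat_lit 40) (Nat.mod (T_c u) M) u) (dp_c_2 j u) (Nat.ble (nat_lit 10) j)
noncomputable def dp_c_4 (j u : ℕ) : Bool :=
  Bool.rec (motive := fun _ => Bool) (lF [T_v, T_f, T_b, T_c, T_d, T_c, T_b, T_f, T_c, T_f, T_b, T_c, T_d, T_c, T_b, T_f, T_v] M (Nat.sub (T_c u) (Nat.mod (T_c u) M)) (Nat.mod (T_c u) M) u) (lF [T_d, T_c, T_d, T_c, T_a, T_d, T_c, T_d] M (Nat.sub (T_c u) (Nat.mod (T_c u) M)) (Nat.mod (T_c u) M) u) (Nat.ble (nat_lit 14) j)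
noncomputable def dp_c_5 (j u : ℕ) : Bool :=
  Bool.rec (motive := fun _ => Bool) (lS MG [T_b, T_c, T_b, T_c, T_b] M (Nat.sub (T_c u) (Nat.mod (T_c u) M)) (nat_lit 40) (Nat.mod (T_c u) M) u) (dp_c_4 j u) (Nat.ble (nat_lit 13) j)
noncomputable def dp_c_6 (j u : ℕ) : Bool :=
  Bool.rec (motive := fun _ => Bool) (lS MG [T_d, T_v, T_f, T_b, T_c, T_d, T_c, T_b, T_f, T_d, T_c, T_b, T_a, T_f, T_b, T_c, T_d, T_c, T_b, T_f, T_v, T_a, T_b] M (Nat.sub (T_c u) (Nat.mod (T_c u) M)) (nat_lit 40) (Nat.mod (T_c u) M) u) (lS MG [T_b, T_a, T_v, T_f, T_b, T_c, T_d, T_c, T_b, T_f, T_a, T_b, T_c, T_d, T_f, T_b, T_c, T_d, T_c, T_b, T_f, T_v, T_d] M (Nat.sub (T_c u) (Nat.mod (T_c u) M)) (nat_lit 40) (Nat.mod (T_c u) M) u) (Nat.ble (nat_lit 16) j)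
noncomputable def dp_c_7 (j u : ℕ) : Bool :=
  Bool.rec (motive := fun _ => Bool) (lS MG [T_d, T_c, T_d, T_c, T_d, T_c, T_a, T_d] M (Nat.sub (T_c u) (Nat.mod (T_c u) M)) (nat_lit 40) (Nat.mod (T_c u) M) u) (lS MG [T_d, T_c, T_a, T_d, T_c, T_d, T_c, T_d] M (Nat.sub (T_c u) (Nat.mod (T_c u) M)) (nat_lit 40) (Nat.mod (T_c u) M) u) (Nat.ble (nat_lit 18) j)
noncomputable def dp_c_8 (j u : ℕ) : Bool :=
  Bool.rec (motive := fun _ => Bool) (dp_c_6 j u) (dp_c_7 j u) (Nat.ble (nat_lit 17) j)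
noncomputable def dp_c_9 (j u : ℕ) : Bool :=
  Bool.rec (motive := fun _ => Bool) (lF [T_d, T_c, T_d, T_c, T_d, T_c, T_a, T_d] M (Nat.sub (T_c u) (Nat.mod (T_c u) M)) (Nat.mod (T_c u) M) u) (lF [T_d, T_c, T_a, T_d, T_c, T_d, T_c, T_d] M (Nat.sub (T_c u) (Nat.mod (T_c u) M)) (Nat.mod (T_c u) M) u) (Nat.ble (nat_lit 20) j)
noncomputable def dp_c_10 (j u : ℕ) : Bool :=
  Bool.rec (motive := fun _ => Bool) (lS MG [T_a, T_d, T_c, T_d, T_c, T_d, T_c, T_d] M (Nat.sub (T_c u) (Nat.mod (T_c u) M)) (nat_lit 40) (Nat.mod (T_c u) M) u) (lS MG [T_d, T_c, T_d, T_a, T_c, T_d, T_c, T_d] M (Nat.sub (T_c u) (Nat.mod (T_c u) M)) (nat_lit 40) (Nat.mod (T_c u) M) u) (Nat.ble (nat_lit 24) j)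
noncomputable def dp_c_11 (j u : ℕ) : Bool :=
  Bool.rec (motive := fun _ => Bool) (lS MG [T_d, T_c, T_b, T_f, T_v, T_f, T_b, T_c, T_d, T_c, T_b, T_f, T_v, T_f, T_b, T_c, T_d, T_c, T_b, T_f, T_v, T_f, T_b] M (Nat.sub (T_c u) (Nat.mod (T_c u) M)) (nat_lit 40) (Nat.mod (T_c u) M) u) (dp_c_10 j u) (Nat.ble (nat_lit 23) j)
noncomputable def dp_c_12 (j u : ℕ) : Bool :=
  Bool.rec (motive := fun _ => Bool) (lS MG [T_d, T_c, T_d, T_c, T_a, T_d, T_c, T_d] M (Nat.sub (T_c u) (Nat.mod (T_c u) M)) (nat_lit 40) (Nat.mod (T_c u) M) u) (dp_c_11 j u) (Nat.ble (nat_lit 22) j)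
noncomputable def dp_c_13 (j u : ℕ) : Bool :=
  Bool.rec (motive := fun _ => Bool) (dp_c_9 j u) (dp_c_12 j u) (Nat.ble (nat_lit 21) j)
noncomputable def dp_c_14 (j u : ℕ) : Bool :=
  Bool.rec (motive := fun _ => Bool) (lS MG [T_d, T_c, T_b, T_f, T_v, T_b, T_v, T_f, T_b, T_c, T_d, T_c, T_b, T_f, T_b, T_f, T_b] M (Nat.sub (T_c u) (Nat.mod (T_c u) M)) (nat_lit 40) (Nat.mod (T_c u) M) u) (lS MG [T_f, T_b, T_c, T_d, T_c, T_b, T_f, T_v, T_c, T_v, T_f, T_b, T_c, T_d, T_c, T_b, T_f] M (Nat.sub (T_c u) (Nat.mod (T_c u) M)) (nat_lit 40) (Nat.mod (T_c u) M) u) (Nat.ble (nat_lit 26) j)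
noncomputable def dp_c_15 (j u : ℕ) : Bool :=
  Bool.rec (motive := fun _ => Bool) (lF [T_b, T_a, T_v, T_f, T_b, T_c, T_d, T_c, T_b, T_f, T_a, T_b, T_c, T_d, T_f, T_b, T_c, T_d, T_c, T_b, T_f, T_v, T_d] M (Nat.sub (T_c u) (Nat.mod (T_c u) M)) (Nat.mod (T_c u) M) u) (lF [T_d, T_c, T_d, T_c, T_d, T_a, T_c, T_d] M (Nat.sub (T_c u) (Nat.mod (T_c u) M)) (Nat.mod (T_c u) M) u) (Nat.ble (nat_lit 28) j)
noncomputable def dp_c_16 (j u : ℕ) : Bool :=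
  Bool.rec (motive := fun _ => Bool) (dp_c_14 j u) (dp_c_15 j u) (Nat.ble (nat_lit 27) j)
noncomputable def dp_c_17 (j u : ℕ) : Bool :=
  Bool.rec (motive := fun _ => Bool) (lF [T_a, T_d, T_c, T_d, T_c, T_d, T_c, T_d] M (Nat.sub (T_c u) (Nat.mod (T_c u) M)) (Nat.mod (T_c u) M) u) (lS MG [T_d, T_c, T_b, T_f, T_a, T_b, T_c, T_d, T_f, T_b, T_c, T_d, T_c, T_b, T_f, T_v, T_d, T_c, T_b, T_a, T_v, T_f, T_b] M (Nat.sub (T_c u) (Nat.mod (T_c u) M)) (nat_lit 40) (Nat.mod (T_c u) M) u) (Nat.ble (nat_lit 30) j)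
noncomputable def dp_c_18 (j u : ℕ) : Bool :=
  Bool.rec (motive := fun _ => Bool) (lS MG [T_d, T_c, T_d, T_c, T_d, T_a, T_c, T_d] M (Nat.sub (T_c u) (Nat.mod (T_c u) M)) (nat_lit 40) (Nat.mod (T_c u) M) u) (lS MG [T_b, T_f, T_v, T_d, T_c, T_b, T_a, T_v, T_f, T_b, T_c, T_d, T_c, T_b, T_f, T_a, T_b, T_c, T_d, T_f, T_b, T_c, T_d] M (Nat.sub (T_c u) (Nat.mod (T_c u) M)) (nat_lit 40) (Nat.mod (T_c u) M) u) (Nat.ble (nat_lit 33) j)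
noncomputable def dp_c_19 (j u : ℕ) : Bool :=
  Bool.rec (motive := fun _ => Bool) (lS MG [T_d, T_c, T_b, T_f, T_d, T_c, T_b, T_a, T_f, T_b, T_c, T_d, T_c, T_b, T_f, T_v, T_a, T_b, T_c, T_d, T_v, T_f, T_b] M (Nat.sub (T_c u) (Nat.mod (T_c u) M)) (nat_lit 40) (Nat.mod (T_c u) M) u) (dp_c_18 j u) (Nat.ble (nat_lit 32) j)
noncomputable def dp_c_20 (j u : ℕ) : Bool :=
  Bool.rec (motive := fun _ => Bool) (dp_c_17 j u) (dp_c_19 j u) (Nat.ble (nat_lit 31) j)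
noncomputable def dp_c_21 (j u : ℕ) : Bool :=
  Bool.rec (motive := fun _ => Bool) (dp_c_16 j u) (dp_c_20 j u) (Nat.ble (nat_lit 29) j)
noncomputable def dp_c_22 (j u : ℕ) : Bool :=
  Bool.rec (motive := fun _ => Bool) (lS MG [T_d, T_c, T_b, T_f, T_c, T_f, T_b, T_c, T_d, T_c, T_b, T_f, T_v, T_c, T_v, T_f, T_b] M (Nat.sub (T_c u) (Nat.mod (T_c u) M)) (nat_lit 40) (Nat.mod (T_c u) M) u) (lS MG [T_d, T_c, T_b, T_f, T_v, T_d, T_c, T_b, T_a, T_v, T_f, T_b, T_c, T_d, T_c, T_b, T_f, T_a, T_b, T_c, T_d, T_f, T_b] M (Nat.sub (T_c u) (Nat.mod (T_c u) M)) (nat_lit 40) (Nat.mod (T_c u) M) u) (Nat.ble (nat_lit 36) j)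
noncomputable def dp_c_23 (j u : ℕ) : Bool :=
  Bool.rec (motive := fun _ => Bool) (lS MG [T_b, T_f, T_v, T_a, T_b, T_c, T_d, T_v, T_f, T_b, T_c, T_d, T_c, T_b, T_f, T_d, T_c, T_b, T_a, T_f, T_b, T_c, T_d] M (Nat.sub (T_c u) (Nat.mod (T_c u) M)) (nat_lit 40) (Nat.mod (T_c u) M) u) (dp_c_22 j u) (Nat.ble (nat_lit 35) j)
noncomputable def dp_c_24 (j u : ℕ) : Bool :=
  Bool.rec (motive := fun _ => Bool) (lH [] [] M (Nat.sub (T_c u) (Nat.mod (T_c u) M)) (Nat.mod (T_c u) M) u) (lF [T_b, T_a, T_f, T_c, T_b, T_a, T_f, T_c, T_b, T_a, T_f, T_c, T_b, T_a, T_f, T_c, T_b, T_a, T_f] M (Nat.sub (T_c u) (Nat.mod (T_c u) M)) (Nat.mod (T_c u) M) u) (Nat.ble (nat_lit 38) j)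
noncomputable def dp_c_25 (j u : ℕ) : Bool :=
  Bool.rec (motive := fun _ => Bool) (lS MG [T_d, T_c, T_b, T_f, T_e, T_f, T_b, T_c, T_d, T_c, T_b, T_f, T_v, T_f, T_e, T_b, T_c, T_d, T_c, T_b, T_f, T_e, T_v, T_f, T_b] M (Nat.sub (T_c u) (Nat.mod (T_c u) M)) (nat_lit 40) (Nat.mod (T_c u) M) u) (lS MG [T_b, T_a, T_f, T_c, T_b, T_a, T_f, T_c, T_b, T_a, T_f, T_c, T_b, T_a, T_f, T_c, T_b, T_a, T_f] M (Nat.sub (T_c u) (Nat.mod (T_c u) M)) (nat_lit 40) (Nat.mod (T_c u) M) u) (Nat.ble (nat_lit 41) j)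
noncomputable def dp_c_26 (j u : ℕ) : Bool :=
  Bool.rec (motive := fun _ => Bool) (lF [T_b, T_f, T_c, T_f, T_b, T_c, T_d, T_c, T_b, T_f, T_v, T_c, T_v, T_f, T_b, T_c, T_d] M (Nat.sub (T_c u) (Nat.mod (T_c u) M)) (Nat.mod (T_c u) M) u) (dp_c_25 j u) (Nat.ble (nat_lit 40) j)
noncomputable def dp_c_27 (j u : ℕ) : Bool :=
  Bool.rec (motive := fun _ => Bool) (dp_c_24 j u) (dp_c_26 j u) (Nat.ble (nat_lit 39) j)
noncomputable def dp_c_28 (j u : ℕ) : Bool :=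
  Bool.rec (motive := fun _ => Bool) (dp_c_23 j u) (dp_c_27 j u) (Nat.ble (nat_lit 37) j)
noncomputable def dp_c_29 (j u : ℕ) : Bool :=
  Bool.rec (motive := fun _ => Bool) (lS MG [T_b, T_f, T_e, T_v, T_f, T_b, T_c, T_d, T_c, T_b, T_f, T_e, T_f, T_b, T_c, T_d, T_c, T_b, T_f, T_v, T_f, T_e, T_b, T_c, T_d] M (Nat.sub (T_c u) (Nat.mod (T_c u) M)) (nat_lit 40) (Nat.mod (T_c u) M) u) (lF [T_f, T_b, T_c, T_d, T_c, T_b, T_f, T_v, T_c, T_v, T_f, T_b, T_c, T_d, T_c, T_b, T_f] M (Nat.sub (T_c u) (Nat.mod (T_c u) M)) (Nat.mod (T_c u) M) u) (Nat.ble (nat_lit 43) j)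
noncomputable def dp_c_30 (j u : ℕ) : Bool :=
  Bool.rec (motive := fun _ => Bool) (lS MG [T_b, T_f, T_v, T_c, T_v, T_f, T_b, T_c, T_d, T_c, T_b, T_f, T_c, T_f, T_b, T_c, T_d] M (Nat.sub (T_c u) (Nat.mod (T_c u) M)) (nat_lit 40) (Nat.mod (T_c u) M) u) (lS MG [T_d, T_a, T_c, T_d, T_c, T_d, T_c, T_d] M (Nat.sub (T_c u) (Nat.mod (T_c u) M)) (nat_lit 40) (Nat.mod (T_c u) M) u) (Nat.ble (nat_lit 46) j)
noncomputable def dp_c_31 (j u : ℕ) : Bool :=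
  Bool.rec (motive := fun _ => Bool) (lS MG [T_d, T_c, T_b, T_f, T_e, T_v, T_f, T_b, T_c, T_d, T_c, T_b, T_f, T_e, T_f, T_b, T_c, T_d, T_c, T_b, T_f, T_v, T_f, T_e, T_b] M (Nat.sub (T_c u) (Nat.mod (T_c u) M)) (nat_lit 40) (Nat.mod (T_c u) M) u) (dp_c_30 j u) (Nat.ble (nat_lit 45) j)
noncomputable def dp_c_32 (j u : ℕ) : Bool :=
  Bool.rec (motive := fun _ => Bool) (dp_c_29 j u) (dp_c_31 j u) (Nat.ble (nat_lit 44) j)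
noncomputable def dp_c_33 (j u : ℕ) : Bool :=
  Bool.rec (motive := fun _ => Bool) (lF [T_d, T_c, T_d, T_c, T_d, T_c, T_d, T_a] M (Nat.sub (T_c u) (Nat.mod (T_c u) M)) (Nat.mod (T_c u) M) u) (lS MG [T_f, T_a, T_b, T_c, T_f, T_a, T_b, T_c, T_f, T_a, T_b, T_c, T_f, T_a, T_b, T_c, T_f, T_a, T_b] M (Nat.sub (T_c u) (Nat.mod (T_c u) M)) (nat_lit 40) (Nat.mod (T_c u) M) u) (Nat.ble (nat_lit 49) j)
noncomputable def dp_c_34 (j u : ℕ) : Bool :=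
  Bool.rec (motive := fun _ => Bool) (lS MG [T_b, T_f, T_v, T_b, T_v, T_f, T_b, T_c, T_d, T_c, T_b, T_f, T_b, T_f, T_b, T_c, T_d] M (Nat.sub (T_c u) (Nat.mod (T_c u) M)) (nat_lit 40) (Nat.mod (T_c u) M) u) (dp_c_33 j u) (Nat.ble (nat_lit 48) j)
noncomputable def dp_c_35 (j u : ℕ) : Bool :=
  Bool.rec (motive := fun _ => Bool) (lS MG [T_d, T_c, T_b, T_f, T_v, T_a, T_b, T_c, T_d, T_v, T_f, T_b, T_c, T_d, T_c, T_b, T_f, T_d, T_c, T_b, T_a, T_f, T_b] M (Nat.sub (T_c u) (Nat.mod (T_c u) M)) (nat_lit 40) (Nat.mod (T_c u) M) u) (lF [T_d, T_v, T_f, T_b, T_c, T_d, T_c, T_b, T_f, T_d, T_c, T_b, T_a, T_f, T_b, T_c, T_d, T_c, T_b, T_f, T_v, T_a, T_b] M (Nat.sub (T_c u) (Nat.mod (T_c u) M)) (Nat.mod (T_c u) M) u) (Nat.ble (nat_lit 52) j)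
noncomputable def dp_c_36 (j u : ℕ) : Bool :=
  Bool.rec (motive := fun _ => Bool) (lS MG [T_d, T_c, T_b, T_f, T_b, T_f, T_b, T_c, T_d, T_c, T_b, T_f, T_v, T_b, T_v, T_f, T_b] M (Nat.sub (T_c u) (Nat.mod (T_c u) M)) (nat_lit 40) (Nat.mod (T_c u) M) u) (dp_c_35 j u) (Nat.ble (nat_lit 51) j)
noncomputable def dp_c_37 (j u : ℕ) : Bool :=
  Bool.rec (motive := fun _ => Bool) (dp_c_34 j u) (dp_c_36 j u) (Nat.ble (nat_lit 50) j)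
noncomputable def dp_c_38 (j u : ℕ) : Bool :=
  Bool.rec (motive := fun _ => Bool) (dp_c_32 j u) (dp_c_37 j u) (Nat.ble (nat_lit 47) j)
noncomputable def dp_c_39 (j u : ℕ) : Bool :=
  Bool.rec (motive := fun _ => Bool) (dp_c_28 j u) (dp_c_38 j u) (Nat.ble (nat_lit 42) j)
noncomputable def dp_c_40 (j u : ℕ) : Bool :=
  Bool.rec (motive := fun _ => Bool) (dp_c_21 j u) (dp_c_39 j u) (Nat.ble (nat_lit 34) j)
noncomputable def dp_c_41 (j u : ℕ) : Bool :=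
  Bool.rec (motive := fun _ => Bool) (dp_c_13 j u) (dp_c_40 j u) (Nat.ble (nat_lit 25) j)
noncomputable def dp_c_42 (j u : ℕ) : Bool :=
  Bool.rec (motive := fun _ => Bool) (dp_c_8 j u) (dp_c_41 j u) (Nat.ble (nat_lit 19) j)
noncomputable def dp_c_43 (j u : ℕ) : Bool :=
  Bool.rec (motive := fun _ => Bool) (dp_c_5 j u) (dp_c_42 j u) (Nat.ble (nat_lit 15) j)
noncomputable def dp_c_44 (j u : ℕ) : Bool :=
  Bool.rec (motive := fun _ => Bool) (dp_c_3 j u) (dp_c_43 j u) (Nat.ble (nat_lit 12) j)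
noncomputable def dp_c_45 (j u : ℕ) : Bool :=
  Bool.rec (motive := fun _ => Bool) (dp_c_1 j u) (dp_c_44 j u) (Nat.ble (nat_lit 9) j)
noncomputable def dp_c_46 (j u : ℕ) : Bool :=
  Bool.rec (motive := fun _ => Bool) (Bool.rec (motive := fun _ => Bool) (lS MG [T_c] M (Nat.sub (T_c u) (Nat.mod (T_c u) M)) (nat_lit 40) (Nat.mod (T_c u) M) u) (lF3 T_e T_c T_e M (Nat.sub (T_c u) (Nat.mod (T_c u) M)) (Nat.mod (T_c u) M) u) (Nat.ble (nat_lit 5) j)) (dp_c_45 j u) (Nat.ble (nat_lit 6) j)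
noncomputable def dp_c_47 (j u : ℕ) : Bool :=
  Bool.rec (motive := fun _ => Bool) (Bool.rec (motive := fun _ => Bool) (lF1 T_c M (Nat.sub (T_c u) (Nat.mod (T_c u) M)) (Nat.mod (T_c u) M) u) (lF3 T_f T_c T_f M (Nat.sub (T_c u) (Nat.mod (T_c u) M)) (Nat.mod (T_c u) M) u) (Nat.ble (nat_lit 3) j)) (dp_c_46 j u) (Nat.ble (nat_lit 4) j)
noncomputable def disp_c (j u : ℕ) : Bool :=
  Bool.rec (motive := fun _ => Bool) (Bool.rec (motive := fun _ => Bool) (lDef P (nat_lit 2) (Nat.mod (T_c u) M) u) (lDef P (nat_lit 2) u (Nat.mod (T_c u) M)) (Nat.ble (nat_lit 1) j)) (dp_c_47 j u) (Nat.ble (nat_lit 2) j)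
noncomputable def chk_c (j u : ℕ) : Bool :=
  Bool.rec (motive := fun _ => Bool) (disp_c j u) (Nat.ble (Nat.succ (MG u)) A) (Nat.ble A (T_c u))
noncomputable def dp_d_0 (j u : ℕ) : Bool :=
  Bool.rec (motive := fun _ => Bool) (lF3 T_a T_d T_a M (Nat.sub (T_d u) (Nat.mod (T_d u) M)) (Nat.mod (T_d u) M) u) (lS MG [T_b, T_d, T_b] M (Nat.sub (T_d u) (Nat.mod (T_d u) M)) (nat_lit 40) (Nat.mod (T_d u) M) u) (Nat.ble (nat_lit 7) j)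
noncomputable def dp_d_1 (j u : ℕ) : Bool :=
  Bool.rec (motive := fun _ => Bool) (lS MG [T_a, T_d, T_a] M (Nat.sub (T_d u) (Nat.mod (T_d u) M)) (nat_lit 40) (Nat.mod (T_d u) M) u) (lF [T_c, T_d, T_c, T_d, T_a, T_c, T_d, T_c] M (Nat.sub (T_d u) (Nat.mod (T_d u) M)) (Nat.mod (T_d u) M) u) (Nat.ble (nat_lit 10) j)
noncomputable def dp_d_2 (j u : ℕ) : Bool :=
  Bool.rec (motive := fun _ => Bool) (lS MG [T_f, T_d, T_f] M (Nat.sub (T_d u) (Nat.mod (T_d u) M)) (nat_lit 40) (Nat.mod (T_d u) M) u) (dp_d_1 j u) (Nat.ble (nat_lit 9) j)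
noncomputable def dp_d_3 (j u : ℕ) : Bool :=
  Bool.rec (motive := fun _ => Bool) (lS MG [T_c, T_d, T_c, T_d, T_c, T_d, T_c, T_a] M (Nat.sub (T_d u) (Nat.mod (T_d u) M)) (nat_lit 40) (Nat.mod (T_d u) M) u) (lF [T_e, T_d, T_e, T_d, T_e] M (Nat.sub (T_d u) (Nat.mod (T_d u) M)) (Nat.mod (T_d u) M) u) (Nat.ble (nat_lit 12) j)
noncomputable def dp_d_4 (j u : ℕ) : Bool :=
  Bool.rec (motive := fun _ => Bool) (lS MG [T_e, T_d, T_e, T_d, T_e] M (Nat.sub (T_d u) (Nat.mod (T_d u) M)) (nat_lit 40) (Nat.mod (T_d u) M) u) (lS MG [T_c, T_a, T_d, T_c, T_d, T_c, T_d, T_c] M (Nat.sub (T_d u) (Nat.mod (T_d u) M)) (nat_lit 40) (Nat.mod (T_d u) M) u) (Nat.ble (nat_lit 15) j)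
noncomputable def dp_d_5 (j u : ℕ) : Bool :=
  Bool.rec (motive := fun _ => Bool) (lS MG [T_v, T_f, T_b, T_c, T_d, T_c, T_b, T_f, T_d, T_c, T_b, T_a, T_f, T_b, T_c, T_d, T_c, T_b, T_f, T_v, T_a, T_b, T_c] M (Nat.sub (T_d u) (Nat.mod (T_d u) M)) (nat_lit 40) (Nat.mod (T_d u) M) u) (dp_d_4 j u) (Nat.ble (nat_lit 14) j)
noncomputable def dp_d_6 (j u : ℕ) : Bool :=
  Bool.rec (motive := fun _ => Bool) (dp_d_3 j u) (dp_d_5 j u) (Nat.ble (nat_lit 13) j)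
noncomputable def dp_d_7 (j u : ℕ) : Bool :=
  Bool.rec (motive := fun _ => Bool) (lS MG [T_c, T_d, T_c, T_a, T_d, T_c, T_d, T_c] M (Nat.sub (T_d u) (Nat.mod (T_d u) M)) (nat_lit 40) (Nat.mod (T_d u) M) u) (lS MG [T_c, T_b, T_a, T_v, T_f, T_b, T_c, T_d, T_c, T_b, T_f, T_a, T_b, T_c, T_d, T_f, T_b, T_c, T_d, T_c, T_b, T_f, T_v] M (Nat.sub (T_d u) (Nat.mod (T_d u) M)) (nat_lit 40) (Nat.mod (T_d u) M) u) (Nat.ble (nat_lit 17) j)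
noncomputable def dp_d_8 (j u : ℕ) : Bool :=
  Bool.rec (motive := fun _ => Bool) (lF [T_c, T_d, T_c, T_a, T_d, T_c, T_d, T_c] M (Nat.sub (T_d u) (Nat.mod (T_d u) M)) (Nat.mod (T_d u) M) u) (lF [T_c, T_d, T_c, T_d, T_c, T_d, T_c, T_a] M (Nat.sub (T_d u) (Nat.mod (T_d u) M)) (Nat.mod (T_d u) M) u) (Nat.ble (nat_lit 19) j)
noncomputable def dp_d_9 (j u : ℕ) : Bool :=
  Bool.rec (motive := fun _ => Bool) (dp_d_7 j u) (dp_d_8 j u) (Nat.ble (nat_lit 18) j)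
noncomputable def dp_d_10 (j u : ℕ) : Bool :=
  Bool.rec (motive := fun _ => Bool) (lF [T_c, T_a, T_d, T_c, T_d, T_c, T_d, T_c] M (Nat.sub (T_d u) (Nat.mod (T_d u) M)) (Nat.mod (T_d u) M) u) (lF [T_c, T_d, T_c, T_d, T_c, T_a, T_d, T_c] M (Nat.sub (T_d u) (Nat.mod (T_d u) M)) (Nat.mod (T_d u) M) u) (Nat.ble (nat_lit 23) j)
noncomputable def dp_d_11 (j u : ℕ) : Bool :=
  Bool.rec (motive := fun _ => Bool) (lS MG [T_c, T_d, T_c, T_d, T_c, T_a, T_d, T_c] M (Nat.sub (T_d u) (Nat.mod (T_d u) M)) (nat_lit 40) (Nat.mod (T_d u) M) u) (dp_d_10 j u) (Nat.ble (nat_lit 22) j)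
noncomputable def dp_d_12 (j u : ℕ) : Bool :=
  Bool.rec (motive := fun _ => Bool) (lS MG [T_c, T_b, T_f, T_v, T_f, T_b, T_c, T_d, T_c, T_b, T_f, T_v, T_f, T_b, T_c, T_d, T_c, T_b, T_f, T_v, T_f, T_b, T_c] M (Nat.sub (T_d u) (Nat.mod (T_d u) M)) (nat_lit 40) (Nat.mod (T_d u) M) u) (dp_d_11 j u) (Nat.ble (nat_lit 21) j)
noncomputable def dp_d_13 (j u : ℕ) : Bool :=
  Bool.rec (motive := fun _ => Bool) (lF [T_c, T_b, T_f, T_e, T_v, T_f, T_b, T_c, T_d, T_c, T_b, T_f, T_e, T_f, T_b, T_c, T_d, T_c, T_b, T_f, T_v, T_f, T_e, T_b, T_c] M (Nat.sub (T_d u) (Nat.mod (T_d u) M)) (Nat.mod (T_d u) M) u) (lS MG [T_c, T_b, T_f, T_d, T_c, T_b, T_a, T_f, T_b, T_c, T_d, T_c, T_b, T_f, T_v, T_a, T_b, T_c, T_d, T_v, T_f, T_b, T_c] M (Nat.sub (T_d u) (Nat.mod (T_d u) M)) (nat_lit 40) (Nat.mod (T_d u) M) u) (Nat.ble (nat_lit 25) j)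
noncomputable def dp_d_14 (j u : ℕ) : Bool :=
  Bool.rec (motive := fun _ => Bool) (lS MG [T_c, T_b, T_f, T_v, T_d, T_c, T_b, T_a, T_v, T_f, T_b, T_c, T_d, T_c, T_b, T_f, T_a, T_b, T_c, T_d, T_f, T_b, T_c] M (Nat.sub (T_d u) (Nat.mod (T_d u) M)) (nat_lit 40) (Nat.mod (T_d u) M) u) (lS MG [T_a, T_c, T_d, T_c, T_d, T_c, T_d, T_c] M (Nat.sub (T_d u) (Nat.mod (T_d u) M)) (nat_lit 40) (Nat.mod (T_d u) M) u) (Nat.ble (nat_lit 27) j)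
noncomputable def dp_d_15 (j u : ℕ) : Bool :=
  Bool.rec (motive := fun _ => Bool) (dp_d_13 j u) (dp_d_14 j u) (Nat.ble (nat_lit 26) j)
noncomputable def dp_d_16 (j u : ℕ) : Bool :=
  Bool.rec (motive := fun _ => Bool) (lS MG [T_f, T_b, T_c, T_d, T_c, T_b, T_f, T_v, T_d, T_c, T_b, T_a, T_v, T_f, T_b, T_c, T_d, T_c, T_b, T_f, T_a, T_b, T_c] M (Nat.sub (T_d u) (Nat.mod (T_d u) M)) (nat_lit 40) (Nat.mod (T_d u) M) u) (lH [] [] M (Nat.sub (T_d u) (Nat.mod (T_d u) M)) (Nat.mod (T_d u) M) u) (Nat.ble (nat_lit 30) j)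
noncomputable def dp_d_17 (j u : ℕ) : Bool :=
  Bool.rec (motive := fun _ => Bool) (lS MG [T_c, T_d, T_c, T_d, T_c, T_d, T_a, T_c] M (Nat.sub (T_d u) (Nat.mod (T_d u) M)) (nat_lit 40) (Nat.mod (T_d u) M) u) (dp_d_16 j u) (Nat.ble (nat_lit 29) j)
noncomputable def dp_d_18 (j u : ℕ) : Bool :=
  Bool.rec (motive := fun _ => Bool) (lS MG [T_c, T_b, T_f, T_e, T_v, T_f, T_b, T_c, T_d, T_c, T_b, T_f, T_e, T_f, T_b, T_c, T_d, T_c, T_b, T_f, T_v, T_f, T_e, T_b, T_c] M (Nat.sub (T_d u) (Nat.mod (T_d u) M)) (nat_lit 40) (Nat.mod (T_d u) M) u) (lS MG [T_c, T_b, T_f, T_v, T_c, T_v, T_f, T_b, T_c, T_d, T_c, T_b, T_f, T_c, T_f, T_b, T_c] M (Nat.sub (T_d u) (Nat.mod (T_d u) M)) (nat_lit 40) (Nat.mod (T_d u) M) u) (Nat.ble (nat_lit 32) j)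
noncomputable def dp_d_19 (j u : ℕ) : Bool :=
  Bool.rec (motive := fun _ => Bool) (lS MG [T_c, T_d, T_a, T_c, T_d, T_c, T_d, T_c] M (Nat.sub (T_d u) (Nat.mod (T_d u) M)) (nat_lit 40) (Nat.mod (T_d u) M) u) (lS MG [T_c, T_b, T_f, T_v, T_a, T_b, T_c, T_d, T_v, T_f, T_b, T_c, T_d, T_c, T_b, T_f, T_d, T_c, T_b, T_a, T_f, T_b, T_c] M (Nat.sub (T_d u) (Nat.mod (T_d u) M)) (nat_lit 40) (Nat.mod (T_d u) M) u) (Nat.ble (nat_lit 35) j)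
noncomputable def dp_d_20 (j u : ℕ) : Bool :=
  Bool.rec (motive := fun _ => Bool) (lF [T_c, T_d, T_a, T_c, T_d, T_c, T_d, T_c] M (Nat.sub (T_d u) (Nat.mod (T_d u) M)) (Nat.mod (T_d u) M) u) (dp_d_19 j u) (Nat.ble (nat_lit 34) j)
noncomputable def dp_d_21 (j u : ℕ) : Bool :=
  Bool.rec (motive := fun _ => Bool) (dp_d_18 j u) (dp_d_20 j u) (Nat.ble (nat_lit 33) j)
noncomputable def dp_d_22 (j u : ℕ) : Bool :=
  Bool.rec (motive := fun _ => Bool) (dp_d_17 j u) (dp_d_21 j u) (Nat.ble (nat_lit 31) j)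
noncomputable def dp_d_23 (j u : ℕ) : Bool :=
  Bool.rec (motive := fun _ => Bool) (dp_d_15 j u) (dp_d_22 j u) (Nat.ble (nat_lit 28) j)
noncomputable def dp_d_24 (j u : ℕ) : Bool :=
  Bool.rec (motive := fun _ => Bool) (dp_d_12 j u) (dp_d_23 j u) (Nat.ble (nat_lit 24) j)
noncomputable def dp_d_25 (j u : ℕ) : Bool :=
  Bool.rec (motive := fun _ => Bool) (dp_d_9 j u) (dp_d_24 j u) (Nat.ble (nat_lit 20) j)
noncomputable def dp_d_26 (j u : ℕ) : Bool :=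
  Bool.rec (motive := fun _ => Bool) (dp_d_6 j u) (dp_d_25 j u) (Nat.ble (nat_lit 16) j)
noncomputable def dp_d_27 (j u : ℕ) : Bool :=
  Bool.rec (motive := fun _ => Bool) (dp_d_2 j u) (dp_d_26 j u) (Nat.ble (nat_lit 11) j)
noncomputable def dp_d_28 (j u : ℕ) : Bool :=
  Bool.rec (motive := fun _ => Bool) (dp_d_0 j u) (dp_d_27 j u) (Nat.ble (nat_lit 8) j)
noncomputable def dp_d_29 (j u : ℕ) : Bool :=
  Bool.rec (motive := fun _ => Bool) (lS MG [T_d] M (Nat.sub (T_d u) (Nat.mod (T_d u) M)) (nat_lit 40) (Nat.mod (T_d u) M) u) (dp_d_28 j u) (Nat.ble (nat_lit 6) j)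
noncomputable def dp_d_30 (j u : ℕ) : Bool :=
  Bool.rec (motive := fun _ => Bool) (Bool.rec (motive := fun _ => Bool) (lF3 T_f T_d T_f M (Nat.sub (T_d u) (Nat.mod (T_d u) M)) (Nat.mod (T_d u) M) u) (lF3 T_b T_d T_b M (Nat.sub (T_d u) (Nat.mod (T_d u) M)) (Nat.mod (T_d u) M) u) (Nat.ble (nat_lit 4) j)) (dp_d_29 j u) (Nat.ble (nat_lit 5) j)
noncomputable def dp_d_31 (j u : ℕ) : Bool :=
  Bool.rec (motive := fun _ => Bool) (lF1 T_d M (Nat.sub (T_d u) (Nat.mod (T_d u) M)) (Nat.mod (T_d u) M) u) (dp_d_30 j u) (Nat.ble (nat_lit 3) j)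
noncomputable def disp_d (j u : ℕ) : Bool :=
  Bool.rec (motive := fun _ => Bool) (Bool.rec (motive := fun _ => Bool) (lDef P (nat_lit 3) (Nat.mod (T_d u) M) u) (lDef P (nat_lit 3) u (Nat.mod (T_d u) M)) (Nat.ble (nat_lit 1) j)) (dp_d_31 j u) (Nat.ble (nat_lit 2) j)
noncomputable def chk_d (j u : ℕ) : Bool :=
  Bool.rec (motive := fun _ => Bool) (disp_d j u) (Nat.ble (Nat.succ (MG u)) A) (Nat.ble A (T_d u))
noncomputable def dp_e_0 (j u : ℕ) : Bool :=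
  Bool.rec (motive := fun _ => Bool) (lF3 T_b T_e T_b M (Nat.sub (T_e u) (Nat.mod (T_e u) M)) (Nat.mod (T_e u) M) u) (lS MG [T_e] M (Nat.sub (T_e u) (Nat.mod (T_e u) M)) (nat_lit 40) (Nat.mod (T_e u) M) u) (Nat.ble (nat_lit 5) j)
noncomputable def dp_e_1 (j u : ℕ) : Bool :=
  Bool.rec (motive := fun _ => Bool) (lF3 T_c T_e T_c M (Nat.sub (T_e u) (Nat.mod (T_e u) M)) (Nat.mod (T_e u) M) u) (lF3 T_a T_e T_a M (Nat.sub (T_e u) (Nat.mod (T_e u) M)) (Nat.mod (T_e u) M) u) (Nat.ble (nat_lit 7) j)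
noncomputable def dp_e_2 (j u : ℕ) : Bool :=
  Bool.rec (motive := fun _ => Bool) (lF [T_d, T_e, T_d, T_e, T_d] M (Nat.sub (T_e u) (Nat.mod (T_e u) M)) (Nat.mod (T_e u) M) u) (lS MG [T_b, T_e, T_b] M (Nat.sub (T_e u) (Nat.mod (T_e u) M)) (nat_lit 40) (Nat.mod (T_e u) M) u) (Nat.ble (nat_lit 9) j)
noncomputable def dp_e_3 (j u : ℕ) : Bool :=
  Bool.rec (motive := fun _ => Bool) (lH [] [] M (Nat.sub (T_e u) (Nat.mod (T_e u) M)) (Nat.mod (T_e u) M) u) (lF [T_f, T_b, T_c, T_d, T_c, T_b, T_f, T_v, T_f, T_e, T_b, T_c, T_d, T_c, T_b, T_f, T_e, T_v, T_f, T_b, T_c, T_d, T_c, T_b, T_f] M (Nat.sub (T_e u) (Nat.mod (T_e u) M)) (Nat.mod (T_e u) M) u) (Nat.ble (nat_lit 15) j)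
noncomputable def dp_e_4 (j u : ℕ) : Bool :=
  Bool.rec (motive := fun _ => Bool) (lS MG [T_d, T_e, T_d, T_e, T_d] M (Nat.sub (T_e u) (Nat.mod (T_e u) M)) (nat_lit 40) (Nat.mod (T_e u) M) u) (dp_e_3 j u) (Nat.ble (nat_lit 14) j)
noncomputable def dp_e_5 (j u : ℕ) : Bool :=
  Bool.rec (motive := fun _ => Bool) (lS MG [T_c, T_e, T_c] M (Nat.sub (T_e u) (Nat.mod (T_e u) M)) (nat_lit 40) (Nat.mod (T_e u) M) u) (dp_e_4 j u) (Nat.ble (nat_lit 13) j)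
noncomputable def dp_e_6 (j u : ℕ) : Bool :=
  Bool.rec (motive := fun _ => Bool) (lS MG [T_a, T_e, T_a] M (Nat.sub (T_e u) (Nat.mod (T_e u) M)) (nat_lit 40) (Nat.mod (T_e u) M) u) (dp_e_5 j u) (Nat.ble (nat_lit 12) j)
noncomputable def dp_e_7 (j u : ℕ) : Bool :=
  Bool.rec (motive := fun _ => Bool) (lS MG [T_f, T_e, T_f] M (Nat.sub (T_e u) (Nat.mod (T_e u) M)) (nat_lit 40) (Nat.mod (T_e u) M) u) (dp_e_6 j u) (Nat.ble (nat_lit 11) j)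
noncomputable def dp_e_8 (j u : ℕ) : Bool :=
  Bool.rec (motive := fun _ => Bool) (dp_e_2 j u) (dp_e_7 j u) (Nat.ble (nat_lit 10) j)
noncomputable def dp_e_9 (j u : ℕ) : Bool :=
  Bool.rec (motive := fun _ => Bool) (dp_e_1 j u) (dp_e_8 j u) (Nat.ble (nat_lit 8) j)
noncomputable def dp_e_10 (j u : ℕ) : Bool :=
  Bool.rec (motive := fun _ => Bool) (dp_e_0 j u) (dp_e_9 j u) (Nat.ble (nat_lit 6) j)
noncomputable def dp_e_11 (j u : ℕ) : Bool :=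
  Bool.rec (motive := fun _ => Bool) (Bool.rec (motive := fun _ => Bool) (lF1 T_e M (Nat.sub (T_e u) (Nat.mod (T_e u) M)) (Nat.mod (T_e u) M) u) (lF3 T_f T_e T_f M (Nat.sub (T_e u) (Nat.mod (T_e u) M)) (Nat.mod (T_e u) M) u) (Nat.ble (nat_lit 3) j)) (dp_e_10 j u) (Nat.ble (nat_lit 4) j)
noncomputable def disp_e (j u : ℕ) : Bool :=
  Bool.rec (motive := fun _ => Bool) (Bool.rec (motive := fun _ => Bool) (lDef P (nat_lit 4) (Nat.mod (T_e u) M) u) (lDef P (nat_lit 4) u (Nat.mod (T_e u) M)) (Nat.ble (nat_lit 1) j)) (dp_e_11 j u) (Nat.ble (nat_lit 2) j)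
noncomputable def chk_e (j u : ℕ) : Bool :=
  Bool.rec (motive := fun _ => Bool) (disp_e j u) (Nat.ble (Nat.succ (MG u)) A) (Nat.ble A (T_e u))
noncomputable def dp_f_0 (j u : ℕ) : Bool :=
  Bool.rec (motive := fun _ => Bool) (lF3 T_d T_f T_d M (Nat.sub (T_f u) (Nat.mod (T_f u) M)) (Nat.mod (T_f u) M) u) (lF3 T_a T_f T_a M (Nat.sub (T_f u) (Nat.mod (T_f u) M)) (Nat.mod (T_f u) M) u) (Nat.ble (nat_lit 6) j)
noncomputable def dp_f_1 (j u : ℕ) : Bool :=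
  Bool.rec (motive := fun _ => Bool) (lF3 T_c T_f T_c M (Nat.sub (T_f u) (Nat.mod (T_f u) M)) (Nat.mod (T_f u) M) u) (dp_f_0 j u) (Nat.ble (nat_lit 5) j)
noncomputable def dp_f_2 (j u : ℕ) : Bool :=
  Bool.rec (motive := fun _ => Bool) (lF [T_b, T_f, T_b, T_f, T_b] M (Nat.sub (T_f u) (Nat.mod (T_f u) M)) (Nat.mod (T_f u) M) u) (lF3 T_e T_f T_e M (Nat.sub (T_f u) (Nat.mod (T_f u) M)) (Nat.mod (T_f u) M) u) (Nat.ble (nat_lit 8) j)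
noncomputable def dp_f_3 (j u : ℕ) : Bool :=
  Bool.rec (motive := fun _ => Bool) (lS MG [T_c, T_f, T_c] M (Nat.sub (T_f u) (Nat.mod (T_f u) M)) (nat_lit 40) (Nat.mod (T_f u) M) u) (lS MG [T_e, T_f, T_e] M (Nat.sub (T_f u) (Nat.mod (T_f u) M)) (nat_lit 40) (Nat.mod (T_f u) M) u) (Nat.ble (nat_lit 11) j)
noncomputable def dp_f_4 (j u : ℕ) : Bool :=
  Bool.rec (motive := fun _ => Bool) (lS MG [T_d, T_f, T_d] M (Nat.sub (T_f u) (Nat.mod (T_f u) M)) (nat_lit 40) (Nat.mod (T_f u) M) u) (dp_f_3 j u) (Nat.ble (nat_lit 10) j)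
noncomputable def dp_f_5 (j u : ℕ) : Bool :=
  Bool.rec (motive := fun _ => Bool) (lS MG [T_b, T_f, T_b, T_f, T_b] M (Nat.sub (T_f u) (Nat.mod (T_f u) M)) (nat_lit 40) (Nat.mod (T_f u) M) u) (lS MG [T_a, T_f, T_a] M (Nat.sub (T_f u) (Nat.mod (T_f u) M)) (nat_lit 40) (Nat.mod (T_f u) M) u) (Nat.ble (nat_lit 13) j)
noncomputable def dp_f_6 (j u : ℕ) : Bool :=
  Bool.rec (motive := fun _ => Bool) (lS MG [T_v, T_b, T_v, T_f, T_b, T_c, T_d, T_c, T_b, T_f, T_b, T_f, T_b, T_c, T_d, T_c, T_b] M (Nat.sub (T_f u) (Nat.mod (T_f u) M)) (nat_lit 40) (Nat.mod (T_f u) M) u) (lS MG [T_v, T_c, T_v, T_f, T_b, T_c, T_d, T_c, T_b, T_f, T_c, T_f, T_b, T_c, T_d, T_c, T_b] M (Nat.sub (T_f u) (Nat.mod (T_f u) M)) (nat_lit 40) (Nat.mod (T_f u) M) u) (Nat.ble (nat_lit 15) j)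
noncomputable def dp_f_7 (j u : ℕ) : Bool :=
  Bool.rec (motive := fun _ => Bool) (lS MG [T_v, T_d, T_c, T_b, T_a, T_v, T_f, T_b, T_c, T_d, T_c, T_b, T_f, T_a, T_b, T_c, T_d, T_f, T_b, T_c, T_d, T_c, T_b] M (Nat.sub (T_f u) (Nat.mod (T_f u) M)) (nat_lit 40) (Nat.mod (T_f u) M) u) (lS MG [T_b, T_c, T_d, T_c, T_b, T_f, T_b, T_f, T_b, T_c, T_d, T_c, T_b, T_f, T_v, T_b, T_v] M (Nat.sub (T_f u) (Nat.mod (T_f u) M)) (nat_lit 40) (Nat.mod (T_f u) M) u) (Nat.ble (nat_lit 17) j)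
noncomputable def dp_f_8 (j u : ℕ) : Bool :=
  Bool.rec (motive := fun _ => Bool) (dp_f_6 j u) (dp_f_7 j u) (Nat.ble (nat_lit 16) j)
noncomputable def dp_f_9 (j u : ℕ) : Bool :=
  Bool.rec (motive := fun _ => Bool) (lS MG [T_b, T_c, T_d, T_c, T_b, T_f, T_a, T_b, T_c, T_d, T_f, T_b, T_c, T_d, T_c, T_b, T_f, T_v, T_d, T_c, T_b, T_a, T_v] M (Nat.sub (T_f u) (Nat.mod (T_f u) M)) (nat_lit 40) (Nat.mod (T_f u) M) u) (lS MG [T_v, T_a, T_b, T_c, T_d, T_v, T_f, T_b, T_c, T_d, T_c, T_b, T_f, T_d, T_c, T_b, T_a, T_f, T_b, T_c, T_d, T_c, T_b] M (Nat.sub (T_f u) (Nat.mod (T_f u) M)) (nat_lit 40) (Nat.mod (T_f u) M) u) (Nat.ble (nat_lit 19) j)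
noncomputable def dp_f_10 (j u : ℕ) : Bool :=
  Bool.rec (motive := fun _ => Bool) (lS MG [T_b, T_c, T_d, T_c, T_b, T_f, T_c, T_f, T_b, T_c, T_d, T_c, T_b, T_f, T_v, T_c, T_v] M (Nat.sub (T_f u) (Nat.mod (T_f u) M)) (nat_lit 40) (Nat.mod (T_f u) M) u) (lF [T_c, T_b, T_a, T_f, T_c, T_b, T_a, T_f, T_c, T_b, T_a, T_f, T_c, T_b, T_a, T_f, T_c, T_b, T_a] M (Nat.sub (T_f u) (Nat.mod (T_f u) M)) (Nat.mod (T_f u) M) u) (Nat.ble (nat_lit 21) j)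
noncomputable def dp_f_11 (j u : ℕ) : Bool :=
  Bool.rec (motive := fun _ => Bool) (dp_f_9 j u) (dp_f_10 j u) (Nat.ble (nat_lit 20) j)
noncomputable def dp_f_12 (j u : ℕ) : Bool :=
  Bool.rec (motive := fun _ => Bool) (lF [T_v, T_b, T_v, T_f, T_b, T_c, T_d, T_c, T_b, T_f, T_b, T_f, T_b, T_c, T_d, T_c, T_b] M (Nat.sub (T_f u) (Nat.mod (T_f u) M)) (Nat.mod (T_f u) M) u) (lF [T_b, T_c, T_d, T_c, T_b, T_f, T_c, T_f, T_b, T_c, T_d, T_c, T_b, T_f, T_v, T_c, T_v] M (Nat.sub (T_f u) (Nat.mod (T_f u) M)) (Nat.mod (T_f u) M) u) (Nat.ble (nat_lit 23) j)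
noncomputable def dp_f_13 (j u : ℕ) : Bool :=
  Bool.rec (motive := fun _ => Bool) (lS MG [T_v, T_f, T_b, T_c, T_d, T_c, T_b, T_f, T_v, T_f, T_b, T_c, T_d, T_c, T_b, T_f, T_v, T_f, T_b, T_c, T_d, T_c, T_b] M (Nat.sub (T_f u) (Nat.mod (T_f u) M)) (nat_lit 40) (Nat.mod (T_f u) M) u) (lH [] [] M (Nat.sub (T_f u) (Nat.mod (T_f u) M)) (Nat.mod (T_f u) M) u) (Nat.ble (nat_lit 26) j)
noncomputable def dp_f_14 (j u : ℕ) : Bool :=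
  Bool.rec (motive := fun _ => Bool) (lF [T_b, T_c, T_d, T_c, T_b, T_f, T_b, T_f, T_b, T_c, T_d, T_c, T_b, T_f, T_v, T_b, T_v] M (Nat.sub (T_f u) (Nat.mod (T_f u) M)) (Nat.mod (T_f u) M) u) (dp_f_13 j u) (Nat.ble (nat_lit 25) j)
noncomputable def dp_f_15 (j u : ℕ) : Bool :=
  Bool.rec (motive := fun _ => Bool) (dp_f_12 j u) (dp_f_14 j u) (Nat.ble (nat_lit 24) j)
noncomputable def dp_f_16 (j u : ℕ) : Bool :=
  Bool.rec (motive := fun _ => Bool) (lF [T_v, T_d, T_c, T_b, T_a, T_v, T_f, T_b, T_c, T_d, T_c, T_b, T_f, T_a, T_b, T_c, T_d, T_f, T_b, T_c, T_d, T_c, T_b] M (Nat.sub (T_f u) (Nat.mod (T_f u) M)) (Nat.mod (T_f u) M) u) (lF [T_b, T_c, T_d, T_c, T_b, T_f, T_a, T_b, T_c, T_d, T_f, T_b, T_c, T_d, T_c, T_b, T_f, T_v, T_d, T_c, T_b, T_a, T_v] M (Nat.sub (T_f u) (Nat.mod (T_f u) M)) (Nat.mod (T_f u) M) u) (Nat.ble (nat_lit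 28) j)
noncomputable def dp_f_17 (j u : ℕ) : Bool :=
  Bool.rec (motive := fun _ => Bool) (lF [T_v, T_c, T_v, T_f, T_b, T_c, T_d, T_c, T_b, T_f, T_c, T_f, T_b, T_c, T_d, T_c, T_b] M (Nat.sub (T_f u) (Nat.mod (T_f u) M)) (Nat.mod (T_f u) M) u) (lS MG [T_b, T_c, T_d, T_c, T_b, T_f, T_v, T_a, T_b, T_c, T_d, T_v, T_f, T_b, T_c, T_d, T_c, T_b, T_f, T_d, T_c, T_b, T_a] M (Nat.sub (T_f u) (Nat.mod (T_f u) M)) (nat_lit 40) (Nat.mod (T_f u) M) u) (Nat.ble (nat_lit 31) j)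
noncomputable def dp_f_18 (j u : ℕ) : Bool :=
  Bool.rec (motive := fun _ => Bool) (lS MG [T_a, T_b, T_c, T_f, T_a, T_b, T_c, T_f, T_a, T_b, T_c, T_f, T_a, T_b, T_c, T_f, T_a, T_b, T_c] M (Nat.sub (T_f u) (Nat.mod (T_f u) M)) (nat_lit 40) (Nat.mod (T_f u) M) u) (dp_f_17 j u) (Nat.ble (nat_lit 30) j)
noncomputable def dp_f_19 (j u : ℕ) : Bool :=
  Bool.rec (motive := fun _ => Bool) (dp_f_16 j u) (dp_f_18 j u) (Nat.ble (nat_lit 29) j)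
noncomputable def dp_f_20 (j u : ℕ) : Bool :=
  Bool.rec (motive := fun _ => Bool) (lS MG [T_d, T_c, T_b, T_a, T_f, T_b, T_c, T_d, T_c, T_b, T_f, T_v, T_a, T_b, T_c, T_d, T_v, T_f, T_b, T_c, T_d, T_c, T_b] M (Nat.sub (T_f u) (Nat.mod (T_f u) M)) (nat_lit 40) (Nat.mod (T_f u) M) u) (lS MG [T_c, T_b, T_a, T_f, T_c, T_b, T_a, T_f, T_c, T_b, T_a, T_f, T_c, T_b, T_a, T_f, T_c, T_b, T_a] M (Nat.sub (T_f u) (Nat.mod (T_f u) M)) (nat_lit 40) (Nat.mod (T_f u) M) u) (Nat.ble (nat_lit 33) j)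
noncomputable def dp_f_21 (j u : ℕ) : Bool :=
  Bool.rec (motive := fun _ => Bool) (lS MG [T_b, T_c, T_d, T_c, T_b, T_f, T_v, T_f, T_b, T_c, T_d, T_c, T_b, T_f, T_v, T_f, T_b, T_c, T_d, T_c, T_b, T_f, T_v] M (Nat.sub (T_f u) (Nat.mod (T_f u) M)) (nat_lit 40) (Nat.mod (T_f u) M) u) (lF [T_b, T_c, T_d, T_c, T_b, T_f, T_d, T_c, T_b, T_a, T_f, T_b, T_c, T_d, T_c, T_b, T_f, T_v, T_a, T_b, T_c, T_d, T_v] M (Nat.sub (T_f u) (Nat.mod (T_f u) M)) (Nat.mod (T_f u) M) u) (Nat.ble (nat_lit 36) j)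
noncomputable def dp_f_22 (j u : ℕ) : Bool :=
  Bool.rec (motive := fun _ => Bool) (lS MG [T_b, T_c, T_d, T_c, T_b, T_f, T_d, T_c, T_b, T_a, T_f, T_b, T_c, T_d, T_c, T_b, T_f, T_v, T_a, T_b, T_c, T_d, T_v] M (Nat.sub (T_f u) (Nat.mod (T_f u) M)) (nat_lit 40) (Nat.mod (T_f u) M) u) (dp_f_21 j u) (Nat.ble (nat_lit 35) j)
noncomputable def dp_f_23 (j u : ℕ) : Bool :=
  Bool.rec (motive := fun _ => Bool) (dp_f_20 j u) (dp_f_22 j u) (Nat.ble (nat_lit 34) j)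
noncomputable def dp_f_24 (j u : ℕ) : Bool :=
  Bool.rec (motive := fun _ => Bool) (dp_f_19 j u) (dp_f_23 j u) (Nat.ble (nat_lit 32) j)
noncomputable def dp_f_25 (j u : ℕ) : Bool :=
  Bool.rec (motive := fun _ => Bool) (dp_f_15 j u) (dp_f_24 j u) (Nat.ble (nat_lit 27) j)
noncomputable def dp_f_26 (j u : ℕ) : Bool :=
  Bool.rec (motive := fun _ => Bool) (dp_f_11 j u) (dp_f_25 j u) (Nat.ble (nat_lit 22) j)
noncomputable def dp_f_27 (j u : ℕ) : Bool :=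
  Bool.rec (motive := fun _ => Bool) (dp_f_8 j u) (dp_f_26 j u) (Nat.ble (nat_lit 18) j)
noncomputable def dp_f_28 (j u : ℕ) : Bool :=
  Bool.rec (motive := fun _ => Bool) (dp_f_5 j u) (dp_f_27 j u) (Nat.ble (nat_lit 14) j)
noncomputable def dp_f_29 (j u : ℕ) : Bool :=
  Bool.rec (motive := fun _ => Bool) (dp_f_4 j u) (dp_f_28 j u) (Nat.ble (nat_lit 12) j)
noncomputable def dp_f_30 (j u : ℕ) : Bool :=
  Bool.rec (motive := fun _ => Bool) (dp_f_2 j u) (dp_f_29 j u) (Nat.ble (nat_lit 9) j)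
noncomputable def dp_f_31 (j u : ℕ) : Bool :=
  Bool.rec (motive := fun _ => Bool) (dp_f_1 j u) (dp_f_30 j u) (Nat.ble (nat_lit 7) j)
noncomputable def dp_f_32 (j u : ℕ) : Bool :=
  Bool.rec (motive := fun _ => Bool) (Bool.rec (motive := fun _ => Bool) (lF1 T_f M (Nat.sub (T_f u) (Nat.mod (T_f u) M)) (Nat.mod (T_f u) M) u) (lS MG [T_f] M (Nat.sub (T_f u) (Nat.mod (T_f u) M)) (nat_lit 40) (Nat.mod (T_f u) M) u) (Nat.ble (nat_lit 3) j)) (dp_f_31 j u) (Nat.ble (nat_lit 4) j)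
noncomputable def disp_f (j u : ℕ) : Bool :=
  Bool.rec (motive := fun _ => Bool) (lDef P (nat_lit 5) (Nat.mod (T_f u) M) u) (Bool.rec (motive := fun _ => Bool) (lDef P (nat_lit 5) u (Nat.mod (T_f u) M)) (dp_f_32 j u) (Nat.ble (nat_lit 2) j)) (Nat.ble (nat_lit 1) j)
noncomputable def chk_f (j u : ℕ) : Bool :=
  Bool.rec (motive := fun _ => Bool) (disp_f j u) (Nat.ble (Nat.succ (MG u)) A) (Nat.ble A (T_f u))
noncomputable def dp_v_0 (j u : ℕ) : Bool :=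
  Bool.rec (motive := fun _ => Bool) (lF1 T_v M (Nat.sub (T_v u) (Nat.mod (T_v u) M)) (Nat.mod (T_v u) M) u) (lS MG [T_v] M (Nat.sub (T_v u) (Nat.mod (T_v u) M)) (nat_lit 40) (Nat.mod (T_v u) M) u) (Nat.ble (nat_lit 3) j)
noncomputable def dp_v_1 (j u : ℕ) : Bool :=
  Bool.rec (motive := fun _ => Bool) (lS MG [T_f, T_b, T_c, T_d, T_c, T_b, T_f, T_c, T_f, T_b, T_c, T_d, T_c, T_b, T_f, T_v, T_c] M (Nat.sub (T_v u) (Nat.mod (T_v u) M)) (nat_lit 40) (Nat.mod (T_v u) M) u) (lS MG [T_b, T_v, T_f, T_b, T_c, T_d, T_c, T_b, T_f, T_b, T_f, T_b, T_c, T_d, T_c, T_b, T_f] M (Nat.sub (T_v u) (Nat.mod (T_v u) M)) (nat_lit 40) (Nat.mod (T_v u) M) u) (Nat.ble (nat_lit 6) j)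
noncomputable def dp_v_2 (j u : ℕ) : Bool :=
  Bool.rec (motive := fun _ => Bool) (lS MG [T_f, T_b, T_c, T_d, T_c, T_b, T_f, T_b, T_f, T_b, T_c, T_d, T_c, T_b, T_f, T_v, T_b] M (Nat.sub (T_v u) (Nat.mod (T_v u) M)) (nat_lit 40) (Nat.mod (T_v u) M) u) (dp_v_1 j u) (Nat.ble (nat_lit 5) j)
noncomputable def dp_v_3 (j u : ℕ) : Bool :=
  Bool.rec (motive := fun _ => Bool) (lS MG [T_d, T_c, T_b, T_a, T_v, T_f, T_b, T_c, T_d, T_c, T_b, T_f, T_a, T_b, T_c, T_d, T_f, T_b, T_c, T_d, T_c, T_b, T_f] M (Nat.sub (T_v u) (Nat.mod (T_v u) M)) (nat_lit 40) (Nat.mod (T_v u) M) u) (lS MG [T_f, T_b, T_c, T_d, T_c, T_b, T_f, T_d, T_c, T_b, T_a, T_f, T_b, T_c, T_d, T_c, T_b, T_f, T_v, T_a, T_b, T_c, T_d] M (Nat.sub (T_v u) (Nat.mod (T_v u) M)) (nat_lit 40) (Nat.mod (T_v u) M) u) (Nat.ble (nat_lit 9) j)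
noncomputable def dp_v_4 (j u : ℕ) : Bool :=
  Bool.rec (motive := fun _ => Bool) (lS MG [T_c, T_v, T_f, T_b, T_c, T_d, T_c, T_b, T_f, T_c, T_f, T_b, T_c, T_d, T_c, T_b, T_f] M (Nat.sub (T_v u) (Nat.mod (T_v u) M)) (nat_lit 40) (Nat.mod (T_v u) M) u) (dp_v_3 j u) (Nat.ble (nat_lit 8) j)
noncomputable def dp_v_5 (j u : ℕ) : Bool :=
  Bool.rec (motive := fun _ => Bool) (lS MG [T_a, T_b, T_c, T_d, T_v, T_f, T_b, T_c, T_d, T_c, T_b, T_f, T_d, T_c, T_b, T_a, T_f, T_b, T_c, T_d, T_c, T_b, T_f] M (Nat.sub (T_v u) (Nat.mod (T_v u) M)) (nat_lit 40) (Nat.mod (T_v u) M) u) (lF [T_f, T_b, T_c, T_d, T_c, T_b, T_f, T_c, T_f, T_b, T_c, T_d, T_c, T_b, T_f, T_v, T_c] M (Nat.sub (T_v u) (Nat.mod (T_v u) M)) (Nat.mod (T_v u) M) u) (Nat.ble (nat_lit 12) j)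
noncomputable def dp_v_6 (j u : ℕ) : Bool :=
  Bool.rec (motive := fun _ => Bool) (lS MG [T_f, T_b, T_c, T_d, T_c, T_b, T_f, T_a, T_b, T_c, T_d, T_f, T_b, T_c, T_d, T_c, T_b, T_f, T_v, T_d, T_c, T_b, T_a] M (Nat.sub (T_v u) (Nat.mod (T_v u) M)) (nat_lit 40) (Nat.mod (T_v u) M) u) (dp_v_5 j u) (Nat.ble (nat_lit 11) j)
noncomputable def dp_v_7 (j u : ℕ) : Bool :=
  Bool.rec (motive := fun _ => Bool) (lF [T_c, T_v, T_f, T_b, T_c, T_d, T_c, T_b, T_f, T_c, T_f, T_b, T_c, T_d, T_c, T_b, T_f] M (Nat.sub (T_v u) (Nat.mod (T_v u) M)) (Nat.mod (T_v u) M) u) (lF [T_f, T_b, T_c, T_d, T_c, T_b, T_f, T_b, T_f, T_b, T_c, T_d, T_c, T_b, T_f, T_v, T_b] M (Nat.sub (T_v u) (Nat.mod (T_v u) M)) (Nat.mod (T_v u) M) u) (Nat.ble (nat_lit 14) j)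
noncomputable def dp_v_8 (j u : ℕ) : Bool :=
  Bool.rec (motive := fun _ => Bool) (lS MG [T_f, T_b, T_c, T_d, T_c, T_b, T_f, T_v, T_f, T_b, T_c, T_d, T_c, T_b, T_f, T_v, T_f, T_b, T_c, T_d, T_c, T_b, T_f] M (Nat.sub (T_v u) (Nat.mod (T_v u) M)) (nat_lit 40) (Nat.mod (T_v u) M) u) (lF [T_b, T_v, T_f, T_b, T_c, T_d, T_c, T_b, T_f, T_b, T_f, T_b, T_c, T_d, T_c, T_b, T_f] M (Nat.sub (T_v u) (Nat.mod (T_v u) M)) (Nat.mod (T_v u) M) u) (Nat.ble (nat_lit 16) j)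
noncomputable def dp_v_9 (j u : ℕ) : Bool :=
  Bool.rec (motive := fun _ => Bool) (lS MG [T_f, T_b, T_c, T_d, T_c, T_b, T_f, T_e, T_f, T_b, T_c, T_d, T_c, T_b, T_f, T_v, T_f, T_e, T_b, T_c, T_d, T_c, T_b, T_f, T_e] M (Nat.sub (T_v u) (Nat.mod (T_v u) M)) (nat_lit 40) (Nat.mod (T_v u) M) u) (lF [T_f, T_b, T_c, T_d, T_c, T_b, T_f, T_d, T_c, T_b, T_a, T_f, T_b, T_c, T_d, T_c, T_b, T_f, T_v, T_a, T_b, T_c, T_d] M (Nat.sub (T_v u) (Nat.mod (T_v u) M)) (Nat.mod (T_v u) M) u) (Nat.ble (nat_lit 18) j)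
noncomputable def dp_v_10 (j u : ℕ) : Bool :=
  Bool.rec (motive := fun _ => Bool) (lF [T_d, T_c, T_b, T_a, T_v, T_f, T_b, T_c, T_d, T_c, T_b, T_f, T_a, T_b, T_c, T_d, T_f, T_b, T_c, T_d, T_c, T_b, T_f] M (Nat.sub (T_v u) (Nat.mod (T_v u) M)) (Nat.mod (T_v u) M) u) (lS MG [T_f, T_e, T_b, T_c, T_d, T_c, T_b, T_f, T_e, T_v, T_f, T_b, T_c, T_d, T_c, T_b, T_f, T_e, T_f, T_b, T_c, T_d, T_c, T_b, T_f] M (Nat.sub (T_v u) (Nat.mod (T_v u) M)) (nat_lit 40) (Nat.mod (T_v u) M) u) (Nat.ble (nat_lit 20) j)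
noncomputable def dp_v_11 (j u : ℕ) : Bool :=
  Bool.rec (motive := fun _ => Bool) (lF [T_f, T_b, T_c, T_d, T_c, T_b, T_f, T_v, T_f, T_b, T_c, T_d, T_c, T_b, T_f, T_v, T_f, T_b, T_c, T_d, T_c, T_b, T_f] M (Nat.sub (T_v u) (Nat.mod (T_v u) M)) (Nat.mod (T_v u) M) u) (lF [T_f, T_b, T_c, T_d, T_c, T_b, T_f, T_a, T_b, T_c, T_d, T_f, T_b, T_c, T_d, T_c, T_b, T_f, T_v, T_d, T_c, T_b, T_a] M (Nat.sub (T_v u) (Nat.mod (T_v u) M)) (Nat.mod (T_v u) M) u) (Nat.ble (nat_lit 23) j)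
noncomputable def dp_v_12 (j u : ℕ) : Bool :=
  Bool.rec (motive := fun _ => Bool) (lF [T_a, T_b, T_c, T_d, T_v, T_f, T_b, T_c, T_d, T_c, T_b, T_f, T_d, T_c, T_b, T_a, T_f, T_b, T_c, T_d, T_c, T_b, T_f] M (Nat.sub (T_v u) (Nat.mod (T_v u) M)) (Nat.mod (T_v u) M) u) (dp_v_11 j u) (Nat.ble (nat_lit 22) j)
noncomputable def dp_v_13 (j u : ℕ) : Bool :=
  Bool.rec (motive := fun _ => Bool) (dp_v_10 j u) (dp_v_12 j u) (Nat.ble (nat_lit 21) j)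
noncomputable def dp_v_14 (j u : ℕ) : Bool :=
  Bool.rec (motive := fun _ => Bool) (dp_v_9 j u) (dp_v_13 j u) (Nat.ble (nat_lit 19) j)
noncomputable def dp_v_15 (j u : ℕ) : Bool :=
  Bool.rec (motive := fun _ => Bool) (dp_v_8 j u) (dp_v_14 j u) (Nat.ble (nat_lit 17) j)
noncomputable def dp_v_16 (j u : ℕ) : Bool :=
  Bool.rec (motive := fun _ => Bool) (dp_v_7 j u) (dp_v_15 j u) (Nat.ble (nat_lit 15) j)
noncomputable def dp_v_17 (j u : ℕ) : Bool :=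
  Bool.rec (motive := fun _ => Bool) (dp_v_6 j u) (dp_v_16 j u) (Nat.ble (nat_lit 13) j)
noncomputable def dp_v_18 (j u : ℕ) : Bool :=
  Bool.rec (motive := fun _ => Bool) (dp_v_4 j u) (dp_v_17 j u) (Nat.ble (nat_lit 10) j)
noncomputable def dp_v_19 (j u : ℕ) : Bool :=
  Bool.rec (motive := fun _ => Bool) (dp_v_2 j u) (dp_v_18 j u) (Nat.ble (nat_lit 7) j)
noncomputable def dp_v_20 (j u : ℕ) : Bool :=
  Bool.rec (motive := fun _ => Bool) (dp_v_0 j u) (dp_v_19 j u) (Nat.ble (nat_lit 4) j)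
noncomputable def disp_v (j u : ℕ) : Bool :=
  Bool.rec (motive := fun _ => Bool) (lDef P (nat_lit 6) (Nat.mod (T_v u) M) u) (Bool.rec (motive := fun _ => Bool) (lDef P (nat_lit 6) u (Nat.mod (T_v u) M)) (dp_v_20 j u) (Nat.ble (nat_lit 2) j)) (Nat.ble (nat_lit 1) j)
noncomputable def chk_v (j u : ℕ) : Bool :=
  Bool.rec (motive := fun _ => Bool) (disp_v j u) (Nat.ble (Nat.succ (MG u)) A) (Nat.ble A (T_v u))
noncomputable def dM_0 (j z1 z2 u : ℕ) : Bool :=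
  Bool.rec (motive := fun _ => Bool) (mCo MG T_b M (Nat.sub (MG u) (Nat.mod (MG u) M)) (nat_lit 40) z1 z2 u (Nat.mod (MG u) M)) (Bool.rec (motive := fun _ => Bool) (mCo MG T_f M (Nat.sub (MG u) (Nat.mod (MG u) M)) (nat_lit 40) z1 z2 u (Nat.mod (MG u) M)) (mCo MG T_c M (Nat.sub (MG u) (Nat.mod (MG u) M)) (nat_lit 40) z1 z2 u (Nat.mod (MG u) M)) (Nat.ble (nat_lit 2) j)) (Nat.ble (nat_lit 1) j)
noncomputable def dM_1 (j z1 z2 u : ℕ) : Bool :=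
  Bool.rec (motive := fun _ => Bool) (mCo MG T_d M (Nat.sub (MG u) (Nat.mod (MG u) M)) (nat_lit 40) z1 z2 u (Nat.mod (MG u) M)) (mCo MG T_e M (Nat.sub (MG u) (Nat.mod (MG u) M)) (nat_lit 40) z1 z2 u (Nat.mod (MG u) M)) (Nat.ble (nat_lit 4) j)
noncomputable def dM_2 (j z1 z2 u : ℕ) : Bool :=
  Bool.rec (motive := fun _ => Bool) (mCo MG T_v M (Nat.sub (MG u) (Nat.mod (MG u) M)) (nat_lit 40) z1 z2 u (Nat.mod (MG u) M)) (mCo MG T_a M (Nat.sub (MG u) (Nat.mod (MG u) M)) (nat_lit 40) z1 z2 u (Nat.mod (MG u) M)) (Nat.ble (nat_lit 6) j)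
noncomputable def dM_3 (j z1 z2 u : ℕ) : Bool :=
  Bool.rec (motive := fun _ => Bool) (Bool.rec (motive := fun _ => Bool) (Bool.rec (motive := fun _ => Bool) (mRel MG [T_v, T_c, T_v] [T_f, T_b, T_c, T_d, T_c, T_b, T_f, T_c, T_f, T_b, T_c, T_d, T_c, T_b, T_f] M (Nat.sub (MG u) (Nat.mod (MG u) M)) (nat_lit 40) z1 u (Nat.mod (MG u) M)) (mRel MG [T_c, T_b, T_f, T_v, T_b] [T_d, T_c, T_b, T_f, T_b, T_f, T_b, T_c, T_d, T_c, T_b, T_f, T_v] M (Nat.sub (MG u) (Nat.mod (MG u) M)) (nat_lit 40) z1 u (Nat.mod (MG u) M)) (Nat.ble (nat_lit 8) j)) (Bool.rec (motive := fun _ => Bool) (mRel MG [T_b, T_d] [T_d, T_b] M (Nat.sub (MG u) (Nat.mod (MG u) M)) (nat_lit 40) z1 u (Nat.mod (MG u) M)) (Bool.rec (motive := fun _ => Bool) (mRel MG [T_d, T_c, T_b, T_f, T_b, T_f, T_b, T_c, T_d, T_c, T_b, T_f, T_v, T_b] [T_c, T_b, T_f, T_v] M (Nat.sub (MG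 u) (Nat.mod (MG u) M)) (nat_lit 40) z1 u (Nat.mod (MG u) M)) (mRel MG [T_d, T_c, T_b, T_f, T_b, T_f, T_b, T_c, T_d, T_c, T_b, T_f, T_v] [T_c, T_b, T_f, T_v, T_b] M (Nat.sub (MG u) (Nat.mod (MG u) M)) (nat_lit 40) z1 u (Nat.mod (MG u) M)) (Nat.ble (nat_lit 11) j)) (Nat.ble (nat_lit 10) j)) (Nat.ble (nat_lit 9) j)) (Bool.rec (motive := fun _ => Bool) (Bool.rec (motive := fun _ => Bool) (mRel MG [T_c, T_b, T_f, T_b, T_f, T_b, T_c, T_d, T_c, T_b, T_f, T_v] [T_d, T_c, T_b, T_f, T_v, T_b] M (Nat.sub (MG u) (Nat.mod (MG u) M)) (nat_lit 40) z1 u (Nat.mod (MG u) M)) (Bool.rec (motive := fun _ => Bool) (mRel MG [T_c, T_d, T_c, T_b, T_f, T_v, T_c] [T_b, T_f, T_c, T_f, T_b, T_c, T_d, T_c, T_b, T_f, T_v] M (Nat.sub (MG u) (Nat.mod (MG u) M)) (nat_lit 40) z1 u (Nat.mod (MG u) M)) (mRel MG [T_b, T_f, T_v, T_c] [T_c, T_d, T_c, T_b, T_f,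 T_c, T_f, T_b, T_c, T_d, T_c, T_b, T_f, T_v] M (Nat.sub (MG u) (Nat.mod (MG u) M)) (nat_lit 40) z1 u (Nat.mod (MG u) M)) (Nat.ble (nat_lit 14) j)) (Nat.ble (nat_lit 13) j)) (Bool.rec (motive := fun _ => Bool) (Bool.rec (motive := fun _ => Bool) (mRel MG [T_b, T_c, T_d, T_c, T_b, T_f, T_v, T_c] [T_f, T_c, T_f, T_b, T_c, T_d, T_c, T_b, T_f, T_v] M (Nat.sub (MG u) (Nat.mod (MG u) M)) (nat_lit 40) z1 u (Nat.mod (MG u) M)) (mRel MG [T_f, T_b, T_f, T_b, T_c, T_d, T_c, T_b, T_f, T_v, T_b] [T_b, T_c, T_d, T_c, T_b, T_f, T_v] M (Nat.sub (MG u) (Nat.mod (MG u) M)) (nat_lit 40) z1 u (Nat.mod (MG u) M)) (Nat.ble (nat_lit 16) j)) (Bool.rec (motive := fun _ => Bool) (mRel MG [T_b, T_c, T_d, T_c, T_b, T_f, T_c, T_f, T_b, T_c, T_d, T_c, T_b, T_f, T_v, T_c] [T_f, T_v] M (Nat.sub (MG u) (Nat.mod (MG u) M)) (nat_lit 40) z1 u (Nat.mod (MG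 u) M)) (mRel MG [T_d, T_c, T_b, T_f, T_v, T_b] [T_c, T_b, T_f, T_b, T_f, T_b, T_c, T_d, T_c, T_b, T_f, T_v] M (Nat.sub (MG u) (Nat.mod (MG u) M)) (nat_lit 40) z1 u (Nat.mod (MG u) M)) (Nat.ble (nat_lit 18) j)) (Nat.ble (nat_lit 17) j)) (Nat.ble (nat_lit 15) j)) (Nat.ble (nat_lit 12) j)
noncomputable def dM_4 (j z1 z2 u : ℕ) : Bool :=
  Bool.rec (motive := fun _ => Bool) (Bool.rec (motive := fun _ => Bool) (mRel MG [T_b, T_f, T_b, T_f, T_b, T_c, T_d, T_c, T_b, T_f, T_v, T_b] [T_c, T_d, T_c, T_b, T_f, T_v] M (Nat.sub (MG u) (Nat.mod (MG u) M)) (nat_lit 40) z1 u (Nat.mod (MG u) M)) (Bool.rec (motive := fun _ => Bool) (mRel MG [T_f, T_b, T_c, T_d, T_c, T_b, T_f, T_v, T_b] [T_b, T_f, T_b, T_c, T_d, T_c, T_b, T_f, T_v] M (Nat.sub (MG u) (Nat.mod (MG u) M)) (nat_lit 40) z1 u (Nat.mod (MG u) M)) (mRel MG [T_v, T_b, T_v] [T_f, T_b,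 T_c, T_d, T_c, T_b, T_f, T_b, T_f, T_b, T_c, T_d, T_c, T_b, T_f] M (Nat.sub (MG u) (Nat.mod (MG u) M)) (nat_lit 40) z1 u (Nat.mod (MG u) M)) (Nat.ble (nat_lit 21) j)) (Nat.ble (nat_lit 20) j)) (Bool.rec (motive := fun _ => Bool) (Bool.rec (motive := fun _ => Bool) (mRel MG [T_b, T_e] [T_e, T_b] M (Nat.sub (MG u) (Nat.mod (MG u) M)) (nat_lit 40) z1 u (Nat.mod (MG u) M)) (mRel MG [T_c, T_d, T_c, T_b, T_f, T_v, T_b] [T_b, T_f, T_b, T_f, T_b, T_c, T_d, T_c, T_b, T_f, T_v] M (Nat.sub (MG u) (Nat.mod (MG u) M)) (nat_lit 40) z1 u (Nat.mod (MG u) M)) (Nat.ble (nat_lit 23) j)) (Bool.rec (motive := fun _ => Bool) (mRel MG [T_c, T_d, T_c, T_b, T_f, T_c, T_f, T_b, T_c, T_d, T_c, T_b, T_f, T_v] [T_b, T_f, T_v, T_c] M (Nat.sub (MG u) (Nat.mod (MG u) M)) (nat_lit 40) z1 u (Nat.mod (MG u) M)) (mRel MG [T_v, T_f, T_b, T_c, T_d, T_c, T_b,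 T_f, T_a, T_b, T_c, T_d, T_f, T_b, T_c, T_d, T_c, T_b, T_f, T_v] [T_a, T_b, T_c, T_d] M (Nat.sub (MG u) (Nat.mod (MG u) M)) (nat_lit 40) z1 u (Nat.mod (MG u) M)) (Nat.ble (nat_lit 25) j)) (Nat.ble (nat_lit 24) j)) (Nat.ble (nat_lit 22) j)
noncomputable def dM_5 (j z1 z2 u : ℕ) : Bool :=
  Bool.rec (motive := fun _ => Bool) (Bool.rec (motive := fun _ => Bool) (Bool.rec (motive := fun _ => Bool) (mRel MG [T_d, T_b] [T_b, T_d] M (Nat.sub (MG u) (Nat.mod (MG u) M)) (nat_lit 40) z1 u (Nat.mod (MG u) M)) (mRel MG [T_c, T_d, T_c, T_b, T_f, T_c, T_f, T_b, T_c, T_d, T_c, T_b, T_f, T_v, T_c] [T_b, T_f, T_v] M (Nat.sub (MG u) (Nat.mod (MG u) M)) (nat_lit 40) z1 u (Nat.mod (MG u) M)) (Nat.ble (nat_lit 27) j)) (Bool.rec (motive := fun _ => Bool) (mRel MG [T_c, T_b, T_f, T_v, T_c] [T_d, T_c, T_b, T_f, T_c, T_f, T_b, T_c, T_d, T_c, T_b,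 T_f, T_v] M (Nat.sub (MG u) (Nat.mod (MG u) M)) (nat_lit 40) z1 u (Nat.mod (MG u) M)) (mRel MG [T_c, T_d, T_c, T_b, T_f, T_b, T_f, T_b, T_c, T_d, T_c, T_b, T_f, T_v, T_b] [T_b, T_f, T_v] M (Nat.sub (MG u) (Nat.mod (MG u) M)) (nat_lit 40) z1 u (Nat.mod (MG u) M)) (Nat.ble (nat_lit 29) j)) (Nat.ble (nat_lit 28) j)) (Bool.rec (motive := fun _ => Bool) (Bool.rec (motive := fun _ => Bool) (mRel MG [T_b, T_c, T_d, T_c, T_b, T_f, T_v, T_b] [T_f, T_b, T_f, T_b, T_c, T_d, T_c, T_b, T_f, T_v] M (Nat.sub (MG u) (Nat.mod (MG u) M)) (nat_lit 40) z1 u (Nat.mod (MG u) M)) (mRel MG [T_c, T_d, T_c, T_b, T_f, T_b, T_f, T_b, T_c, T_d, T_c, T_b, T_f, T_v] [T_b, T_f, T_v, T_b] M (Nat.sub (MG u) (Nat.mod (MG u) M)) (nat_lit 40) z1 u (Nat.mod (MG u) M)) (Nat.ble (nat_lit 31) j)) (Bool.rec (motive := fun _ => Bool) (mRel MG [T_c, T_f, T_b, T_c,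 T_d, T_c, T_b, T_f, T_v, T_c] [T_f, T_b, T_c, T_d, T_c, T_b, T_f, T_v] M (Nat.sub (MG u) (Nat.mod (MG u) M)) (nat_lit 40) z1 u (Nat.mod (MG u) M)) (mRel MG [T_d, T_b, T_d] [T_b] M (Nat.sub (MG u) (Nat.mod (MG u) M)) (nat_lit 40) z1 u (Nat.mod (MG u) M)) (Nat.ble (nat_lit 33) j)) (Nat.ble (nat_lit 32) j)) (Nat.ble (nat_lit 30) j)
noncomputable def dM_6 (j z1 z2 u : ℕ) : Bool :=
  Bool.rec (motive := fun _ => Bool) (dM_4 j z1 z2 u) (dM_5 j z1 z2 u) (Nat.ble (nat_lit 26) j)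
noncomputable def dM_7 (j z1 z2 u : ℕ) : Bool :=
  Bool.rec (motive := fun _ => Bool) (dM_3 j z1 z2 u) (dM_6 j z1 z2 u) (Nat.ble (nat_lit 19) j)
noncomputable def dM_8 (j z1 z2 u : ℕ) : Bool :=
  Bool.rec (motive := fun _ => Bool) (Bool.rec (motive := fun _ => Bool) (Bool.rec (motive := fun _ => Bool) (mRel MG [T_d, T_f] [T_f, T_d] M (Nat.sub (MG u) (Nat.mod (MG u) M)) (nat_lit 40) z1 u (Nat.mod (MG u) M)) (mRel MG [T_v, T_b] [T_f, T_b, T_c, T_d, T_c, T_b, T_f, T_b, T_f, T_b, T_c, T_d, T_c, T_b, T_f, T_v] M (Nat.sub (MG u) (Nat.mod (MG u) M)) (nat_lit 40) z1 u (Nat.mod (MG u) M)) (Nat.ble (nat_lit 35) j)) (Bool.rec (motive := fun _ => Bool) (mRel MG [T_d, T_c, T_b, T_f, T_c, T_f, T_b, T_c, T_d, T_c, T_b, T_f, T_v, T_c] [T_c, T_b, T_f, T_v] M (Nat.sub (MG u) (Nat.mod (MG u) M)) (nat_lit 40) z1 u (Nat.mod (MG u) M)) (mRel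 MG [T_f, T_c, T_f, T_b, T_c, T_d, T_c, T_b, T_f, T_v, T_c] [T_b, T_c, T_d, T_c, T_b, T_f, T_v] M (Nat.sub (MG u) (Nat.mod (MG u) M)) (nat_lit 40) z1 u (Nat.mod (MG u) M)) (Nat.ble (nat_lit 37) j)) (Nat.ble (nat_lit 36) j)) (Bool.rec (motive := fun _ => Bool) (Bool.rec (motive := fun _ => Bool) (mRel MG [T_b, T_c, T_d, T_c, T_b, T_f, T_b, T_f, T_b, T_c, T_d, T_c, T_b, T_f, T_v] [T_f, T_v, T_b] M (Nat.sub (MG u) (Nat.mod (MG u) M)) (nat_lit 40) z1 u (Nat.mod (MG u) M)) (mRel MG [T_f, T_b, T_c, T_d, T_c, T_b, T_f, T_c, T_f, T_b, T_c, T_d, T_c, T_b, T_f, T_v] [T_v, T_c] M (Nat.sub (MG u) (Nat.mod (MG u) M)) (nat_lit 40) z1 u (Nat.mod (MG u) M)) (Nat.ble (nat_lit 39) j)) (Bool.rec (motive := fun _ => Bool) (mRel MG [T_c, T_f, T_b, T_c, T_d, T_c, T_b, T_f, T_v] [T_f, T_b, T_c, T_d, T_c, T_b, T_f, T_v, T_c] M (Nat.sub (MG u) (Nat.mod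 (MG u) M)) (nat_lit 40) z1 u (Nat.mod (MG u) M)) (mRel MG [T_v, T_c] [T_f, T_b, T_c, T_d, T_c, T_b, T_f, T_c, T_f, T_b, T_c, T_d, T_c, T_b, T_f, T_v] M (Nat.sub (MG u) (Nat.mod (MG u) M)) (nat_lit 40) z1 u (Nat.mod (MG u) M)) (Nat.ble (nat_lit 41) j)) (Nat.ble (nat_lit 40) j)) (Nat.ble (nat_lit 38) j)
noncomputable def dM_9 (j z1 z2 u : ℕ) : Bool :=
  Bool.rec (motive := fun _ => Bool) (Bool.rec (motive := fun _ => Bool) (Bool.rec (motive := fun _ => Bool) (mRel MG [T_f, T_c] [T_c, T_f] M (Nat.sub (MG u) (Nat.mod (MG u) M)) (nat_lit 40) z1 u (Nat.mod (MG u) M)) (mRel MG [T_b, T_c, T_d, T_c, T_b, T_f, T_b, T_f, T_b, T_c, T_d, T_c, T_b, T_f, T_v, T_b] [T_f, T_v] M (Nat.sub (MG u) (Nat.mod (MG u) M)) (nat_lit 40) z1 u (Nat.mod (MG u) M)) (Nat.ble (nat_lit 43) j)) (Bool.rec (motive := fun _ => Bool) (mRel MG [T_c, T_b, T_f,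 T_c, T_f, T_b, T_c, T_d, T_c, T_b, T_f, T_v, T_c] [T_d, T_c, T_b, T_f, T_v] M (Nat.sub (MG u) (Nat.mod (MG u) M)) (nat_lit 40) z1 u (Nat.mod (MG u) M)) (Bool.rec (motive := fun _ => Bool) (mRel MG [T_b, T_f, T_c, T_f, T_b, T_c, T_d, T_c, T_b, T_f, T_v, T_c] [T_c, T_d, T_c, T_b, T_f, T_v] M (Nat.sub (MG u) (Nat.mod (MG u) M)) (nat_lit 40) z1 u (Nat.mod (MG u) M)) (mRel MG [T_f, T_b, T_c, T_d, T_c, T_b, T_f, T_b, T_f, T_b, T_c, T_d, T_c, T_b, T_f, T_v] [T_v, T_b] M (Nat.sub (MG u) (Nat.mod (MG u) M)) (nat_lit 40) z1 u (Nat.mod (MG u) M)) (Nat.ble (nat_lit 46) j)) (Nat.ble (nat_lit 45) j)) (Nat.ble (nat_lit 44) j)) (Bool.rec (motive := fun _ => Bool) (Bool.rec (motive := fun _ => Bool) (mRel MG [T_f, T_b, T_c, T_d, T_c, T_b, T_f, T_b, T_f, T_b, T_c, T_d, T_c, T_b, T_f, T_v, T_b] [T_v] M (Nat.sub (MG u) (Nat.mod (MG u) M))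 (nat_lit 40) z1 u (Nat.mod (MG u) M)) (mRel MG [T_d, T_c, T_b, T_f, T_c, T_f, T_b, T_c, T_d, T_c, T_b, T_f, T_v] [T_c, T_b, T_f, T_v, T_c] M (Nat.sub (MG u) (Nat.mod (MG u) M)) (nat_lit 40) z1 u (Nat.mod (MG u) M)) (Nat.ble (nat_lit 48) j)) (Bool.rec (motive := fun _ => Bool) (mRel MG [T_c, T_b, T_c, T_b] [T_b, T_c] M (Nat.sub (MG u) (Nat.mod (MG u) M)) (nat_lit 40) z1 u (Nat.mod (MG u) M)) (Bool.rec (motive := fun _ => Bool) (mRel MG [T_e, T_b, T_e] [T_b] M (Nat.sub (MG u) (Nat.mod (MG u) M)) (nat_lit 40) z1 u (Nat.mod (MG u) M)) (mRel MG [T_b, T_c, T_b, T_c] [T_c, T_b] M (Nat.sub (MG u) (Nat.mod (MG u) M)) (nat_lit 40) z1 u (Nat.mod (MG u) M)) (Nat.ble (nat_lit 51) j)) (Nat.ble (nat_lit 50) j)) (Nat.ble (nat_lit 49) j)) (Nat.ble (nat_lit 47) j)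
noncomputable def dM_10 (j z1 z2 u : ℕ) : Bool :=
  Bool.rec (motive := fun _ => Bool) (dM_8 j z1 z2 u) (dM_9 j z1 z2 u) (Nat.ble (nat_lit 42) j)
noncomputable def dM_11 (j z1 z2 u : ℕ) : Bool :=
  Bool.rec (motive := fun _ => Bool) (Bool.rec (motive := fun _ => Bool) (Bool.rec (motive := fun _ => Bool) (mRel MG [T_b, T_f, T_v, T_b] [T_c, T_d, T_c, T_b, T_f, T_b, T_f, T_b, T_c, T_d, T_c, T_b, T_f, T_v] M (Nat.sub (MG u) (Nat.mod (MG u) M)) (nat_lit 40) z1 u (Nat.mod (MG u) M)) (Bool.rec (motive := fun _ => Bool) (mRel MG [T_f, T_b, T_c, T_d, T_c, T_b, T_f, T_c, T_f, T_b, T_c, T_d, T_c, T_b, T_f, T_v, T_c] [T_v] M (Nat.sub (MG u) (Nat.mod (MG u) M)) (nat_lit 40) z1 u (Nat.mod (MG u) M)) (mRel MG [T_f, T_b, T_c, T_d, T_c, T_b, T_f, T_v, T_c] [T_c, T_f, T_b, T_c, T_d, T_c, T_b, T_f, T_v] M (Nat.sub (MG u) (Nat.mod (MG u) M))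 (nat_lit 40) z1 u (Nat.mod (MG u) M)) (Nat.ble (nat_lit 54) j)) (Nat.ble (nat_lit 53) j)) (Bool.rec (motive := fun _ => Bool) (mRel MG [T_d, T_c, T_b, T_f, T_v, T_c] [T_c, T_b, T_f, T_c, T_f, T_b, T_c, T_d, T_c, T_b, T_f, T_v] M (Nat.sub (MG u) (Nat.mod (MG u) M)) (nat_lit 40) z1 u (Nat.mod (MG u) M)) (Bool.rec (motive := fun _ => Bool) (mRel MG [T_c, T_e] [T_e, T_c] M (Nat.sub (MG u) (Nat.mod (MG u) M)) (nat_lit 40) z1 u (Nat.mod (MG u) M)) (mRel MG [T_b, T_f, T_b, T_c, T_d, T_c, T_b, T_f, T_v, T_b] [T_f, T_b, T_c, T_d, T_c, T_b, T_f, T_v] M (Nat.sub (MG u) (Nat.mod (MG u) M)) (nat_lit 40) z1 u (Nat.mod (MG u) M)) (Nat.ble (nat_lit 57) j)) (Nat.ble (nat_lit 56) j)) (Nat.ble (nat_lit 55) j)) (Bool.rec (motive := fun _ => Bool) (Bool.rec (motive := fun _ => Bool) (mRel MG [T_b, T_c] [T_c, T_b, T_c, T_b] M (Nat.sub (MG u)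 (Nat.mod (MG u) M)) (nat_lit 40) z1 u (Nat.mod (MG u) M)) (Bool.rec (motive := fun _ => Bool) (mRel MG [T_f, T_d] [T_d, T_f] M (Nat.sub (MG u) (Nat.mod (MG u) M)) (nat_lit 40) z1 u (Nat.mod (MG u) M)) (mRel MG [T_a, T_c] [T_c, T_a] M (Nat.sub (MG u) (Nat.mod (MG u) M)) (nat_lit 40) z1 u (Nat.mod (MG u) M)) (Nat.ble (nat_lit 60) j)) (Nat.ble (nat_lit 59) j)) (Bool.rec (motive := fun _ => Bool) (mRel MG [T_a, T_e] [T_e, T_a] M (Nat.sub (MG u) (Nat.mod (MG u) M)) (nat_lit 40) z1 u (Nat.mod (MG u) M)) (Bool.rec (motive := fun _ => Bool) (mRel MG [T_e, T_b] [T_b, T_e] M (Nat.sub (MG u) (Nat.mod (MG u) M)) (nat_lit 40) z1 u (Nat.mod (MG u) M)) (mRel MG [T_a, T_d] [T_d, T_a] M (Nat.sub (MG u) (Nat.mod (MG u) M)) (nat_lit 40) z1 u (Nat.mod (MG u) M)) (Nat.ble (nat_lit 63) j)) (Nat.ble (nat_lit 62) j)) (Nat.ble (nat_lit 61) j))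 (Nat.ble (nat_lit 58) j)
noncomputable def dM_12 (j z1 z2 u : ℕ) : Bool :=
  Bool.rec (motive := fun _ => Bool) (Bool.rec (motive := fun _ => Bool) (mRel MG [T_e, T_a] [T_a, T_e] M (Nat.sub (MG u) (Nat.mod (MG u) M)) (nat_lit 40) z1 u (Nat.mod (MG u) M)) (Bool.rec (motive := fun _ => Bool) (mRel MG [T_c, T_b, T_f, T_c, T_f, T_b, T_c, T_d, T_c, T_b, T_f, T_v] [T_d, T_c, T_b, T_f, T_v, T_c] M (Nat.sub (MG u) (Nat.mod (MG u) M)) (nat_lit 40) z1 u (Nat.mod (MG u) M)) (mRel MG [T_c, T_d, T_c, T_b, T_f, T_b, T_f, T_b, T_c, T_d, T_c, T_b, T_f, T_v, T_b, T_v] [T_b, T_f] M (Nat.sub (MG u) (Nat.mod (MG u) M)) (nat_lit 40) z1 u (Nat.mod (MG u) M)) (Nat.ble (nat_lit 66) j)) (Nat.ble (nat_lit 65) j)) (Bool.rec (motive := fun _ => Bool) (mRel MG [T_f, T_b, T_c, T_d, T_c, T_b, T_f, T_c, T_f, T_b, T_c, T_d, T_c, T_b, T_f] [T_v, T_c, T_v]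 M (Nat.sub (MG u) (Nat.mod (MG u) M)) (nat_lit 40) z1 u (Nat.mod (MG u) M)) (Bool.rec (motive := fun _ => Bool) (mRel MG [T_c, T_b, T_f, T_b, T_f, T_b, T_c, T_d, T_c, T_b, T_f, T_v, T_b] [T_d, T_c, T_b, T_f, T_v] M (Nat.sub (MG u) (Nat.mod (MG u) M)) (nat_lit 40) z1 u (Nat.mod (MG u) M)) (mRel MG [T_c, T_d, T_c, T_b, T_f, T_v] [T_b, T_f, T_b, T_f, T_b, T_c, T_d, T_c, T_b, T_f, T_v, T_b] M (Nat.sub (MG u) (Nat.mod (MG u) M)) (nat_lit 40) z1 u (Nat.mod (MG u) M)) (Nat.ble (nat_lit 69) j)) (Nat.ble (nat_lit 68) j)) (Nat.ble (nat_lit 67) j)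
noncomputable def dM_13 (j z1 z2 u : ℕ) : Bool :=
  Bool.rec (motive := fun _ => Bool) (Bool.rec (motive := fun _ => Bool) (mRel MG [T_b, T_f, T_b, T_c, T_d, T_c, T_b, T_f, T_v] [T_f, T_b, T_c, T_d, T_c, T_b, T_f, T_v, T_b] M (Nat.sub (MG u) (Nat.mod (MG u) M)) (nat_lit 40) z1 u (Nat.mod (MG u) M)) (Bool.rec (motive := fun _ => Bool) (mRel MG [T_e, T_f, T_e] [T_f] M (Nat.sub (MG u) (Nat.mod (MG u) M)) (nat_lit 40) z1 u (Nat.mod (MG u) M)) (mRel MG [T_d, T_c, T_b, T_f, T_v] [T_c, T_b, T_f, T_b, T_f, T_b, T_c, T_d, T_c, T_b, T_f, T_v, T_b] M (Nat.sub (MG u) (Nat.mod (MG u) M)) (nat_lit 40) z1 u (Nat.mod (MG u) M)) (Nat.ble (nat_lit 72) j)) (Nat.ble (nat_lit 71) j)) (Bool.rec (motive := fun _ => Bool) (Bool.rec (motive := fun _ => Bool) (mRel MG [T_b, T_c, T_d, T_c, T_b, T_f, T_v] [T_f, T_b, T_f, T_b, T_c, T_d, T_c, T_b, T_f,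 T_v, T_b] M (Nat.sub (MG u) (Nat.mod (MG u) M)) (nat_lit 40) z1 u (Nat.mod (MG u) M)) (mRel MG [T_e, T_c, T_e] [T_c] M (Nat.sub (MG u) (Nat.mod (MG u) M)) (nat_lit 40) z1 u (Nat.mod (MG u) M)) (Nat.ble (nat_lit 74) j)) (Bool.rec (motive := fun _ => Bool) (mRel MG [T_v, T_f, T_b, T_c, T_d, T_c, T_b, T_f, T_b, T_f, T_b, T_c, T_d, T_c, T_b, T_f, T_v] [T_b] M (Nat.sub (MG u) (Nat.mod (MG u) M)) (nat_lit 40) z1 u (Nat.mod (MG u) M)) (mRel MG [T_b, T_c, T_d, T_c, T_b, T_f, T_c, T_f, T_b, T_c, T_d, T_c, T_b, T_f, T_v] [T_f, T_v, T_c] M (Nat.sub (MG u) (Nat.mod (MG u) M)) (nat_lit 40) z1 u (Nat.mod (MG u) M)) (Nat.ble (nat_lit 76) j)) (Nat.ble (nat_lit 75) j)) (Nat.ble (nat_lit 73) j)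
noncomputable def dM_14 (j z1 z2 u : ℕ) : Bool :=
  Bool.rec (motive := fun _ => Bool) (dM_12 j z1 z2 u) (dM_13 j z1 z2 u) (Nat.ble (nat_lit 70) j)
noncomputable def dM_15 (j z1 z2 u : ℕ) : Bool :=
  Bool.rec (motive := fun _ => Bool) (dM_11 j z1 z2 u) (dM_14 j z1 z2 u) (Nat.ble (nat_lit 64) j)
noncomputable def dM_16 (j z1 z2 u : ℕ) : Bool :=
  Bool.rec (motive := fun _ => Bool) (dM_10 j z1 z2 u) (dM_15 j z1 z2 u) (Nat.ble (nat_lit 52) j)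
noncomputable def dM_17 (j z1 z2 u : ℕ) : Bool :=
  Bool.rec (motive := fun _ => Bool) (dM_7 j z1 z2 u) (dM_16 j z1 z2 u) (Nat.ble (nat_lit 34) j)
noncomputable def dM_18 (j z1 z2 u : ℕ) : Bool :=
  Bool.rec (motive := fun _ => Bool) (Bool.rec (motive := fun _ => Bool) (mRel MG [T_d, T_f, T_d] [T_f] M (Nat.sub (MG u) (Nat.mod (MG u) M)) (nat_lit 40) z1 u (Nat.mod (MG u) M)) (Bool.rec (motive := fun _ => Bool) (mRel MG [T_d, T_c, T_b, T_f, T_v] [T_c, T_b, T_f, T_c, T_f, T_b, T_c, T_d, T_c, T_b, T_f, T_v, T_c] M (Nat.sub (MG u) (Nat.mod (MG u) M)) (nat_lit 40) z1 u (Nat.mod (MG u) M)) (mRel MG [T_f, T_b, T_c, T_d, T_c, T_b, T_f, T_v, T_c, T_v] [T_c, T_f, T_b, T_c, T_d, T_c, T_b, T_f] M (Nat.sub (MG u) (Nat.mod (MG u) M)) (nat_lit 40) z1 u (Nat.mod (MG u) M)) (Nat.ble (nat_lit 79) j)) (Nat.ble (nat_lit 78) j)) (Bool.rec (motive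 := fun _ => Bool) (Bool.rec (motive := fun _ => Bool) (mRel MG [T_f, T_v, T_c, T_v] [T_b, T_c, T_d, T_c, T_b, T_f, T_c, T_f, T_b, T_c, T_d, T_c, T_b, T_f] M (Nat.sub (MG u) (Nat.mod (MG u) M)) (nat_lit 40) z1 u (Nat.mod (MG u) M)) (mRel MG [T_v, T_f, T_b, T_c, T_d, T_c, T_b, T_f, T_a, T_b, T_c, T_d, T_f, T_b, T_c, T_d, T_c, T_b, T_f, T_v, T_d] [T_a, T_b, T_c] M (Nat.sub (MG u) (Nat.mod (MG u) M)) (nat_lit 40) z1 u (Nat.mod (MG u) M)) (Nat.ble (nat_lit 81) j)) (Bool.rec (motive := fun _ => Bool) (mRel MG [T_d, T_c, T_b, T_f, T_c, T_f, T_b, T_c, T_d, T_c, T_b, T_f, T_v, T_c, T_v] [T_c, T_b, T_f] M (Nat.sub (MG u) (Nat.mod (MG u) M)) (nat_lit 40) z1 u (Nat.mod (MG u) M)) (mRel MG [T_v, T_d, T_c, T_b, T_a, T_v] [T_f, T_b, T_c, T_d, T_c, T_b, T_f, T_d, T_c, T_b, T_a, T_f, T_b, T_c, T_d, T_c, T_b, T_f] M (Nat.sub (MG u) (Nat.mod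 (MG u) M)) (nat_lit 40) z1 u (Nat.mod (MG u) M)) (Nat.ble (nat_lit 83) j)) (Nat.ble (nat_lit 82) j)) (Nat.ble (nat_lit 80) j)
noncomputable def dM_19 (j z1 z2 u : ℕ) : Bool :=
  Bool.rec (motive := fun _ => Bool) (Bool.rec (motive := fun _ => Bool) (Bool.rec (motive := fun _ => Bool) (mRel MG [T_c, T_a] [T_a, T_c] M (Nat.sub (MG u) (Nat.mod (MG u) M)) (nat_lit 40) z1 u (Nat.mod (MG u) M)) (mRel MG [T_f, T_c, T_f, T_b, T_c, T_d, T_c, T_b, T_f, T_v] [T_b, T_c, T_d, T_c, T_b, T_f, T_v, T_c] M (Nat.sub (MG u) (Nat.mod (MG u) M)) (nat_lit 40) z1 u (Nat.mod (MG u) M)) (Nat.ble (nat_lit 85) j)) (Bool.rec (motive := fun _ => Bool) (mRel MG [T_c, T_f] [T_f, T_c] M (Nat.sub (MG u) (Nat.mod (MG u) M)) (nat_lit 40) z1 u (Nat.mod (MG u) M)) (mRel MG [T_e, T_f] [T_f, T_e] M (Nat.sub (MG u) (Nat.mod (MG u) M)) (nat_lit 40) z1 u (Nat.mod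 (MG u) M)) (Nat.ble (nat_lit 87) j)) (Nat.ble (nat_lit 86) j)) (Bool.rec (motive := fun _ => Bool) (Bool.rec (motive := fun _ => Bool) (mRel MG [T_f, T_b, T_c, T_d, T_c, T_b, T_f, T_v] [T_b, T_f, T_b, T_c, T_d, T_c, T_b, T_f, T_v, T_b] M (Nat.sub (MG u) (Nat.mod (MG u) M)) (nat_lit 40) z1 u (Nat.mod (MG u) M)) (mRel MG [T_e, T_c] [T_c, T_e] M (Nat.sub (MG u) (Nat.mod (MG u) M)) (nat_lit 40) z1 u (Nat.mod (MG u) M)) (Nat.ble (nat_lit 89) j)) (Bool.rec (motive := fun _ => Bool) (mRel MG [T_c, T_d, T_c, T_b, T_f, T_v, T_b, T_v] [T_b, T_f, T_b, T_f, T_b, T_c, T_d, T_c, T_b, T_f] M (Nat.sub (MG u) (Nat.mod (MG u) M)) (nat_lit 40) z1 u (Nat.mod (MG u) M)) (mRel MG [T_b, T_f, T_b, T_f, T_b, T_c, T_d, T_c, T_b, T_f, T_v, T_b, T_v] [T_c, T_d, T_c, T_b, T_f] M (Nat.sub (MG u) (Nat.mod (MG u) M)) (nat_lit 40) z1 u (Nat.mod (MG u)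 M)) (Nat.ble (nat_lit 91) j)) (Nat.ble (nat_lit 90) j)) (Nat.ble (nat_lit 88) j)
noncomputable def dM_20 (j z1 z2 u : ℕ) : Bool :=
  Bool.rec (motive := fun _ => Bool) (dM_18 j z1 z2 u) (dM_19 j z1 z2 u) (Nat.ble (nat_lit 84) j)
noncomputable def dM_21 (j z1 z2 u : ℕ) : Bool :=
  Bool.rec (motive := fun _ => Bool) (Bool.rec (motive := fun _ => Bool) (Bool.rec (motive := fun _ => Bool) (mRel MG [T_b, T_c, T_b, T_c, T_b] [T_c] M (Nat.sub (MG u) (Nat.mod (MG u) M)) (nat_lit 40) z1 u (Nat.mod (MG u) M)) (mRel MG [T_v, T_f, T_b, T_c, T_d, T_c, T_b, T_f, T_b, T_f, T_b, T_c, T_d, T_c, T_b, T_f] [T_b, T_v] M (Nat.sub (MG u) (Nat.mod (MG u) M)) (nat_lit 40) z1 u (Nat.mod (MG u) M)) (Nat.ble (nat_lit 93) j)) (Bool.rec (motive := fun _ => Bool) (mRel MG [T_b, T_f, T_c, T_f, T_b, T_c, T_d, T_c, T_b, T_f, T_v] [T_c, T_d, T_c, T_b, T_f,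 T_v, T_c] M (Nat.sub (MG u) (Nat.mod (MG u) M)) (nat_lit 40) z1 u (Nat.mod (MG u) M)) (mRel MG [T_v, T_d, T_c, T_b, T_a] [T_f, T_b, T_c, T_d, T_c, T_b, T_f, T_d, T_c, T_b, T_a, T_f, T_b, T_c, T_d, T_c, T_b, T_f, T_v] M (Nat.sub (MG u) (Nat.mod (MG u) M)) (nat_lit 40) z1 u (Nat.mod (MG u) M)) (Nat.ble (nat_lit 95) j)) (Nat.ble (nat_lit 94) j)) (Bool.rec (motive := fun _ => Bool) (Bool.rec (motive := fun _ => Bool) (mRel MG [T_b, T_c, T_d, T_c, T_b, T_f, T_v] [T_f, T_c, T_f, T_b, T_c, T_d, T_c, T_b, T_f, T_v, T_c] M (Nat.sub (MG u) (Nat.mod (MG u) M)) (nat_lit 40) z1 u (Nat.mod (MG u) M)) (mRel MG [T_b, T_c, T_d, T_c, T_b, T_f, T_c, T_f, T_b, T_c, T_d, T_c, T_b, T_f, T_v, T_c, T_v] [T_f] M (Nat.sub (MG u) (Nat.mod (MG u) M)) (nat_lit 40) z1 u (Nat.mod (MG u) M)) (Nat.ble (nat_lit 97) j)) (Bool.rec (motive := fun _ => Bool)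 (mRel MG [T_f, T_b, T_f, T_b, T_c, T_d, T_c, T_b, T_f, T_v] [T_b, T_c, T_d, T_c, T_b, T_f, T_v, T_b] M (Nat.sub (MG u) (Nat.mod (MG u) M)) (nat_lit 40) z1 u (Nat.mod (MG u) M)) (mRel MG [T_b, T_v] [T_v, T_f, T_b, T_c, T_d, T_c, T_b, T_f, T_b, T_f, T_b, T_c, T_d, T_c, T_b, T_f] M (Nat.sub (MG u) (Nat.mod (MG u) M)) (nat_lit 40) z1 u (Nat.mod (MG u) M)) (Nat.ble (nat_lit 99) j)) (Nat.ble (nat_lit 98) j)) (Nat.ble (nat_lit 96) j)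
noncomputable def dM_22 (j z1 z2 u : ℕ) : Bool :=
  Bool.rec (motive := fun _ => Bool) (Bool.rec (motive := fun _ => Bool) (Bool.rec (motive := fun _ => Bool) (mRel MG [T_b, T_e, T_b] [T_e] M (Nat.sub (MG u) (Nat.mod (MG u) M)) (nat_lit 40) z1 u (Nat.mod (MG u) M)) (mRel MG [T_b, T_c, T_d, T_c, T_b, T_f, T_v, T_b, T_v] [T_f, T_b, T_f, T_b, T_c, T_d, T_c, T_b, T_f] M (Nat.sub (MG u) (Nat.mod (MG u) M)) (nat_lit 40) z1 u (Nat.mod (MG u) M)) (Nat.ble (nat_lit 101) j)) (Bool.rec (motive := fun _ => Bool) (mRel MG [T_d, T_c, T_d, T_c, T_d, T_c, T_d, T_c, T_a] [] M (Nat.sub (MG u) (Nat.mod (MG u) M)) (nat_lit 40) z1 u (Nat.mod (MG u) M)) (mRel MG [T_f, T_b, T_c, T_d, T_c, T_b, T_f, T_v, T_b, T_v] [T_b, T_f, T_b, T_c, T_d, T_c, T_b, T_f] M (Nat.sub (MG u) (Nat.mod (MG u) M)) (nat_lit 40) z1 u (Nat.mod (MG u) M)) (Nat.ble (nat_lit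 103) j)) (Nat.ble (nat_lit 102) j)) (Bool.rec (motive := fun _ => Bool) (Bool.rec (motive := fun _ => Bool) (mRel MG [T_c, T_b, T_f, T_v, T_c, T_v] [T_d, T_c, T_b, T_f, T_c, T_f, T_b, T_c, T_d, T_c, T_b, T_f] M (Nat.sub (MG u) (Nat.mod (MG u) M)) (nat_lit 40) z1 u (Nat.mod (MG u) M)) (mRel MG [T_f, T_v, T_b] [T_b, T_c, T_d, T_c, T_b, T_f, T_b, T_f, T_b, T_c, T_d, T_c, T_b, T_f, T_v] M (Nat.sub (MG u) (Nat.mod (MG u) M)) (nat_lit 40) z1 u (Nat.mod (MG u) M)) (Nat.ble (nat_lit 105) j)) (Bool.rec (motive := fun _ => Bool) (mRel MG [T_b, T_f, T_b, T_f, T_b, T_c, T_d, T_c, T_b, T_f, T_v] [T_c, T_d, T_c, T_b, T_f, T_v, T_b] M (Nat.sub (MG u) (Nat.mod (MG u) M)) (nat_lit 40) z1 u (Nat.mod (MG u) M)) (Bool.rec (motive := fun _ => Bool) (mRel MG [T_c, T_b, T_f, T_c, T_f, T_b, T_c, T_d, T_c, T_b, T_f, T_v, T_c, T_v] [T_d, T_c, T_b,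 T_f] M (Nat.sub (MG u) (Nat.mod (MG u) M)) (nat_lit 40) z1 u (Nat.mod (MG u) M)) (mRel MG [T_c, T_b, T_f, T_b, T_f, T_b, T_c, T_d, T_c, T_b, T_f, T_v, T_b, T_v] [T_d, T_c, T_b, T_f] M (Nat.sub (MG u) (Nat.mod (MG u) M)) (nat_lit 40) z1 u (Nat.mod (MG u) M)) (Nat.ble (nat_lit 108) j)) (Nat.ble (nat_lit 107) j)) (Nat.ble (nat_lit 106) j)) (Nat.ble (nat_lit 104) j)
noncomputable def dM_23 (j z1 z2 u : ℕ) : Bool :=
  Bool.rec (motive := fun _ => Bool) (dM_21 j z1 z2 u) (dM_22 j z1 z2 u) (Nat.ble (nat_lit 100) j)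
noncomputable def dM_24 (j z1 z2 u : ℕ) : Bool :=
  Bool.rec (motive := fun _ => Bool) (dM_20 j z1 z2 u) (dM_23 j z1 z2 u) (Nat.ble (nat_lit 92) j)
noncomputable def dM_25 (j z1 z2 u : ℕ) : Bool :=
  Bool.rec (motive := fun _ => Bool) (Bool.rec (motive := fun _ => Bool) (Bool.rec (motive := fun _ => Bool) (mRel MG [T_b, T_f, T_b] [T_f, T_b, T_f] M (Nat.sub (MG u) (Nat.mod (MG u) M)) (nat_lit 40) z1 u (Nat.mod (MG u) M)) (mRel MG [T_v, T_f, T_b, T_c, T_d, T_c, T_b, T_f, T_d, T_c, T_b, T_a, T_f, T_b, T_c, T_d, T_c, T_b, T_f, T_v] [T_d, T_c, T_b, T_a] M (Nat.sub (MG u) (Nat.mod (MG u) M)) (nat_lit 40) z1 u (Nat.mod (MG u) M)) (Nat.ble (nat_lit 110) j)) (Bool.rec (motive := fun _ => Bool) (mRel MG [T_f, T_v, T_c] [T_b, T_c, T_d, T_c, T_b, T_f, T_c, T_f, T_b, T_c, T_d, T_c, T_b, T_f, T_v] M (Nat.sub (MG u) (Nat.mod (MG u) M))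 (nat_lit 40) z1 u (Nat.mod (MG u) M)) (Bool.rec (motive := fun _ => Bool) (mRel MG [T_f, T_c, T_f, T_b, T_c, T_d, T_c, T_b, T_f, T_v, T_c, T_v] [T_b, T_c, T_d, T_c, T_b, T_f] M (Nat.sub (MG u) (Nat.mod (MG u) M)) (nat_lit 40) z1 u (Nat.mod (MG u) M)) (mRel MG [T_b, T_c, T_b] [T_c, T_b, T_c] M (Nat.sub (MG u) (Nat.mod (MG u) M)) (nat_lit 40) z1 u (Nat.mod (MG u) M)) (Nat.ble (nat_lit 113) j)) (Nat.ble (nat_lit 112) j)) (Nat.ble (nat_lit 111) j)) (Bool.rec (motive := fun _ => Bool) (Bool.rec (motive := fun _ => Bool) (mRel MG [T_b, T_c, T_d, T_c, T_b, T_f, T_b, T_f, T_b, T_c, T_d, T_c, T_b, T_f, T_v, T_b, T_v] [T_f] M (Nat.sub (MG u) (Nat.mod (MG u) M)) (nat_lit 40) z1 u (Nat.mod (MG u) M)) (mRel MG [T_b, T_d, T_b] [T_d] M (Nat.sub (MG u) (Nat.mod (MG u) M)) (nat_lit 40) z1 u (Nat.mod (MG u) M)) (Nat.ble (nat_lit 115) j))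 (Bool.rec (motive := fun _ => Bool) (mRel MG [T_d, T_c, T_b, T_f, T_v, T_c, T_v] [T_c, T_b, T_f, T_c, T_f, T_b, T_c, T_d, T_c, T_b, T_f] M (Nat.sub (MG u) (Nat.mod (MG u) M)) (nat_lit 40) z1 u (Nat.mod (MG u) M)) (Bool.rec (motive := fun _ => Bool) (mRel MG [T_c, T_b, T_f, T_v] [T_d, T_c, T_b, T_f, T_c, T_f, T_b, T_c, T_d, T_c, T_b, T_f, T_v, T_c] M (Nat.sub (MG u) (Nat.mod (MG u) M)) (nat_lit 40) z1 u (Nat.mod (MG u) M)) (mRel MG [T_f, T_c, T_f] [T_c] M (Nat.sub (MG u) (Nat.mod (MG u) M)) (nat_lit 40) z1 u (Nat.mod (MG u) M)) (Nat.ble (nat_lit 118) j)) (Nat.ble (nat_lit 117) j)) (Nat.ble (nat_lit 116) j)) (Nat.ble (nat_lit 114) j)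
noncomputable def dM_26 (j z1 z2 u : ℕ) : Bool :=
  Bool.rec (motive := fun _ => Bool) (Bool.rec (motive := fun _ => Bool) (Bool.rec (motive := fun _ => Bool) (mRel MG [T_d, T_c, T_b, T_f, T_b, T_f, T_b, T_c, T_d, T_c, T_b, T_f, T_v, T_b, T_v] [T_c, T_b, T_f] M (Nat.sub (MG u) (Nat.mod (MG u) M)) (nat_lit 40) z1 u (Nat.mod (MG u) M)) (mRel MG [T_b, T_f, T_b, T_f] [T_f, T_b] M (Nat.sub (MG u) (Nat.mod (MG u) M)) (nat_lit 40) z1 u (Nat.mod (MG u) M)) (Nat.ble (nat_lit 120) j)) (Bool.rec (motive := fun _ => Bool) (mRel MG [T_f, T_b] [T_b, T_f, T_b, T_f] M (Nat.sub (MG u) (Nat.mod (MG u) M)) (nat_lit 40) z1 u (Nat.mod (MG u) M)) (Bool.rec (motive := fun _ => Bool) (mRel MG [T_f, T_a] [T_a, T_f] M (Nat.sub (MG u) (Nat.mod (MG u) M)) (nat_lit 40) z1 u (Nat.mod (MG u) M)) (mRel MG [T_a, T_c, T_a] [T_c] M (Nat.sub (MG u) (Nat.mod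 (MG u) M)) (nat_lit 40) z1 u (Nat.mod (MG u) M)) (Nat.ble (nat_lit 123) j)) (Nat.ble (nat_lit 122) j)) (Nat.ble (nat_lit 121) j)) (Bool.rec (motive := fun _ => Bool) (Bool.rec (motive := fun _ => Bool) (mRel MG [T_v, T_a, T_b, T_c, T_d, T_v] [T_f, T_b, T_c, T_d, T_c, T_b, T_f, T_a, T_b, T_c, T_d, T_f, T_b, T_c, T_d, T_c, T_b, T_f] M (Nat.sub (MG u) (Nat.mod (MG u) M)) (nat_lit 40) z1 u (Nat.mod (MG u) M)) (Bool.rec (motive := fun _ => Bool) (mRel MG [T_d, T_a] [T_a, T_d] M (Nat.sub (MG u) (Nat.mod (MG u) M)) (nat_lit 40) z1 u (Nat.mod (MG u) M)) (mRel MG [T_a, T_d, T_a] [T_d] M (Nat.sub (MG u) (Nat.mod (MG u) M)) (nat_lit 40) z1 u (Nat.mod (MG u) M)) (Nat.ble (nat_lit 126) j)) (Nat.ble (nat_lit 125) j)) (Bool.rec (motive := fun _ => Bool) (mRel MG [T_f, T_b, T_c, T_d, T_c, T_b, T_f, T_b, T_f, T_b, T_c, T_d, T_c, T_b, T_f,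 T_v, T_b, T_v] [] M (Nat.sub (MG u) (Nat.mod (MG u) M)) (nat_lit 40) z1 u (Nat.mod (MG u) M)) (Bool.rec (motive := fun _ => Bool) (mRel MG [T_f, T_b, T_f, T_b, T_c, T_d, T_c, T_b, T_f, T_v, T_b, T_v] [T_b, T_c, T_d, T_c, T_b, T_f] M (Nat.sub (MG u) (Nat.mod (MG u) M)) (nat_lit 40) z1 u (Nat.mod (MG u) M)) (mRel MG [T_f, T_b, T_f, T_b, T_c, T_d, T_c, T_b, T_f] [T_b, T_c, T_d, T_c, T_b, T_f, T_v, T_b, T_v] M (Nat.sub (MG u) (Nat.mod (MG u) M)) (nat_lit 40) z1 u (Nat.mod (MG u) M)) (Nat.ble (nat_lit 129) j)) (Nat.ble (nat_lit 128) j)) (Nat.ble (nat_lit 127) j)) (Nat.ble (nat_lit 124) j)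
noncomputable def dM_27 (j z1 z2 u : ℕ) : Bool :=
  Bool.rec (motive := fun _ => Bool) (dM_25 j z1 z2 u) (dM_26 j z1 z2 u) (Nat.ble (nat_lit 119) j)
noncomputable def dM_28 (j z1 z2 u : ℕ) : Bool :=
  Bool.rec (motive := fun _ => Bool) (Bool.rec (motive := fun _ => Bool) (mRel MG [T_c, T_b] [T_b, T_c, T_b, T_c] M (Nat.sub (MG u) (Nat.mod (MG u) M)) (nat_lit 40) z1 u (Nat.mod (MG u) M)) (Bool.rec (motive := fun _ => Bool) (mRel MG [T_c, T_d, T_c, T_b, T_f, T_v] [T_b, T_f, T_c, T_f, T_b, T_c, T_d, T_c, T_b, T_f, T_v, T_c] M (Nat.sub (MG u) (Nat.mod (MG u) M)) (nat_lit 40) z1 u (Nat.mod (MG u) M)) (mRel MG [T_c, T_b, T_f, T_v, T_b, T_v] [T_d, T_c, T_b, T_f, T_b, T_f, T_b, T_c, T_d, T_c, T_b, T_f] M (Nat.sub (MG u) (Nat.mod (MG u) M)) (nat_lit 40) z1 u (Nat.mod (MG u) M)) (Nat.ble (nat_lit 132) j)) (Nat.ble (nat_lit 131) j))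 (Bool.rec (motive := fun _ => Bool) (mRel MG [T_c, T_b, T_c] [T_b, T_c, T_b] M (Nat.sub (MG u) (Nat.mod (MG u) M)) (nat_lit 40) z1 u (Nat.mod (MG u) M)) (Bool.rec (motive := fun _ => Bool) (mRel MG [T_b, T_f, T_v, T_c, T_v] [T_c, T_d, T_c, T_b, T_f, T_c, T_f, T_b, T_c, T_d, T_c, T_b, T_f] M (Nat.sub (MG u) (Nat.mod (MG u) M)) (nat_lit 40) z1 u (Nat.mod (MG u) M)) (mRel MG [T_a, T_f] [T_f, T_a] M (Nat.sub (MG u) (Nat.mod (MG u) M)) (nat_lit 40) z1 u (Nat.mod (MG u) M)) (Nat.ble (nat_lit 135) j)) (Nat.ble (nat_lit 134) j)) (Nat.ble (nat_lit 133) j)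
noncomputable def dM_29 (j z1 z2 u : ℕ) : Bool :=
  Bool.rec (motive := fun _ => Bool) (Bool.rec (motive := fun _ => Bool) (mRel MG [T_e, T_a, T_e] [T_a] M (Nat.sub (MG u) (Nat.mod (MG u) M)) (nat_lit 40) z1 u (Nat.mod (MG u) M)) (Bool.rec (motive := fun _ => Bool) (mRel MG [T_f, T_e] [T_e, T_f] M (Nat.sub (MG u) (Nat.mod (MG u) M)) (nat_lit 40) z1 u (Nat.mod (MG u) M)) (mRel MG [T_c, T_b, T_c, T_b, T_c] [T_b] M (Nat.sub (MG u) (Nat.mod (MG u) M)) (nat_lit 40) z1 u (Nat.mod (MG u) M)) (Nat.ble (nat_lit 138) j)) (Nat.ble (nat_lit 137) j)) (Bool.rec (motive := fun _ => Bool) (Bool.rec (motive := fun _ => Bool) (mRel MG [T_v, T_f, T_b, T_c, T_d, T_c, T_b, T_f, T_c, T_f, T_b, T_c, T_d, T_c, T_b, T_f, T_v] [T_c] M (Nat.sub (MG u) (Nat.mod (MG u) M)) (nat_lit 40) z1 u (Nat.mod (MG u) M)) (mRel MG [T_f, T_b, T_c, T_d, T_c, T_b,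 T_f, T_b, T_f, T_b, T_c, T_d, T_c, T_b, T_f] [T_v, T_b, T_v] M (Nat.sub (MG u) (Nat.mod (MG u) M)) (nat_lit 40) z1 u (Nat.mod (MG u) M)) (Nat.ble (nat_lit 140) j)) (Bool.rec (motive := fun _ => Bool) (mRel MG [T_c, T_v] [T_v, T_f, T_b, T_c, T_d, T_c, T_b, T_f, T_c, T_f, T_b, T_c, T_d, T_c, T_b, T_f] M (Nat.sub (MG u) (Nat.mod (MG u) M)) (nat_lit 40) z1 u (Nat.mod (MG u) M)) (mRel MG [T_c, T_d, T_c, T_b, T_f, T_v, T_c, T_v] [T_b, T_f, T_c, T_f, T_b, T_c, T_d, T_c, T_b, T_f] M (Nat.sub (MG u) (Nat.mod (MG u) M)) (nat_lit 40) z1 u (Nat.mod (MG u) M)) (Nat.ble (nat_lit 142) j)) (Nat.ble (nat_lit 141) j)) (Nat.ble (nat_lit 139) j)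
noncomputable def dM_30 (j z1 z2 u : ℕ) : Bool :=
  Bool.rec (motive := fun _ => Bool) (dM_28 j z1 z2 u) (dM_29 j z1 z2 u) (Nat.ble (nat_lit 136) j)
noncomputable def dM_31 (j z1 z2 u : ℕ) : Bool :=
  Bool.rec (motive := fun _ => Bool) (Bool.rec (motive := fun _ => Bool) (Bool.rec (motive := fun _ => Bool) (mRel MG [T_c, T_b, T_f, T_v, T_d, T_c, T_b] [T_d, T_c, T_b, T_f, T_d, T_c, T_b, T_a, T_f, T_b, T_c, T_d, T_c, T_b, T_f, T_v, T_a] M (Nat.sub (MG u) (Nat.mod (MG u) M)) (nat_lit 40) z1 u (Nat.mod (MG u) M)) (mRel MG [T_b, T_c, T_d, T_c, T_b, T_f, T_b, T_f, T_b, T_c, T_d, T_c, T_b, T_f] [T_f, T_v, T_b, T_v] M (Nat.sub (MG u) (Nat.mod (MG u) M)) (nat_lit 40) z1 u (Nat.mod (MG u) M)) (Nat.ble (nat_lit 144) j)) (Bool.rec (motive := fun _ => Bool) (mRel MG [T_c, T_d, T_c, T_b, T_f, T_c, T_f, T_b, T_c, T_d, T_c, T_b, T_f, T_v,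 T_c, T_v] [T_b, T_f] M (Nat.sub (MG u) (Nat.mod (MG u) M)) (nat_lit 40) z1 u (Nat.mod (MG u) M)) (mRel MG [T_b, T_f, T_v] [T_c, T_d, T_c, T_b, T_f, T_b, T_f, T_b, T_c, T_d, T_c, T_b, T_f, T_v, T_b] M (Nat.sub (MG u) (Nat.mod (MG u) M)) (nat_lit 40) z1 u (Nat.mod (MG u) M)) (Nat.ble (nat_lit 146) j)) (Nat.ble (nat_lit 145) j)) (Bool.rec (motive := fun _ => Bool) (Bool.rec (motive := fun _ => Bool) (mRel MG [T_f, T_b, T_c, T_d, T_c, T_b, T_f, T_v, T_b, T_v, T_f] [T_b, T_f, T_b, T_c, T_d, T_c, T_b] M (Nat.sub (MG u) (Nat.mod (MG u) M)) (nat_lit 40) z1 u (Nat.mod (MG u) M)) (mRel MG [T_f, T_b, T_f, T_b] [T_b, T_f] M (Nat.sub (MG u) (Nat.mod (MG u) M)) (nat_lit 40) z1 u (Nat.mod (MG u) M)) (Nat.ble (nat_lit 148) j)) (Bool.rec (motive := fun _ => Bool) (mRel MG [T_b, T_f, T_v, T_b, T_v] [T_c, T_d, T_c, T_b, T_f, T_b, T_f, T_b,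 T_c, T_d, T_c, T_b, T_f] M (Nat.sub (MG u) (Nat.mod (MG u) M)) (nat_lit 40) z1 u (Nat.mod (MG u) M)) (mRel MG [T_a, T_e, T_a] [T_e] M (Nat.sub (MG u) (Nat.mod (MG u) M)) (nat_lit 40) z1 u (Nat.mod (MG u) M)) (Nat.ble (nat_lit 150) j)) (Nat.ble (nat_lit 149) j)) (Nat.ble (nat_lit 147) j)
noncomputable def dM_32 (j z1 z2 u : ℕ) : Bool :=
  Bool.rec (motive := fun _ => Bool) (Bool.rec (motive := fun _ => Bool) (Bool.rec (motive := fun _ => Bool) (mRel MG [T_v, T_a, T_b, T_c, T_d] [T_f, T_b, T_c, T_d, T_c, T_b, T_f, T_a, T_b, T_c, T_d, T_f, T_b, T_c, T_d, T_c, T_b, T_f, T_v] M (Nat.sub (MG u) (Nat.mod (MG u) M)) (nat_lit 40) z1 u (Nat.mod (MG u) M)) (mRel MG [T_f, T_v, T_b, T_v] [T_b, T_c, T_d, T_c, T_b, T_f, T_b, T_f, T_b, T_c, T_d, T_c, T_b, T_f] M (Nat.sub (MG u) (Nat.mod (MG u) M)) (nat_lit 40) z1 u (Nat.mod (MG u) M))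 (Nat.ble (nat_lit 152) j)) (Bool.rec (motive := fun _ => Bool) (mRel MG [T_v, T_b, T_v, T_f] [T_f, T_b, T_c, T_d, T_c, T_b, T_f, T_b, T_f, T_b, T_c, T_d, T_c, T_b] M (Nat.sub (MG u) (Nat.mod (MG u) M)) (nat_lit 40) z1 u (Nat.mod (MG u) M)) (mRel MG [T_v, T_f, T_b, T_c, T_d, T_c, T_b, T_f, T_c, T_f, T_b, T_c, T_d, T_c, T_b, T_f] [T_c, T_v] M (Nat.sub (MG u) (Nat.mod (MG u) M)) (nat_lit 40) z1 u (Nat.mod (MG u) M)) (Nat.ble (nat_lit 154) j)) (Nat.ble (nat_lit 153) j)) (Bool.rec (motive := fun _ => Bool) (Bool.rec (motive := fun _ => Bool) (mRel MG [T_f, T_b, T_c, T_d, T_c, T_b, T_f, T_a, T_b, T_c, T_d, T_f, T_b, T_c, T_d, T_c, T_b, T_f, T_v] [T_v, T_a, T_b, T_c, T_d] M (Nat.sub (MG u) (Nat.mod (MG u) M)) (nat_lit 40) z1 u (Nat.mod (MG u) M)) (mRel MG [T_b, T_c, T_d, T_c, T_b, T_f, T_c, T_f, T_b, T_c, T_d, T_c, T_b, T_f] [T_f,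 T_v, T_c, T_v] M (Nat.sub (MG u) (Nat.mod (MG u) M)) (nat_lit 40) z1 u (Nat.mod (MG u) M)) (Nat.ble (nat_lit 156) j)) (Bool.rec (motive := fun _ => Bool) (mRel MG [T_d, T_c, T_b, T_f, T_c, T_f, T_b, T_c, T_d, T_c, T_b, T_f, T_v, T_c, T_v, T_f] [T_c, T_b] M (Nat.sub (MG u) (Nat.mod (MG u) M)) (nat_lit 40) z1 u (Nat.mod (MG u) M)) (Bool.rec (motive := fun _ => Bool) (mRel MG [T_f, T_v] [T_b, T_c, T_d, T_c, T_b, T_f, T_b, T_f, T_b, T_c, T_d, T_c, T_b, T_f, T_v, T_b] M (Nat.sub (MG u) (Nat.mod (MG u) M)) (nat_lit 40) z1 u (Nat.mod (MG u) M)) (mRel MG [T_d, T_c, T_b, T_f, T_a, T_b, T_c, T_d, T_f, T_b, T_c, T_d, T_c, T_b, T_f, T_v, T_d, T_c, T_b, T_a] [T_c, T_b, T_f, T_v] M (Nat.sub (MG u) (Nat.mod (MG u) M)) (nat_lit 40) z1 u (Nat.mod (MG u) M)) (Nat.ble (nat_lit 159) j)) (Nat.ble (nat_lit 158) j)) (Nat.ble (nat_lit 157) j))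 (Nat.ble (nat_lit 155) j)
noncomputable def dM_33 (j z1 z2 u : ℕ) : Bool :=
  Bool.rec (motive := fun _ => Bool) (dM_31 j z1 z2 u) (dM_32 j z1 z2 u) (Nat.ble (nat_lit 151) j)
noncomputable def dM_34 (j z1 z2 u : ℕ) : Bool :=
  Bool.rec (motive := fun _ => Bool) (dM_30 j z1 z2 u) (dM_33 j z1 z2 u) (Nat.ble (nat_lit 143) j)
noncomputable def dM_35 (j z1 z2 u : ℕ) : Bool :=
  Bool.rec (motive := fun _ => Bool) (dM_27 j z1 z2 u) (dM_34 j z1 z2 u) (Nat.ble (nat_lit 130) j)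
noncomputable def dM_36 (j z1 z2 u : ℕ) : Bool :=
  Bool.rec (motive := fun _ => Bool) (dM_24 j z1 z2 u) (dM_35 j z1 z2 u) (Nat.ble (nat_lit 109) j)
noncomputable def dM_37 (j z1 z2 u : ℕ) : Bool :=
  Bool.rec (motive := fun _ => Bool) (Bool.rec (motive := fun _ => Bool) (Bool.rec (motive := fun _ => Bool) (mRel MG [T_f, T_c, T_f, T_b, T_c, T_d, T_c, T_b, T_f, T_v, T_c, T_v, T_f] [T_b, T_c, T_d, T_c, T_b] M (Nat.sub (MG u) (Nat.mod (MG u) M)) (nat_lit 40) z1 u (Nat.mod (MG u) M)) (mRel MG [T_c, T_d, T_c, T_b, T_f, T_v, T_b, T_v, T_f] [T_b, T_f, T_b, T_f, T_b, T_c, T_d, T_c, T_b] M (Nat.sub (MG u) (Nat.mod (MG u) M)) (nat_lit 40) z1 u (Nat.mod (MG u) M)) (Nat.ble (nat_lit 161) j)) (Bool.rec (motive := fun _ => Bool) (mRel MG [T_d, T_a, T_d] [T_a] M (Nat.sub (MG u) (Nat.mod (MG u) M)) (nat_lit 40) z1 u (Nat.mod (MG u) M))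 (Bool.rec (motive := fun _ => Bool) (mRel MG [T_d, T_c, T_b, T_f, T_b, T_f, T_b, T_c, T_d, T_c, T_b, T_f, T_v, T_b, T_v, T_f] [T_c, T_b] M (Nat.sub (MG u) (Nat.mod (MG u) M)) (nat_lit 40) z1 u (Nat.mod (MG u) M)) (mRel MG [T_c, T_e, T_c, T_e] [] M (Nat.sub (MG u) (Nat.mod (MG u) M)) (nat_lit 40) z1 u (Nat.mod (MG u) M)) (Nat.ble (nat_lit 164) j)) (Nat.ble (nat_lit 163) j)) (Nat.ble (nat_lit 162) j)) (Bool.rec (motive := fun _ => Bool) (Bool.rec (motive := fun _ => Bool) (mRel MG [T_c, T_b, T_f, T_d, T_c, T_b, T_a, T_f, T_b, T_c, T_d, T_c, T_b, T_f, T_v, T_a, T_b, T_c] [T_d, T_c, T_b, T_f, T_v, T_d] M (Nat.sub (MG u) (Nat.mod (MG u) M)) (nat_lit 40) z1 u (Nat.mod (MG u) M)) (mRel MG [T_f, T_v] [T_b, T_c, T_d, T_c, T_b, T_f, T_c, T_f, T_b, T_c, T_d, T_c, T_b, T_f, T_v, T_c] M (Nat.sub (MG u) (Nat.mod (MG u) M)) (nat_lit 40)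 z1 u (Nat.mod (MG u) M)) (Nat.ble (nat_lit 166) j)) (Bool.rec (motive := fun _ => Bool) (mRel MG [T_b, T_c, T_d, T_c, T_b, T_f, T_v, T_b, T_v, T_f] [T_f, T_b, T_f, T_b, T_c, T_d, T_c, T_b] M (Nat.sub (MG u) (Nat.mod (MG u) M)) (nat_lit 40) z1 u (Nat.mod (MG u) M)) (Bool.rec (motive := fun _ => Bool) (mRel MG [T_b, T_f, T_v, T_c, T_v, T_f] [T_c, T_d, T_c, T_b, T_f, T_c, T_f, T_b, T_c, T_d, T_c, T_b] M (Nat.sub (MG u) (Nat.mod (MG u) M)) (nat_lit 40) z1 u (Nat.mod (MG u) M)) (mRel MG [T_d, T_c, T_b, T_f, T_v, T_b, T_v] [T_c, T_b, T_f, T_b, T_f, T_b, T_c, T_d, T_c, T_b, T_f] M (Nat.sub (MG u) (Nat.mod (MG u) M)) (nat_lit 40) z1 u (Nat.mod (MG u) M)) (Nat.ble (nat_lit 169) j)) (Nat.ble (nat_lit 168) j)) (Nat.ble (nat_lit 167) j)) (Nat.ble (nat_lit 165) j)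
noncomputable def dM_38 (j z1 z2 u : ℕ) : Bool :=
  Bool.rec (motive := fun _ => Bool) (Bool.rec (motive := fun _ => Bool) (Bool.rec (motive := fun _ => Bool) (mRel MG [T_b, T_f, T_b, T_f, T_b, T_c, T_d, T_c, T_b, T_f, T_v, T_b, T_v, T_f, T_b] [T_c, T_d, T_c] M (Nat.sub (MG u) (Nat.mod (MG u) M)) (nat_lit 40) z1 u (Nat.mod (MG u) M)) (mRel MG [T_d, T_c, T_b, T_f, T_c, T_f, T_b, T_c, T_d, T_c, T_b, T_f, T_v, T_c, T_v, T_f, T_b] [T_c] M (Nat.sub (MG u) (Nat.mod (MG u) M)) (nat_lit 40) z1 u (Nat.mod (MG u) M)) (Nat.ble (nat_lit 171) j)) (Bool.rec (motive := fun _ => Bool) (mRel MG [T_c, T_d, T_c, T_b, T_f, T_v, T_c, T_v, T_f, T_b] [T_b, T_f, T_c, T_f, T_b, T_c, T_d, T_c] M (Nat.sub (MG u) (Nat.mod (MG u) M)) (nat_lit 40) z1 u (Nat.mod (MG u) M)) (Bool.rec (motive := fun _ => Bool) (mRel MG [T_b, T_f, T_c, T_f, T_b, T_c, T_d,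 T_c, T_b, T_f, T_v, T_c, T_v] [T_c, T_d, T_c, T_b, T_f] M (Nat.sub (MG u) (Nat.mod (MG u) M)) (nat_lit 40) z1 u (Nat.mod (MG u) M)) (mRel MG [T_c, T_f, T_c] [T_f] M (Nat.sub (MG u) (Nat.mod (MG u) M)) (nat_lit 40) z1 u (Nat.mod (MG u) M)) (Nat.ble (nat_lit 174) j)) (Nat.ble (nat_lit 173) j)) (Nat.ble (nat_lit 172) j)) (Bool.rec (motive := fun _ => Bool) (Bool.rec (motive := fun _ => Bool) (mRel MG [T_c, T_f, T_b, T_c, T_d, T_c, T_b, T_f, T_v, T_c, T_v] [T_f, T_b, T_c, T_d, T_c, T_b, T_f] M (Nat.sub (MG u) (Nat.mod (MG u) M)) (nat_lit 40) z1 u (Nat.mod (MG u) M)) (Bool.rec (motive := fun _ => Bool) (mRel MG [T_c, T_b, T_f, T_v, T_c, T_v, T_f] [T_d, T_c, T_b, T_f, T_c, T_f, T_b, T_c, T_d, T_c, T_b] M (Nat.sub (MG u) (Nat.mod (MG u) M)) (nat_lit 40) z1 u (Nat.mod (MG u) M)) (mRel MG [T_a, T_d, T_c] [T_c, T_d, T_c, T_d, T_c,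 T_d] M (Nat.sub (MG u) (Nat.mod (MG u) M)) (nat_lit 40) z1 u (Nat.mod (MG u) M)) (Nat.ble (nat_lit 177) j)) (Nat.ble (nat_lit 176) j)) (Bool.rec (motive := fun _ => Bool) (mRel MG [T_f, T_v, T_d, T_c] [T_b, T_c, T_d, T_c, T_b, T_f, T_d, T_c, T_b, T_a, T_f, T_b, T_c, T_d, T_c, T_b, T_f, T_v, T_a, T_b] M (Nat.sub (MG u) (Nat.mod (MG u) M)) (nat_lit 40) z1 u (Nat.mod (MG u) M)) (Bool.rec (motive := fun _ => Bool) (mRel MG [T_v, T_f, T_b, T_c, T_d, T_c, T_b, T_f, T_d, T_c, T_b, T_a, T_f, T_b, T_c, T_d, T_c, T_b, T_f] [T_d, T_c, T_b, T_a, T_v] M (Nat.sub (MG u) (Nat.mod (MG u) M)) (nat_lit 40) z1 u (Nat.mod (MG u) M)) (mRel MG [T_c, T_d, T_c, T_d, T_c, T_d, T_c, T_a, T_d] [] M (Nat.sub (MG u) (Nat.mod (MG u) M)) (nat_lit 40) z1 u (Nat.mod (MG u) M)) (Nat.ble (nat_lit 180) j)) (Nat.ble (nat_lit 179) j)) (Nat.ble (nat_lit 178)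 j)) (Nat.ble (nat_lit 175) j)
noncomputable def dM_39 (j z1 z2 u : ℕ) : Bool :=
  Bool.rec (motive := fun _ => Bool) (dM_37 j z1 z2 u) (dM_38 j z1 z2 u) (Nat.ble (nat_lit 170) j)
noncomputable def dM_40 (j z1 z2 u : ℕ) : Bool :=
  Bool.rec (motive := fun _ => Bool) (Bool.rec (motive := fun _ => Bool) (mRel MG [T_b, T_f] [T_c, T_d, T_c, T_b, T_f, T_b, T_f, T_b, T_c, T_d, T_c, T_b, T_f, T_v, T_b, T_v] M (Nat.sub (MG u) (Nat.mod (MG u) M)) (nat_lit 40) z1 u (Nat.mod (MG u) M)) (Bool.rec (motive := fun _ => Bool) (mRel MG [T_b, T_f] [T_f, T_b, T_f, T_b] M (Nat.sub (MG u) (Nat.mod (MG u) M)) (nat_lit 40) z1 u (Nat.mod (MG u) M)) (mRel MG [T_c, T_b, T_f, T_b, T_f, T_b, T_c, T_d, T_c, T_b, T_f, T_v, T_b, T_v, T_f] [T_d, T_c, T_b] M (Nat.sub (MG u) (Nat.mod (MG u) M)) (nat_lit 40) z1 u (Nat.mod (MG u) M)) (Nat.ble (nat_lit 183)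 j)) (Nat.ble (nat_lit 182) j)) (Bool.rec (motive := fun _ => Bool) (mRel MG [T_c, T_b, T_a, T_v] [T_d, T_v, T_f, T_b, T_c, T_d, T_c, T_b, T_f, T_d, T_c, T_b, T_a, T_f, T_b, T_c, T_d, T_c, T_b, T_f] M (Nat.sub (MG u) (Nat.mod (MG u) M)) (nat_lit 40) z1 u (Nat.mod (MG u) M)) (Bool.rec (motive := fun _ => Bool) (mRel MG [T_e, T_b, T_c, T_d, T_c, T_b, T_f, T_e, T_v, T_f, T_b, T_c, T_d, T_c, T_b, T_f, T_e, T_f, T_b] [T_f, T_v, T_f, T_b, T_c, T_d, T_c] M (Nat.sub (MG u) (Nat.mod (MG u) M)) (nat_lit 40) z1 u (Nat.mod (MG u) M)) (mRel MG [T_f, T_b, T_c, T_d, T_c, T_b, T_f, T_c, T_f, T_b, T_c, T_d, T_c, T_b, T_f, T_v, T_c, T_v] [] M (Nat.sub (MG u) (Nat.mod (MG u) M)) (nat_lit 40) z1 u (Nat.mod (MG u) M)) (Nat.ble (nat_lit 186) j)) (Nat.ble (nat_lit 185) j)) (Nat.ble (nat_lit 184) j)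
noncomputable def dM_41 (j z1 z2 u : ℕ) : Bool :=
  Bool.rec (motive := fun _ => Bool) (Bool.rec (motive := fun _ => Bool) (Bool.rec (motive := fun _ => Bool) (mRel MG [T_a, T_b, T_c, T_f, T_a] [T_f, T_c, T_b, T_a, T_f, T_c, T_b, T_a, T_f, T_c, T_b, T_a, T_f, T_c, T_b] M (Nat.sub (MG u) (Nat.mod (MG u) M)) (nat_lit 40) z1 u (Nat.mod (MG u) M)) (mRel MG [T_f, T_b, T_c, T_d, T_c, T_b, T_f, T_d, T_c, T_b, T_a, T_f, T_b, T_c, T_d, T_c, T_b, T_f, T_v] [T_v, T_d, T_c, T_b, T_a] M (Nat.sub (MG u) (Nat.mod (MG u) M)) (nat_lit 40) z1 u (Nat.mod (MG u) M)) (Nat.ble (nat_lit 188) j)) (Bool.rec (motive := fun _ => Bool) (mRel MG [T_b, T_c, T_d, T_f, T_b, T_c, T_d, T_c, T_b, T_f, T_v] [T_a, T_f, T_b, T_c, T_d, T_c, T_b, T_f, T_v, T_a, T_b, T_c, T_d] M (Nat.sub (MG u) (Nat.mod (MG u) M)) (nat_lit 40) z1 u (Nat.mod (MG u) M)) (mRel MG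 [T_f, T_b, T_c, T_d, T_c, T_b, T_f] [T_b, T_f, T_b, T_c, T_d, T_c, T_b, T_f, T_v, T_b, T_v] M (Nat.sub (MG u) (Nat.mod (MG u) M)) (nat_lit 40) z1 u (Nat.mod (MG u) M)) (Nat.ble (nat_lit 190) j)) (Nat.ble (nat_lit 189) j)) (Bool.rec (motive := fun _ => Bool) (Bool.rec (motive := fun _ => Bool) (mRel MG [T_c, T_d, T_c, T_b, T_f, T_v, T_c, T_v, T_f] [T_b, T_f, T_c, T_f, T_b, T_c, T_d, T_c, T_b] M (Nat.sub (MG u) (Nat.mod (MG u) M)) (nat_lit 40) z1 u (Nat.mod (MG u) M)) (mRel MG [T_b, T_v, T_f, T_b, T_c, T_d, T_c, T_b, T_f, T_b, T_f, T_b, T_c, T_d, T_c, T_b, T_f, T_v] [] M (Nat.sub (MG u) (Nat.mod (MG u) M)) (nat_lit 40) z1 u (Nat.mod (MG u) M)) (Nat.ble (nat_lit 192) j)) (Bool.rec (motive := fun _ => Bool) (mRel MG [T_b, T_c, T_d, T_c, T_b, T_f, T_v, T_b, T_v, T_f, T_b] [T_f, T_b, T_f, T_b, T_c, T_d, T_c] M (Nat.sub (MG u)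 (Nat.mod (MG u) M)) (nat_lit 40) z1 u (Nat.mod (MG u) M)) (mRel MG [T_c, T_d, T_c, T_b, T_f, T_a, T_b, T_c, T_d, T_f, T_b, T_c, T_d, T_c, T_b, T_f, T_v] [T_b, T_f, T_v, T_a, T_b, T_c, T_d] M (Nat.sub (MG u) (Nat.mod (MG u) M)) (nat_lit 40) z1 u (Nat.mod (MG u) M)) (Nat.ble (nat_lit 194) j)) (Nat.ble (nat_lit 193) j)) (Nat.ble (nat_lit 191) j)
noncomputable def dM_42 (j z1 z2 u : ℕ) : Bool :=
  Bool.rec (motive := fun _ => Bool) (dM_40 j z1 z2 u) (dM_41 j z1 z2 u) (Nat.ble (nat_lit 187) j)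
noncomputable def dM_43 (j z1 z2 u : ℕ) : Bool :=
  Bool.rec (motive := fun _ => Bool) (Bool.rec (motive := fun _ => Bool) (Bool.rec (motive := fun _ => Bool) (mRel MG [T_c, T_d, T_c, T_b, T_f, T_d, T_c, T_b, T_a, T_f, T_b, T_c, T_d, T_c, T_b, T_f, T_v, T_a, T_b, T_c, T_d, T_v] [T_b, T_f] M (Nat.sub (MG u) (Nat.mod (MG u) M)) (nat_lit 40) z1 u (Nat.mod (MG u) M)) (mRel MG [T_c, T_a, T_c] [T_a] M (Nat.sub (MG u) (Nat.mod (MG u) M)) (nat_lit 40) z1 u (Nat.mod (MG u) M)) (Nat.ble (nat_lit 196) j)) (Bool.rec (motive := fun _ => Bool) (mRel MG [T_v, T_f, T_b, T_c, T_d, T_c, T_b, T_f, T_v, T_f, T_b, T_c, T_d, T_c, T_b] [T_f, T_b, T_c, T_d, T_c, T_b, T_f, T_v, T_f] M (Nat.sub (MG u) (Nat.mod (MG u) M)) (nat_lit 40) z1 u (Nat.mod (MG u) M)) (mRel MG [T_v, T_f, T_b, T_c, T_d, T_c, T_b, T_f, T_b, T_f, T_b, T_c, T_d, T_c, T_b, T_f,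 T_v, T_b] [] M (Nat.sub (MG u) (Nat.mod (MG u) M)) (nat_lit 40) z1 u (Nat.mod (MG u) M)) (Nat.ble (nat_lit 198) j)) (Nat.ble (nat_lit 197) j)) (Bool.rec (motive := fun _ => Bool) (Bool.rec (motive := fun _ => Bool) (mRel MG [T_d, T_c, T_b, T_f, T_d, T_c, T_b, T_a, T_f, T_b, T_c, T_d, T_c, T_b, T_f, T_v] [T_c, T_b, T_f, T_v, T_d, T_c, T_b, T_a] M (Nat.sub (MG u) (Nat.mod (MG u) M)) (nat_lit 40) z1 u (Nat.mod (MG u) M)) (mRel MG [T_b, T_f, T_b, T_f, T_b, T_c, T_d, T_c, T_b, T_f] [T_c, T_d, T_c, T_b, T_f, T_v, T_b, T_v] M (Nat.sub (MG u) (Nat.mod (MG u) M)) (nat_lit 40) z1 u (Nat.mod (MG u) M)) (Nat.ble (nat_lit 200) j)) (Bool.rec (motive := fun _ => Bool) (mRel MG [T_v, T_f, T_b, T_c, T_d, T_c, T_b, T_f, T_v, T_f, T_b, T_c, T_d] [T_f, T_b, T_c, T_d, T_c, T_b, T_f, T_v, T_f, T_b, T_c] M (Nat.sub (MG u) (Nat.mod (MG u) M))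 (nat_lit 40) z1 u (Nat.mod (MG u) M)) (mRel MG [T_c, T_b, T_f, T_v, T_a, T_b, T_c, T_d] [T_d, T_c, T_b, T_f, T_a, T_b, T_c, T_d, T_f, T_b, T_c, T_d, T_c, T_b, T_f, T_v] M (Nat.sub (MG u) (Nat.mod (MG u) M)) (nat_lit 40) z1 u (Nat.mod (MG u) M)) (Nat.ble (nat_lit 202) j)) (Nat.ble (nat_lit 201) j)) (Nat.ble (nat_lit 199) j)
noncomputable def dM_44 (j z1 z2 u : ℕ) : Bool :=
  Bool.rec (motive := fun _ => Bool) (Bool.rec (motive := fun _ => Bool) (Bool.rec (motive := fun _ => Bool) (mRel MG [T_c, T_b, T_f, T_v, T_d, T_c, T_b, T_a] [T_d, T_c, T_b, T_f, T_d, T_c, T_b, T_a, T_f, T_b, T_c, T_d, T_c, T_b, T_f, T_v] M (Nat.sub (MG u) (Nat.mod (MG u) M)) (nat_lit 40) z1 u (Nat.mod (MG u) M)) (mRel MG [T_d, T_e] [T_e, T_d, T_e, T_d] M (Nat.sub (MG u) (Nat.mod (MG u) M)) (nat_lit 40) z1 u (Nat.mod (MG u) M)) (Nat.ble (nat_lit 204)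 j)) (Bool.rec (motive := fun _ => Bool) (mRel MG [T_f, T_v] [T_b, T_c, T_d, T_c, T_b, T_f, T_a, T_b, T_c, T_d, T_f, T_b, T_c, T_d, T_c, T_b, T_f, T_v, T_d, T_c, T_b, T_a] M (Nat.sub (MG u) (Nat.mod (MG u) M)) (nat_lit 40) z1 u (Nat.mod (MG u) M)) (mRel MG [T_d, T_c, T_b, T_f, T_b, T_f, T_b, T_c, T_d, T_c, T_b, T_f, T_v, T_b, T_v, T_f, T_b] [T_c] M (Nat.sub (MG u) (Nat.mod (MG u) M)) (nat_lit 40) z1 u (Nat.mod (MG u) M)) (Nat.ble (nat_lit 206) j)) (Nat.ble (nat_lit 205) j)) (Bool.rec (motive := fun _ => Bool) (Bool.rec (motive := fun _ => Bool) (mRel MG [T_v, T_f, T_b, T_c, T_d, T_c, T_b, T_f, T_v, T_f, T_b, T_c, T_d, T_c] [T_f, T_b, T_c, T_d, T_c, T_b, T_f, T_v, T_f, T_b] M (Nat.sub (MG u) (Nat.mod (MG u) M)) (nat_lit 40) z1 u (Nat.mod (MG u) M)) (mRel MG [T_f, T_b, T_c, T_d, T_c, T_b, T_f, T_v, T_c, T_v, T_f] [T_c, T_f,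 T_b, T_c, T_d, T_c, T_b] M (Nat.sub (MG u) (Nat.mod (MG u) M)) (nat_lit 40) z1 u (Nat.mod (MG u) M)) (Nat.ble (nat_lit 208) j)) (Bool.rec (motive := fun _ => Bool) (mRel MG [T_c, T_b, T_f] [T_d, T_c, T_b, T_f, T_b, T_f, T_b, T_c, T_d, T_c, T_b, T_f, T_v, T_b, T_v] M (Nat.sub (MG u) (Nat.mod (MG u) M)) (nat_lit 40) z1 u (Nat.mod (MG u) M)) (mRel MG [T_c, T_b, T_f, T_v, T_c, T_v, T_f, T_b] [T_d, T_c, T_b, T_f, T_c, T_f, T_b, T_c, T_d, T_c] M (Nat.sub (MG u) (Nat.mod (MG u) M)) (nat_lit 40) z1 u (Nat.mod (MG u) M)) (Nat.ble (nat_lit 210) j)) (Nat.ble (nat_lit 209) j)) (Nat.ble (nat_lit 207) j)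
noncomputable def dM_45 (j z1 z2 u : ℕ) : Bool :=
  Bool.rec (motive := fun _ => Bool) (dM_43 j z1 z2 u) (dM_44 j z1 z2 u) (Nat.ble (nat_lit 203) j)
noncomputable def dM_46 (j z1 z2 u : ℕ) : Bool :=
  Bool.rec (motive := fun _ => Bool) (dM_42 j z1 z2 u) (dM_45 j z1 z2 u) (Nat.ble (nat_lit 195) j)
noncomputable def dM_47 (j z1 z2 u : ℕ) : Bool :=
  Bool.rec (motive := fun _ => Bool) (dM_39 j z1 z2 u) (dM_46 j z1 z2 u) (Nat.ble (nat_lit 181) j)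
noncomputable def dM_48 (j z1 z2 u : ℕ) : Bool :=
  Bool.rec (motive := fun _ => Bool) (Bool.rec (motive := fun _ => Bool) (Bool.rec (motive := fun _ => Bool) (mRel MG [T_c, T_b, T_f, T_v, T_b, T_v, T_f] [T_d, T_c, T_b, T_f, T_b, T_f, T_b, T_c, T_d, T_c, T_b] M (Nat.sub (MG u) (Nat.mod (MG u) M)) (nat_lit 40) z1 u (Nat.mod (MG u) M)) (mRel MG [T_b, T_f, T_v, T_b, T_v, T_f] [T_c, T_d, T_c, T_b, T_f, T_b, T_f, T_b, T_c, T_d, T_c, T_b] M (Nat.sub (MG u) (Nat.mod (MG u) M)) (nat_lit 40) z1 u (Nat.mod (MG u) M)) (Nat.ble (nat_lit 212) j)) (Bool.rec (motive := fun _ => Bool) (mRel MG [T_a, T_d, T_c, T_d] [T_c, T_d, T_c, T_d, T_c] M (Nat.sub (MG u) (Nat.mod (MG u) M)) (nat_lit 40) z1 u (Nat.mod (MG u) M)) (mRel MG [T_f, T_b, T_c, T_d, T_c, T_b, T_f, T_a, T_b, T_c, T_d, T_f, T_b, T_c, T_d, T_c, T_b, T_f, T_v, T_d, T_c, T_b, T_a,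 T_v] [] M (Nat.sub (MG u) (Nat.mod (MG u) M)) (nat_lit 40) z1 u (Nat.mod (MG u) M)) (Nat.ble (nat_lit 214) j)) (Nat.ble (nat_lit 213) j)) (Bool.rec (motive := fun _ => Bool) (Bool.rec (motive := fun _ => Bool) (mRel MG [T_c, T_d, T_c, T_b, T_f, T_v, T_b, T_v, T_f, T_b] [T_b, T_f, T_b, T_f, T_b, T_c, T_d, T_c] M (Nat.sub (MG u) (Nat.mod (MG u) M)) (nat_lit 40) z1 u (Nat.mod (MG u) M)) (mRel MG [T_f, T_b, T_c, T_d, T_c, T_b, T_f, T_a, T_b, T_c, T_d, T_f, T_b, T_c, T_d, T_c, T_b, T_f, T_v, T_d, T_c, T_b, T_a] [T_v] M (Nat.sub (MG u) (Nat.mod (MG u) M)) (nat_lit 40) z1 u (Nat.mod (MG u) M)) (Nat.ble (nat_lit 216) j)) (Bool.rec (motive := fun _ => Bool) (mRel MG [T_d, T_c, T_b, T_a] [T_v, T_f, T_b, T_c, T_d, T_c, T_b, T_f, T_d, T_c, T_b, T_a, T_f, T_b, T_c, T_d, T_c, T_b, T_f, T_v] M (Nat.sub (MG u) (Nat.mod (MG u) M)) (nat_lit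 40) z1 u (Nat.mod (MG u) M)) (mRel MG [T_c, T_d, T_c, T_b, T_f, T_c, T_f, T_b, T_c, T_d, T_c, T_b, T_f, T_v, T_c, T_v, T_f] [T_b] M (Nat.sub (MG u) (Nat.mod (MG u) M)) (nat_lit 40) z1 u (Nat.mod (MG u) M)) (Nat.ble (nat_lit 218) j)) (Nat.ble (nat_lit 217) j)) (Nat.ble (nat_lit 215) j)
noncomputable def dM_49 (j z1 z2 u : ℕ) : Bool :=
  Bool.rec (motive := fun _ => Bool) (Bool.rec (motive := fun _ => Bool) (Bool.rec (motive := fun _ => Bool) (mRel MG [T_b, T_f, T_v] [T_c, T_d, T_c, T_b, T_f, T_d, T_c, T_b, T_a, T_f, T_b, T_c, T_d, T_c, T_b, T_f, T_v, T_a, T_b, T_c, T_d] M (Nat.sub (MG u) (Nat.mod (MG u) M)) (nat_lit 40) z1 u (Nat.mod (MG u) M)) (mRel MG [T_c, T_d, T_c, T_b, T_f, T_b, T_f, T_b, T_c, T_d, T_c, T_b, T_f] [T_b, T_f, T_v, T_b, T_v] M (Nat.sub (MG u) (Nat.mod (MG u) M)) (nat_lit 40) z1 u (Nat.mod (MG u) M)) (Nat.ble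 (nat_lit 220) j)) (Bool.rec (motive := fun _ => Bool) (mRel MG [T_a, T_b, T_a, T_b, T_a] [T_b, T_a, T_b, T_a, T_b] M (Nat.sub (MG u) (Nat.mod (MG u) M)) (nat_lit 40) z1 u (Nat.mod (MG u) M)) (mRel MG [T_b, T_c, T_d, T_c, T_b, T_f, T_c, T_f, T_b, T_c, T_d, T_c, T_b, T_f, T_v, T_c, T_v, T_f] [] M (Nat.sub (MG u) (Nat.mod (MG u) M)) (nat_lit 40) z1 u (Nat.mod (MG u) M)) (Nat.ble (nat_lit 222) j)) (Nat.ble (nat_lit 221) j)) (Bool.rec (motive := fun _ => Bool) (Bool.rec (motive := fun _ => Bool) (mRel MG [T_c, T_d, T_c, T_d, T_c, T_d] [T_d, T_a, T_c] M (Nat.sub (MG u) (Nat.mod (MG u) M)) (nat_lit 40) z1 u (Nat.mod (MG u) M)) (mRel MG [T_b, T_a] [T_c, T_d, T_v, T_f, T_b, T_c, T_d, T_c, T_b, T_f, T_d, T_c, T_b, T_a, T_f, T_b, T_c, T_d, T_c, T_b, T_f, T_v] M (Nat.sub (MG u) (Nat.mod (MG u) M)) (nat_lit 40) z1 u (Nat.mod (MG u)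 M)) (Nat.ble (nat_lit 224) j)) (Bool.rec (motive := fun _ => Bool) (mRel MG [T_c, T_b, T_f, T_a, T_b, T_c, T_d, T_f, T_b, T_c, T_d, T_c, T_b, T_f, T_v, T_d] [T_d, T_c, T_b, T_f, T_v, T_a, T_b, T_c] M (Nat.sub (MG u) (Nat.mod (MG u) M)) (nat_lit 40) z1 u (Nat.mod (MG u) M)) (mRel MG [T_f, T_b, T_f, T_b, T_c, T_d, T_c, T_b, T_f, T_v, T_b, T_v, T_f] [T_b, T_c, T_d, T_c, T_b] M (Nat.sub (MG u) (Nat.mod (MG u) M)) (nat_lit 40) z1 u (Nat.mod (MG u) M)) (Nat.ble (nat_lit 226) j)) (Nat.ble (nat_lit 225) j)) (Nat.ble (nat_lit 223) j)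
noncomputable def dM_50 (j z1 z2 u : ℕ) : Bool :=
  Bool.rec (motive := fun _ => Bool) (dM_48 j z1 z2 u) (dM_49 j z1 z2 u) (Nat.ble (nat_lit 219) j)
noncomputable def dM_51 (j z1 z2 u : ℕ) : Bool :=
  Bool.rec (motive := fun _ => Bool) (Bool.rec (motive := fun _ => Bool) (Bool.rec (motive := fun _ => Bool) (mRel MG [T_f, T_d, T_f] [T_d] M (Nat.sub (MG u) (Nat.mod (MG u) M)) (nat_lit 40) z1 u (Nat.mod (MG u) M)) (mRel MG [T_d, T_c, T_d, T_c, T_a] [T_c, T_d, T_c, T_d] M (Nat.sub (MG u) (Nat.mod (MG u) M)) (nat_lit 40) z1 u (Nat.mod (MG u) M)) (Nat.ble (nat_lit 228) j)) (Bool.rec (motive := fun _ => Bool) (mRel MG [T_c, T_d, T_c, T_d, T_c] [T_d, T_a, T_c, T_d] M (Nat.sub (MG u) (Nat.mod (MG u) M)) (nat_lit 40) z1 u (Nat.mod (MG u) M)) (mRel MG [T_f, T_v, T_d, T_c, T_b] [T_b, T_c, T_d, T_c, T_b, T_f, T_d, T_c, T_b, T_a, T_f,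 T_b, T_c, T_d, T_c, T_b, T_f, T_v, T_a] M (Nat.sub (MG u) (Nat.mod (MG u) M)) (nat_lit 40) z1 u (Nat.mod (MG u) M)) (Nat.ble (nat_lit 230) j)) (Nat.ble (nat_lit 229) j)) (Bool.rec (motive := fun _ => Bool) (Bool.rec (motive := fun _ => Bool) (mRel MG [T_b, T_f, T_a, T_b, T_c, T_d, T_f, T_b, T_c, T_d, T_c, T_b, T_f, T_v, T_d, T_c, T_b] [T_c, T_d, T_c, T_b, T_f, T_v, T_a] M (Nat.sub (MG u) (Nat.mod (MG u) M)) (nat_lit 40) z1 u (Nat.mod (MG u) M)) (mRel MG [T_d, T_c, T_b, T_f, T_e, T_v, T_f, T_b, T_c, T_d, T_c, T_b, T_f, T_e, T_f, T_b] [T_c, T_b, T_e, T_f, T_v, T_f, T_b, T_c, T_d, T_c] M (Nat.sub (MG u) (Nat.mod (MG u) M)) (nat_lit 40) z1 u (Nat.mod (MG u) M)) (Nat.ble (nat_lit 232) j)) (Bool.rec (motive := fun _ => Bool) (mRel MG [T_d, T_c, T_b, T_f, T_a, T_b, T_c, T_d, T_f, T_b, T_c, T_d, T_c, T_b, T_f, T_v] [T_c, T_b, T_f,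 T_v, T_a, T_b, T_c, T_d] M (Nat.sub (MG u) (Nat.mod (MG u) M)) (nat_lit 40) z1 u (Nat.mod (MG u) M)) (mRel MG [T_b, T_a, T_b, T_a, T_b, T_a, T_b, T_a] [T_a, T_b] M (Nat.sub (MG u) (Nat.mod (MG u) M)) (nat_lit 40) z1 u (Nat.mod (MG u) M)) (Nat.ble (nat_lit 234) j)) (Nat.ble (nat_lit 233) j)) (Nat.ble (nat_lit 231) j)
noncomputable def dM_52 (j z1 z2 u : ℕ) : Bool :=
  Bool.rec (motive := fun _ => Bool) (Bool.rec (motive := fun _ => Bool) (Bool.rec (motive := fun _ => Bool) (mRel MG [T_f, T_v, T_d, T_c, T_b, T_a] [T_b, T_c, T_d, T_c, T_b, T_f, T_d, T_c, T_b, T_a, T_f, T_b, T_c, T_d, T_c, T_b, T_f, T_v] M (Nat.sub (MG u) (Nat.mod (MG u) M)) (nat_lit 40) z1 u (Nat.mod (MG u) M)) (mRel MG [T_f, T_b, T_c, T_d, T_c, T_b, T_f, T_a, T_b, T_c, T_d, T_f, T_b, T_c, T_d, T_c, T_b, T_f] [T_v, T_a, T_b, T_c, T_d, T_v] M (Nat.sub (MG u)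 (Nat.mod (MG u) M)) (nat_lit 40) z1 u (Nat.mod (MG u) M)) (Nat.ble (nat_lit 236) j)) (Bool.rec (motive := fun _ => Bool) (mRel MG [T_b, T_c, T_d, T_c, T_b, T_f, T_d, T_c, T_b, T_a, T_f, T_b, T_c, T_d, T_c, T_b, T_f, T_v, T_a, T_b, T_c] [T_f, T_v, T_d] M (Nat.sub (MG u) (Nat.mod (MG u) M)) (nat_lit 40) z1 u (Nat.mod (MG u) M)) (mRel MG [T_b, T_f, T_v] [T_c, T_d, T_c, T_b, T_f, T_c, T_f, T_b, T_c, T_d, T_c, T_b, T_f, T_v, T_c] M (Nat.sub (MG u) (Nat.mod (MG u) M)) (nat_lit 40) z1 u (Nat.mod (MG u) M)) (Nat.ble (nat_lit 238) j)) (Nat.ble (nat_lit 237) j)) (Bool.rec (motive := fun _ => Bool) (Bool.rec (motive := fun _ => Bool) (mRel MG [T_f, T_a, T_b, T_c, T_d, T_f, T_b, T_c, T_d, T_c, T_b, T_f, T_v, T_d] [T_b, T_c, T_d, T_c, T_b, T_f, T_v, T_a, T_b, T_c] M (Nat.sub (MG u) (Nat.mod (MG u) M)) (nat_lit 40) z1 u (Nat.mod (MG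 u) M)) (mRel MG [T_f, T_b, T_c, T_d, T_c, T_b, T_f, T_v, T_a, T_b, T_c, T_d, T_v, T_f] [T_a, T_b, T_c, T_d, T_f, T_b, T_c, T_d, T_c, T_b] M (Nat.sub (MG u) (Nat.mod (MG u) M)) (nat_lit 40) z1 u (Nat.mod (MG u) M)) (Nat.ble (nat_lit 240) j)) (Bool.rec (motive := fun _ => Bool) (mRel MG [T_c, T_d, T_c, T_b, T_f, T_v, T_a, T_b, T_c] [T_b, T_f, T_a, T_b, T_c, T_d, T_f, T_b, T_c, T_d, T_c, T_b, T_f, T_v, T_d] M (Nat.sub (MG u) (Nat.mod (MG u) M)) (nat_lit 40) z1 u (Nat.mod (MG u) M)) (mRel MG [T_c, T_d, T_c, T_b, T_f, T_v, T_a, T_b] [T_b, T_f, T_a, T_b, T_c, T_d, T_f, T_b, T_c, T_d, T_c, T_b, T_f, T_v, T_d, T_c] M (Nat.sub (MG u) (Nat.mod (MG u) M)) (nat_lit 40) z1 u (Nat.mod (MG u) M)) (Nat.ble (nat_lit 242) j)) (Nat.ble (nat_lit 241) j)) (Nat.ble (nat_lit 239) j)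
noncomputable def dM_53 (j z1 z2 u : ℕ) : Bool :=
  Bool.rec (motive := fun _ => Bool) (dM_51 j z1 z2 u) (dM_52 j z1 z2 u) (Nat.ble (nat_lit 235) j)
noncomputable def dM_54 (j z1 z2 u : ℕ) : Bool :=
  Bool.rec (motive := fun _ => Bool) (dM_50 j z1 z2 u) (dM_53 j z1 z2 u) (Nat.ble (nat_lit 227) j)
noncomputable def dM_55 (j z1 z2 u : ℕ) : Bool :=
  Bool.rec (motive := fun _ => Bool) (Bool.rec (motive := fun _ => Bool) (Bool.rec (motive := fun _ => Bool) (mRel MG [T_d, T_c, T_b, T_f, T_v, T_a, T_b, T_c] [T_c, T_b, T_f, T_a, T_b, T_c, T_d, T_f, T_b, T_c, T_d, T_c, T_b, T_f, T_v, T_d] M (Nat.sub (MG u) (Nat.mod (MG u) M)) (nat_lit 40) z1 u (Nat.mod (MG u) M)) (mRel MG [T_v, T_f, T_b, T_c, T_d, T_c, T_b, T_f, T_v] [T_f, T_b, T_c, T_d, T_c, T_b, T_f, T_v, T_f, T_b, T_c, T_d, T_c, T_b, T_f] M (Nat.sub (MG u) (Nat.mod (MG u) M))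 (nat_lit 40) z1 u (Nat.mod (MG u) M)) (Nat.ble (nat_lit 244) j)) (Bool.rec (motive := fun _ => Bool) (mRel MG [T_a, T_f, T_a] [T_f] M (Nat.sub (MG u) (Nat.mod (MG u) M)) (nat_lit 40) z1 u (Nat.mod (MG u) M)) (mRel MG [T_c, T_b, T_f, T_d, T_c, T_b, T_a, T_f, T_b, T_c, T_d, T_c, T_b, T_f, T_v, T_a, T_b, T_c, T_d, T_v] [T_d, T_c, T_b, T_f] M (Nat.sub (MG u) (Nat.mod (MG u) M)) (nat_lit 40) z1 u (Nat.mod (MG u) M)) (Nat.ble (nat_lit 246) j)) (Nat.ble (nat_lit 245) j)) (Bool.rec (motive := fun _ => Bool) (Bool.rec (motive := fun _ => Bool) (mRel MG [T_b, T_a, T_b, T_a] [T_a, T_b, T_a, T_b, T_a, T_b] M (Nat.sub (MG u) (Nat.mod (MG u) M)) (nat_lit 40) z1 u (Nat.mod (MG u) M)) (mRel MG [T_v, T_d, T_c, T_b, T_a, T_v, T_f] [T_f, T_b, T_c, T_d, T_c, T_b, T_f, T_d, T_c, T_b, T_a, T_f, T_b, T_c, T_d, T_c, T_b] M (Nat.sub (MG u) (Nat.mod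 (MG u) M)) (nat_lit 40) z1 u (Nat.mod (MG u) M)) (Nat.ble (nat_lit 248) j)) (Bool.rec (motive := fun _ => Bool) (mRel MG [T_f, T_b, T_c, T_d, T_c, T_b, T_f, T_d, T_c, T_b, T_a, T_f, T_b, T_c, T_d, T_c, T_b, T_f, T_v, T_a, T_b] [T_v, T_d, T_c] M (Nat.sub (MG u) (Nat.mod (MG u) M)) (nat_lit 40) z1 u (Nat.mod (MG u) M)) (mRel MG [T_a, T_v, T_f, T_b, T_c, T_d, T_c, T_b, T_f, T_a, T_b, T_c, T_d, T_f, T_b, T_c, T_d, T_c, T_b, T_f] [T_b, T_c, T_d, T_v] M (Nat.sub (MG u) (Nat.mod (MG u) M)) (nat_lit 40) z1 u (Nat.mod (MG u) M)) (Nat.ble (nat_lit 250) j)) (Nat.ble (nat_lit 249) j)) (Nat.ble (nat_lit 247) j)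
noncomputable def dM_56 (j z1 z2 u : ℕ) : Bool :=
  Bool.rec (motive := fun _ => Bool) (Bool.rec (motive := fun _ => Bool) (Bool.rec (motive := fun _ => Bool) (mRel MG [T_a, T_d, T_c, T_d, T_c, T_d] [T_c, T_d, T_c] M (Nat.sub (MG u) (Nat.mod (MG u) M)) (nat_lit 40) z1 u (Nat.mod (MG u) M)) (mRel MG [T_f, T_b, T_c, T_d, T_c, T_b, T_f, T_v] [T_c, T_f, T_b, T_c, T_d, T_c, T_b, T_f, T_v, T_c] M (Nat.sub (MG u) (Nat.mod (MG u) M)) (nat_lit 40) z1 u (Nat.mod (MG u) M)) (Nat.ble (nat_lit 252) j)) (Bool.rec (motive := fun _ => Bool) (mRel MG [T_a, T_d, T_c, T_d, T_c, T_d, T_c] [T_c, T_d] M (Nat.sub (MG u) (Nat.mod (MG u) M)) (nat_lit 40) z1 u (Nat.mod (MG u) M)) (mRel MG [T_f, T_b, T_c, T_d, T_c, T_b, T_f, T_d, T_c, T_b, T_a, T_f, T_b, T_c, T_d, T_c, T_b, T_f, T_v, T_a] [T_v, T_d, T_c, T_b] M (Nat.sub (MG u) (Nat.mod (MG u) M))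 (nat_lit 40) z1 u (Nat.mod (MG u) M)) (Nat.ble (nat_lit 254) j)) (Nat.ble (nat_lit 253) j)) (Bool.rec (motive := fun _ => Bool) (Bool.rec (motive := fun _ => Bool) (mRel MG [T_c, T_b, T_f, T_v, T_f, T_b, T_c, T_d, T_c, T_b, T_f, T_v, T_f, T_b, T_c, T_d, T_c, T_b, T_f, T_v] [T_d, T_c, T_b, T_f] M (Nat.sub (MG u) (Nat.mod (MG u) M)) (nat_lit 40) z1 u (Nat.mod (MG u) M)) (mRel MG [T_b, T_c, T_d, T_c, T_b, T_f, T_v, T_d, T_c, T_b, T_a] [T_f, T_d, T_c, T_b, T_a, T_f, T_b, T_c, T_d, T_c, T_b, T_f, T_v] M (Nat.sub (MG u) (Nat.mod (MG u) M)) (nat_lit 40) z1 u (Nat.mod (MG u) M)) (Nat.ble (nat_lit 256) j)) (Bool.rec (motive := fun _ => Bool) (mRel MG [T_b, T_c, T_d] [T_a, T_v, T_f, T_b, T_c, T_d, T_c, T_b, T_f, T_a, T_b, T_c, T_d, T_f, T_b, T_c, T_d, T_c, T_b, T_f, T_v] M (Nat.sub (MG u) (Nat.mod (MG u) M)) (nat_lit 40) z1 u (Nat.mod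 (MG u) M)) (mRel MG [T_e, T_d, T_e, T_d] [T_d, T_e] M (Nat.sub (MG u) (Nat.mod (MG u) M)) (nat_lit 40) z1 u (Nat.mod (MG u) M)) (Nat.ble (nat_lit 258) j)) (Nat.ble (nat_lit 257) j)) (Nat.ble (nat_lit 255) j)
noncomputable def dM_57 (j z1 z2 u : ℕ) : Bool :=
  Bool.rec (motive := fun _ => Bool) (dM_55 j z1 z2 u) (dM_56 j z1 z2 u) (Nat.ble (nat_lit 251) j)
noncomputable def dM_58 (j z1 z2 u : ℕ) : Bool :=
  Bool.rec (motive := fun _ => Bool) (Bool.rec (motive := fun _ => Bool) (Bool.rec (motive := fun _ => Bool) (mRel MG [T_b, T_a, T_f, T_b, T_c, T_d, T_c, T_b, T_f, T_v] [T_c, T_d, T_f, T_b, T_c, T_d, T_c, T_b, T_f, T_v, T_d, T_c, T_b, T_a] M (Nat.sub (MG u) (Nat.mod (MG u) M)) (nat_lit 40) z1 u (Nat.mod (MG u) M)) (mRel MG [T_f, T_v, T_b, T_v, T_f] [T_b, T_c, T_d, T_c, T_b, T_f, T_b, T_f, T_b, T_c, T_d, T_c, T_b] M (Nat.sub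 (MG u) (Nat.mod (MG u) M)) (nat_lit 40) z1 u (Nat.mod (MG u) M)) (Nat.ble (nat_lit 260) j)) (Bool.rec (motive := fun _ => Bool) (mRel MG [T_b, T_a, T_f, T_b, T_c, T_d, T_c, T_b, T_f, T_v, T_a, T_b, T_c, T_d] [T_c, T_d, T_f, T_b, T_c, T_d, T_c, T_b, T_f, T_v] M (Nat.sub (MG u) (Nat.mod (MG u) M)) (nat_lit 40) z1 u (Nat.mod (MG u) M)) (mRel MG [T_d, T_c, T_b, T_f, T_a, T_b, T_c, T_d, T_f, T_b, T_c, T_d, T_c, T_b, T_f, T_v, T_d, T_c] [T_c, T_b, T_f, T_v, T_a, T_b] M (Nat.sub (MG u) (Nat.mod (MG u) M)) (nat_lit 40) z1 u (Nat.mod (MG u) M)) (Nat.ble (nat_lit 262) j)) (Nat.ble (nat_lit 261) j)) (Bool.rec (motive := fun _ => Bool) (Bool.rec (motive := fun _ => Bool) (mRel MG [T_c, T_d, T_c, T_b, T_f, T_b, T_f, T_b, T_c, T_d, T_c, T_b, T_f, T_v, T_b, T_v, T_f] [T_b] M (Nat.sub (MG u) (Nat.mod (MG u) M)) (nat_lit 40) z1 u (Nat.mod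 (MG u) M)) (mRel MG [T_a, T_b, T_a, T_b, T_a, T_b, T_a, T_b] [T_b, T_a] M (Nat.sub (MG u) (Nat.mod (MG u) M)) (nat_lit 40) z1 u (Nat.mod (MG u) M)) (Nat.ble (nat_lit 264) j)) (Bool.rec (motive := fun _ => Bool) (mRel MG [T_f, T_b, T_f, T_b, T_f] [T_b] M (Nat.sub (MG u) (Nat.mod (MG u) M)) (nat_lit 40) z1 u (Nat.mod (MG u) M)) (mRel MG [T_c, T_b, T_f, T_c, T_f, T_b, T_c, T_d, T_c, T_b, T_f] [T_d, T_c, T_b, T_f, T_v, T_c, T_v] M (Nat.sub (MG u) (Nat.mod (MG u) M)) (nat_lit 40) z1 u (Nat.mod (MG u) M)) (Nat.ble (nat_lit 266) j)) (Nat.ble (nat_lit 265) j)) (Nat.ble (nat_lit 263) j)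
noncomputable def dM_59 (j z1 z2 u : ℕ) : Bool :=
  Bool.rec (motive := fun _ => Bool) (Bool.rec (motive := fun _ => Bool) (Bool.rec (motive := fun _ => Bool) (mRel MG [T_a, T_b, T_c, T_d, T_v] [T_v, T_f, T_b, T_c, T_d, T_c, T_b, T_f, T_a, T_b, T_c, T_d, T_f, T_b, T_c, T_d, T_c, T_b, T_f] M (Nat.sub (MG u) (Nat.mod (MG u) M)) (nat_lit 40) z1 u (Nat.mod (MG u) M)) (mRel MG [T_c, T_b, T_f, T_b, T_f, T_b, T_c, T_d, T_c, T_b, T_f] [T_d, T_c, T_b, T_f, T_v, T_b, T_v] M (Nat.sub (MG u) (Nat.mod (MG u) M)) (nat_lit 40) z1 u (Nat.mod (MG u) M)) (Nat.ble (nat_lit 268) j)) (Bool.rec (motive := fun _ => Bool) (mRel MG [T_d, T_c, T_b, T_a, T_v] [T_v, T_f, T_b, T_c, T_d, T_c, T_b, T_f, T_d, T_c, T_b, T_a, T_f, T_b, T_c, T_d, T_c, T_b, T_f] M (Nat.sub (MG u) (Nat.mod (MG u) M)) (nat_lit 40) z1 u (Nat.mod (MG u) M)) (mRel MG [T_f, T_c,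 T_f, T_b, T_c, T_d, T_c, T_b, T_f] [T_b, T_c, T_d, T_c, T_b, T_f, T_v, T_c, T_v] M (Nat.sub (MG u) (Nat.mod (MG u) M)) (nat_lit 40) z1 u (Nat.mod (MG u) M)) (Nat.ble (nat_lit 270) j)) (Nat.ble (nat_lit 269) j)) (Bool.rec (motive := fun _ => Bool) (Bool.rec (motive := fun _ => Bool) (mRel MG [T_b, T_c, T_d, T_c, T_b, T_f, T_v, T_d, T_c, T_b, T_a, T_v] [T_f, T_d, T_c, T_b, T_a, T_f, T_b, T_c, T_d, T_c, T_b, T_f] M (Nat.sub (MG u) (Nat.mod (MG u) M)) (nat_lit 40) z1 u (Nat.mod (MG u) M)) (mRel MG [T_c, T_d] [T_b, T_a, T_v, T_f, T_b, T_c, T_d, T_c, T_b, T_f, T_a, T_b, T_c, T_d, T_f, T_b, T_c, T_d, T_c, T_b, T_f, T_v] M (Nat.sub (MG u) (Nat.mod (MG u) M)) (nat_lit 40) z1 u (Nat.mod (MG u) M)) (Nat.ble (nat_lit 272) j)) (Bool.rec (motive := fun _ => Bool) (mRel MG [T_c, T_b] [T_d, T_v, T_f, T_b, T_c, T_d, T_c, T_b, T_f, T_d,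 T_c, T_b, T_a, T_f, T_b, T_c, T_d, T_c, T_b, T_f, T_v, T_a] M (Nat.sub (MG u) (Nat.mod (MG u) M)) (nat_lit 40) z1 u (Nat.mod (MG u) M)) (mRel MG [T_c, T_d, T_c, T_d, T_c, T_d, T_c, T_a] [T_d] M (Nat.sub (MG u) (Nat.mod (MG u) M)) (nat_lit 40) z1 u (Nat.mod (MG u) M)) (Nat.ble (nat_lit 274) j)) (Nat.ble (nat_lit 273) j)) (Nat.ble (nat_lit 271) j)
noncomputable def dM_60 (j z1 z2 u : ℕ) : Bool :=
  Bool.rec (motive := fun _ => Bool) (dM_58 j z1 z2 u) (dM_59 j z1 z2 u) (Nat.ble (nat_lit 267) j)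
noncomputable def dM_61 (j z1 z2 u : ℕ) : Bool :=
  Bool.rec (motive := fun _ => Bool) (dM_57 j z1 z2 u) (dM_60 j z1 z2 u) (Nat.ble (nat_lit 259) j)
noncomputable def dM_62 (j z1 z2 u : ℕ) : Bool :=
  Bool.rec (motive := fun _ => Bool) (dM_54 j z1 z2 u) (dM_61 j z1 z2 u) (Nat.ble (nat_lit 243) j)
noncomputable def dM_63 (j z1 z2 u : ℕ) : Bool :=
  Bool.rec (motive := fun _ => Bool) (dM_47 j z1 z2 u) (dM_62 j z1 z2 u) (Nat.ble (nat_lit 211) j)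
noncomputable def dM_64 (j z1 z2 u : ℕ) : Bool :=
  Bool.rec (motive := fun _ => Bool) (Bool.rec (motive := fun _ => Bool) (Bool.rec (motive := fun _ => Bool) (mRel MG [T_d, T_c, T_b, T_f, T_v, T_a, T_b, T_c, T_d] [T_c, T_b, T_f, T_a, T_b, T_c, T_d, T_f, T_b, T_c, T_d, T_c, T_b, T_f, T_v] M (Nat.sub (MG u) (Nat.mod (MG u) M)) (nat_lit 40) z1 u (Nat.mod (MG u) M)) (mRel MG [T_v, T_f, T_b, T_c, T_d, T_c, T_b, T_f, T_d, T_c, T_b, T_a, T_f, T_b, T_c, T_d, T_c, T_b, T_f, T_v, T_a] [T_d, T_c, T_b] M (Nat.sub (MG u) (Nat.mod (MG u) M)) (nat_lit 40) z1 u (Nat.mod (MG u) M)) (Nat.ble (nat_lit 276) j)) (Bool.rec (motive := fun _ => Bool) (mRel MG [T_c, T_b, T_a, T_v, T_f, T_b, T_c, T_d, T_c, T_b, T_f, T_a, T_b, T_c, T_d, T_f, T_b, T_c, T_d, T_c, T_b, T_f, T_v] [T_d] M (Nat.sub (MG u) (Nat.mod (MG u) M)) (nat_lit 40) z1 u (Nat.mod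 (MG u) M)) (mRel MG [T_a, T_b, T_a, T_b, T_a, T_b, T_a, T_b, T_a, T_b] [] M (Nat.sub (MG u) (Nat.mod (MG u) M)) (nat_lit 40) z1 u (Nat.mod (MG u) M)) (Nat.ble (nat_lit 278) j)) (Nat.ble (nat_lit 277) j)) (Bool.rec (motive := fun _ => Bool) (Bool.rec (motive := fun _ => Bool) (Bool.rec (motive := fun _ => Bool) (mRel MG [T_b, T_c, T_d, T_c, T_b, T_f, T_d, T_c, T_b] [T_f, T_v, T_d, T_c, T_b, T_a, T_v, T_f, T_b, T_c, T_d, T_c, T_b, T_f, T_a] M (Nat.sub (MG u) (Nat.mod (MG u) M)) (nat_lit 40) z1 u (Nat.mod (MG u) M)) (mRel MG [T_c, T_d, T_c, T_b, T_f, T_e, T_v, T_f, T_b, T_c, T_d, T_c, T_b, T_f, T_e, T_f, T_b, T_c, T_d, T_c, T_b, T_f] [T_b, T_e, T_f, T_v] M (Nat.sub (MG u) (Nat.mod (MG u) M)) (nat_lit 40) z1 u (Nat.mod (MG u) M)) (Nat.ble (nat_lit 280) j)) (Bool.rec (motive := fun _ => Bool) (mRel MG [T_v, T_f, T_b, T_c, T_d,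 T_c, T_b, T_f] [T_e, T_f, T_b, T_c, T_d, T_c, T_b, T_e, T_f, T_v, T_f, T_b, T_c, T_d, T_c, T_b, T_f, T_e] M (Nat.sub (MG u) (Nat.mod (MG u) M)) (nat_lit 40) z1 u (Nat.mod (MG u) M)) (mRel MG [T_c, T_d, T_c, T_b, T_f, T_v] [T_b, T_f, T_v, T_f, T_b, T_c, T_d, T_c, T_b, T_f, T_v, T_f, T_b, T_c, T_d, T_c, T_b, T_f] M (Nat.sub (MG u) (Nat.mod (MG u) M)) (nat_lit 40) z1 u (Nat.mod (MG u) M)) (Nat.ble (nat_lit 282) j)) (Nat.ble (nat_lit 281) j)) (Bool.rec (motive := fun _ => Bool) (Bool.rec (motive := fun _ => Bool) (mRel MG [T_c, T_b, T_a, T_v, T_f, T_b, T_c, T_d, T_c, T_b, T_f, T_a, T_b, T_c, T_d, T_f, T_b, T_c, T_d, T_c, T_b, T_f, T_v, T_d] [] M (Nat.sub (MG u) (Nat.mod (MG u) M)) (nat_lit 40) z1 u (Nat.mod (MG u) M)) (mRel MG [T_d, T_c, T_b, T_f, T_e, T_v] [T_c, T_b, T_e, T_f, T_v, T_f, T_b, T_c, T_d, T_c, T_b, T_f, T_e, T_f,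 T_b, T_c, T_d, T_c, T_b, T_f] M (Nat.sub (MG u) (Nat.mod (MG u) M)) (nat_lit 40) z1 u (Nat.mod (MG u) M)) (Nat.ble (nat_lit 284) j)) (Bool.rec (motive := fun _ => Bool) (mRel MG [T_f, T_v, T_f] [T_b, T_c, T_d, T_c, T_b, T_f, T_e, T_f, T_b, T_c, T_d, T_c, T_b, T_f, T_v, T_e, T_f, T_b, T_c, T_d, T_c, T_b, T_e] M (Nat.sub (MG u) (Nat.mod (MG u) M)) (nat_lit 40) z1 u (Nat.mod (MG u) M)) (mRel MG [T_b, T_f, T_v, T_d, T_c, T_b, T_a] [T_c, T_d, T_c, T_b, T_f, T_d, T_c, T_b, T_a, T_f, T_b, T_c, T_d, T_c, T_b, T_f, T_v] M (Nat.sub (MG u) (Nat.mod (MG u) M)) (nat_lit 40) z1 u (Nat.mod (MG u) M)) (Nat.ble (nat_lit 286) j)) (Nat.ble (nat_lit 285) j)) (Nat.ble (nat_lit 283) j)) (Nat.ble (nat_lit 279) j)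
noncomputable def dM_65 (j z1 z2 u : ℕ) : Bool :=
  Bool.rec (motive := fun _ => Bool) (Bool.rec (motive := fun _ => Bool) (Bool.rec (motive := fun _ => Bool) (mRel MG [T_v, T_f, T_b, T_c, T_d, T_c, T_b, T_f, T_a, T_b, T_c, T_d, T_f, T_b, T_c, T_d] [T_a, T_b, T_c, T_d, T_v, T_f, T_b, T_c] M (Nat.sub (MG u) (Nat.mod (MG u) M)) (nat_lit 40) z1 u (Nat.mod (MG u) M)) (mRel MG [T_f, T_d, T_c, T_b, T_a, T_f, T_b, T_c, T_d, T_c, T_b, T_f, T_v] [T_b, T_c, T_d, T_c, T_b, T_f, T_v, T_d, T_c, T_b, T_a] M (Nat.sub (MG u) (Nat.mod (MG u) M)) (nat_lit 40) z1 u (Nat.mod (MG u) M)) (Nat.ble (nat_lit 288) j)) (Bool.rec (motive := fun _ => Bool) (mRel MG [T_a, T_b, T_c, T_f, T_a, T_b, T_c, T_f, T_a, T_b, T_c, T_f, T_a, T_b, T_c, T_f, T_a, T_b, T_c, T_f] [] M (Nat.sub (MG u) (Nat.mod (MG u) M)) (nat_lit 40) z1 u (Nat.mod (MG u) M)) (mRel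 MG [T_e, T_v, T_f, T_b, T_c, T_d, T_c] [T_f, T_b, T_c, T_d, T_c, T_b, T_e, T_f, T_v, T_f, T_b, T_c, T_d, T_c, T_b, T_f, T_e, T_f, T_b] M (Nat.sub (MG u) (Nat.mod (MG u) M)) (nat_lit 40) z1 u (Nat.mod (MG u) M)) (Nat.ble (nat_lit 290) j)) (Nat.ble (nat_lit 289) j)) (Bool.rec (motive := fun _ => Bool) (Bool.rec (motive := fun _ => Bool) (mRel MG [T_b, T_f, T_a, T_b, T_c, T_d, T_f, T_b, T_c, T_d, T_c, T_b, T_f, T_v] [T_c, T_d, T_c, T_b, T_f, T_v, T_a, T_b, T_c, T_d] M (Nat.sub (MG u) (Nat.mod (MG u) M)) (nat_lit 40) z1 u (Nat.mod (MG u) M)) (mRel MG [T_f, T_v, T_f, T_b, T_c, T_d, T_c, T_b, T_f] [T_b, T_c, T_d, T_c, T_b, T_f, T_v, T_f, T_b, T_c, T_d, T_c, T_b, T_f, T_v] M (Nat.sub (MG u) (Nat.mod (MG u) M)) (nat_lit 40) z1 u (Nat.mod (MG u) M)) (Nat.ble (nat_lit 292) j)) (Bool.rec (motive := fun _ => Bool) (mRel MG [T_b, T_f,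 T_c, T_f, T_b, T_c, T_d, T_c, T_b, T_f, T_v, T_c, T_v, T_f, T_b] [T_c, T_d, T_c] M (Nat.sub (MG u) (Nat.mod (MG u) M)) (nat_lit 40) z1 u (Nat.mod (MG u) M)) (mRel MG [T_b, T_f, T_v, T_f] [T_c, T_d, T_c, T_b, T_f, T_v, T_f, T_b, T_c, T_d, T_c, T_b, T_f, T_v, T_f, T_b, T_c, T_d, T_c, T_b] M (Nat.sub (MG u) (Nat.mod (MG u) M)) (nat_lit 40) z1 u (Nat.mod (MG u) M)) (Nat.ble (nat_lit 294) j)) (Nat.ble (nat_lit 293) j)) (Nat.ble (nat_lit 291) j)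
noncomputable def dM_66 (j z1 z2 u : ℕ) : Bool :=
  Bool.rec (motive := fun _ => Bool) (Bool.rec (motive := fun _ => Bool) (Bool.rec (motive := fun _ => Bool) (mRel MG [T_c, T_b, T_f, T_d, T_c, T_b, T_a, T_f, T_b, T_c, T_d, T_c, T_b, T_f, T_v, T_a, T_b, T_c, T_d] [T_d, T_c, T_b, T_f, T_v] M (Nat.sub (MG u) (Nat.mod (MG u) M)) (nat_lit 40) z1 u (Nat.mod (MG u) M)) (mRel MG [T_b, T_c, T_d, T_c, T_b, T_f, T_b, T_f, T_b, T_c, T_d, T_c, T_b, T_f, T_v, T_b, T_v, T_f] [] M (Nat.sub (MG u) (Nat.mod (MG u) M)) (nat_lit 40) z1 u (Nat.mod (MG u) M)) (Nat.ble (nat_lit 296) j)) (Bool.rec (motive := fun _ => Bool) (mRel MG [T_e, T_b, T_c, T_d, T_c, T_b, T_f, T_e, T_v, T_f, T_b, T_c, T_d, T_c, T_b, T_f, T_e, T_f, T_b, T_c, T_d, T_c, T_b, T_f] [T_f, T_v] M (Nat.sub (MG u) (Nat.mod (MG u) M)) (nat_lit 40) z1 u (Nat.mod (MG u) M)) (mRel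 MG [T_f] [T_b, T_c, T_d, T_c, T_b, T_f, T_c, T_f, T_b, T_c, T_d, T_c, T_b, T_f, T_v, T_c, T_v] M (Nat.sub (MG u) (Nat.mod (MG u) M)) (nat_lit 40) z1 u (Nat.mod (MG u) M)) (Nat.ble (nat_lit 298) j)) (Nat.ble (nat_lit 297) j)) (Bool.rec (motive := fun _ => Bool) (Bool.rec (motive := fun _ => Bool) (mRel MG [T_v, T_f, T_e, T_b, T_c, T_d, T_c, T_b, T_f, T_e, T_v] [T_f, T_b, T_c, T_d, T_c, T_b, T_f, T_e, T_f, T_b, T_c, T_d, T_c, T_b, T_f] M (Nat.sub (MG u) (Nat.mod (MG u) M)) (nat_lit 40) z1 u (Nat.mod (MG u) M)) (mRel MG [T_b, T_f, T_v, T_f, T_b, T_c, T_d, T_c, T_b, T_f, T_v, T_f, T_b, T_c, T_d, T_c, T_b, T_f, T_v] [T_c, T_d, T_c, T_b, T_f] M (Nat.sub (MG u) (Nat.mod (MG u) M)) (nat_lit 40) z1 u (Nat.mod (MG u) M)) (Nat.ble (nat_lit 300) j)) (Bool.rec (motive := fun _ => Bool) (mRel MG [T_d, T_c, T_b, T_f, T_v, T_d, T_c] [T_c,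 T_b, T_f, T_d, T_c, T_b, T_a, T_f, T_b, T_c, T_d, T_c, T_b, T_f, T_v, T_a, T_b] M (Nat.sub (MG u) (Nat.mod (MG u) M)) (nat_lit 40) z1 u (Nat.mod (MG u) M)) (mRel MG [T_c, T_f, T_b, T_c, T_d, T_c, T_b, T_f, T_v, T_c, T_v, T_f] [T_f, T_b, T_c, T_d, T_c, T_b] M (Nat.sub (MG u) (Nat.mod (MG u) M)) (nat_lit 40) z1 u (Nat.mod (MG u) M)) (Nat.ble (nat_lit 302) j)) (Nat.ble (nat_lit 301) j)) (Nat.ble (nat_lit 299) j)
noncomputable def dM_67 (j z1 z2 u : ℕ) : Bool :=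
  Bool.rec (motive := fun _ => Bool) (dM_65 j z1 z2 u) (dM_66 j z1 z2 u) (Nat.ble (nat_lit 295) j)
noncomputable def dM_68 (j z1 z2 u : ℕ) : Bool :=
  Bool.rec (motive := fun _ => Bool) (dM_64 j z1 z2 u) (dM_67 j z1 z2 u) (Nat.ble (nat_lit 287) j)
noncomputable def dM_69 (j z1 z2 u : ℕ) : Bool :=
  Bool.rec (motive := fun _ => Bool) (Bool.rec (motive := fun _ => Bool) (Bool.rec (motive := fun _ => Bool) (mRel MG [T_c, T_f, T_b, T_c, T_d, T_c, T_b, T_f, T_v, T_c, T_v, T_f, T_b, T_c, T_d] [T_f, T_b, T_c] M (Nat.sub (MG u) (Nat.mod (MG u) M)) (nat_lit 40) z1 u (Nat.mod (MG u) M)) (mRel MG [T_b, T_f, T_d, T_c, T_b, T_a, T_f, T_b, T_c, T_d, T_c, T_b, T_f, T_v, T_a, T_b, T_c, T_d] [T_c, T_d, T_c, T_b, T_f, T_v] M (Nat.sub (MG u) (Nat.mod (MG u) M)) (nat_lit 40) z1 u (Nat.mod (MG u) M)) (Nat.ble (nat_lit 304) j)) (Bool.rec (motive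 := fun _ => Bool) (mRel MG [T_b, T_f, T_v] [T_c, T_d, T_c, T_b, T_f, T_v, T_f, T_b, T_c, T_d, T_c, T_b, T_f, T_v, T_f, T_b, T_c, T_d, T_c, T_b, T_f] M (Nat.sub (MG u) (Nat.mod (MG u) M)) (nat_lit 40) z1 u (Nat.mod (MG u) M)) (mRel MG [T_c, T_b, T_f, T_e, T_v] [T_d, T_c, T_b, T_e, T_f, T_v, T_f, T_b, T_c, T_d, T_c, T_b, T_f, T_e, T_f, T_b, T_c, T_d, T_c, T_b, T_f] M (Nat.sub (MG u) (Nat.mod (MG u) M)) (nat_lit 40) z1 u (Nat.mod (MG u) M)) (Nat.ble (nat_lit 306) j)) (Nat.ble (nat_lit 305) j)) (Bool.rec (motive := fun _ => Bool) (Bool.rec (motive := fun _ => Bool) (mRel MG [T_d, T_c, T_b, T_f, T_a, T_b, T_c, T_d, T_f, T_b, T_c, T_d, T_c, T_b, T_f, T_v, T_d] [T_c, T_b, T_f, T_v, T_a, T_b, T_c] M (Nat.sub (MG u) (Nat.mod (MG u) M)) (nat_lit 40) z1 u (Nat.mod (MG u) M)) (mRel MG [T_d, T_f, T_b, T_c, T_d, T_c, T_b, T_f, T_v] [T_c,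 T_b, T_a, T_f, T_b, T_c, T_d, T_c, T_b, T_f, T_v, T_a, T_b, T_c, T_d] M (Nat.sub (MG u) (Nat.mod (MG u) M)) (nat_lit 40) z1 u (Nat.mod (MG u) M)) (Nat.ble (nat_lit 308) j)) (Bool.rec (motive := fun _ => Bool) (mRel MG [T_c, T_d, T_c, T_b, T_f, T_v] [T_b, T_f, T_a, T_b, T_c, T_d, T_f, T_b, T_c, T_d, T_c, T_b, T_f, T_v, T_d, T_c, T_b, T_a] M (Nat.sub (MG u) (Nat.mod (MG u) M)) (nat_lit 40) z1 u (Nat.mod (MG u) M)) (mRel MG [T_f, T_d, T_c, T_b, T_a, T_f, T_b, T_c, T_d, T_c, T_b, T_f, T_v, T_a, T_b] [T_b, T_c, T_d, T_c, T_b, T_f, T_v, T_d, T_c] M (Nat.sub (MG u) (Nat.mod (MG u) M)) (nat_lit 40) z1 u (Nat.mod (MG u) M)) (Nat.ble (nat_lit 310) j)) (Nat.ble (nat_lit 309) j)) (Nat.ble (nat_lit 307) j)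
noncomputable def dM_70 (j z1 z2 u : ℕ) : Bool :=
  Bool.rec (motive := fun _ => Bool) (Bool.rec (motive := fun _ => Bool) (Bool.rec (motive := fun _ => Bool) (mRel MG [T_c, T_d, T_c, T_b, T_f, T_d, T_c, T_b, T_a, T_f, T_b, T_c, T_d, T_c, T_b, T_f, T_v] [T_b, T_f, T_v, T_d, T_c, T_b, T_a] M (Nat.sub (MG u) (Nat.mod (MG u) M)) (nat_lit 40) z1 u (Nat.mod (MG u) M)) (mRel MG [T_c, T_d, T_f, T_b, T_c, T_d, T_c, T_b, T_f, T_v, T_d, T_c, T_b, T_a] [T_b, T_a, T_f, T_b, T_c, T_d, T_c, T_b, T_f, T_v] M (Nat.sub (MG u) (Nat.mod (MG u) M)) (nat_lit 40) z1 u (Nat.mod (MG u) M)) (Nat.ble (nat_lit 312) j)) (Bool.rec (motive := fun _ => Bool) (mRel MG [T_b, T_f, T_v, T_d, T_c, T_b] [T_c, T_d, T_c, T_b, T_f, T_d, T_c, T_b, T_a, T_f, T_b, T_c, T_d, T_c, T_b, T_f, T_v, T_a] M (Nat.sub (MG u) (Nat.mod (MG u) M)) (nat_lit 40) z1 u (Nat.mod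 (MG u) M)) (mRel MG [T_a, T_f, T_b, T_c, T_d, T_c, T_b, T_f, T_v, T_a, T_b, T_c, T_d, T_v] [T_b, T_c, T_d, T_f, T_b, T_c, T_d, T_c, T_b, T_f] M (Nat.sub (MG u) (Nat.mod (MG u) M)) (nat_lit 40) z1 u (Nat.mod (MG u) M)) (Nat.ble (nat_lit 314) j)) (Nat.ble (nat_lit 313) j)) (Bool.rec (motive := fun _ => Bool) (Bool.rec (motive := fun _ => Bool) (mRel MG [T_d, T_c, T_b, T_f, T_d, T_c, T_b, T_a, T_f, T_b, T_c, T_d, T_c, T_b, T_f, T_v, T_a, T_b, T_c] [T_c, T_b, T_f, T_v, T_d] M (Nat.sub (MG u) (Nat.mod (MG u) M)) (nat_lit 40) z1 u (Nat.mod (MG u) M)) (mRel MG [T_c, T_d, T_c, T_b, T_f, T_v, T_f, T_b, T_c, T_d, T_c, T_b, T_f, T_v, T_f, T_b, T_c, T_d, T_c] [T_b, T_f, T_v, T_f, T_b] M (Nat.sub (MG u) (Nat.mod (MG u) M)) (nat_lit 40) z1 u (Nat.mod (MG u) M)) (Nat.ble (nat_lit 316) j)) (Bool.rec (motive := fun _ => Bool) (mRel MG [T_c,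 T_b, T_f, T_v, T_d, T_c, T_b, T_a, T_v] [T_d, T_c, T_b, T_f, T_d, T_c, T_b, T_a, T_f, T_b, T_c, T_d, T_c, T_b, T_f] M (Nat.sub (MG u) (Nat.mod (MG u) M)) (nat_lit 40) z1 u (Nat.mod (MG u) M)) (mRel MG [T_d, T_f, T_b, T_c, T_d, T_c, T_b, T_f, T_v, T_d, T_c] [T_c, T_b, T_a, T_f, T_b, T_c, T_d, T_c, T_b, T_f, T_v, T_a, T_b] M (Nat.sub (MG u) (Nat.mod (MG u) M)) (nat_lit 40) z1 u (Nat.mod (MG u) M)) (Nat.ble (nat_lit 318) j)) (Nat.ble (nat_lit 317) j)) (Nat.ble (nat_lit 315) j)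
noncomputable def dM_71 (j z1 z2 u : ℕ) : Bool :=
  Bool.rec (motive := fun _ => Bool) (dM_69 j z1 z2 u) (dM_70 j z1 z2 u) (Nat.ble (nat_lit 311) j)
noncomputable def dM_72 (j z1 z2 u : ℕ) : Bool :=
  Bool.rec (motive := fun _ => Bool) (Bool.rec (motive := fun _ => Bool) (Bool.rec (motive := fun _ => Bool) (mRel MG [T_a, T_b, T_a, T_b, T_a, T_b, T_a] [T_b, T_a, T_b] M (Nat.sub (MG u) (Nat.mod (MG u) M)) (nat_lit 40) z1 u (Nat.mod (MG u) M)) (mRel MG [T_b, T_a, T_b, T_a, T_b, T_a] [T_a, T_b, T_a, T_b] M (Nat.sub (MG u) (Nat.mod (MG u) M)) (nat_lit 40) z1 u (Nat.mod (MG u) M)) (Nat.ble (nat_lit 320) j)) (Bool.rec (motive := fun _ => Bool) (mRel MG [T_c, T_b, T_f, T_e, T_v, T_f, T_b, T_c, T_d, T_c, T_b, T_f, T_e, T_f, T_b, T_c, T_d, T_c, T_b, T_f, T_v, T_f, T_e] [T_d, T_c, T_b] M (Nat.sub (MG u) (Nat.mod (MG u) M)) (nat_lit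 40) z1 u (Nat.mod (MG u) M)) (mRel MG [T_a, T_b, T_c, T_d, T_v, T_f, T_b, T_c, T_d, T_c, T_b, T_f, T_d, T_c, T_b, T_a, T_f, T_b, T_c, T_d, T_c, T_b, T_f] [T_v] M (Nat.sub (MG u) (Nat.mod (MG u) M)) (nat_lit 40) z1 u (Nat.mod (MG u) M)) (Nat.ble (nat_lit 322) j)) (Nat.ble (nat_lit 321) j)) (Bool.rec (motive := fun _ => Bool) (Bool.rec (motive := fun _ => Bool) (mRel MG [T_a, T_f, T_b, T_c, T_d, T_c, T_b, T_f, T_v] [T_b, T_c, T_d, T_f, T_b, T_c, T_d, T_c, T_b, T_f, T_v, T_d, T_c, T_b, T_a] M (Nat.sub (MG u) (Nat.mod (MG u) M)) (nat_lit 40) z1 u (Nat.mod (MG u) M)) (mRel MG [T_v, T_f, T_b, T_c, T_d, T_c, T_b, T_f, T_a, T_b, T_c, T_d, T_f, T_b, T_c, T_d, T_c, T_b, T_f, T_v, T_d, T_c] [T_a, T_b] M (Nat.sub (MG u) (Nat.mod (MG u) M)) (nat_lit 40) z1 u (Nat.mod (MG u) M)) (Nat.ble (nat_lit 324) j)) (Bool.rec (motive := fun _ =>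 Bool) (mRel MG [T_f, T_a] [T_c, T_b, T_a, T_f, T_c, T_b, T_a, T_f, T_c, T_b, T_a, T_f, T_c, T_b, T_a, T_f, T_c, T_b] M (Nat.sub (MG u) (Nat.mod (MG u) M)) (nat_lit 40) z1 u (Nat.mod (MG u) M)) (mRel MG [T_a, T_b, T_a, T_b, T_a, T_b] [T_b, T_a, T_b, T_a] M (Nat.sub (MG u) (Nat.mod (MG u) M)) (nat_lit 40) z1 u (Nat.mod (MG u) M)) (Nat.ble (nat_lit 326) j)) (Nat.ble (nat_lit 325) j)) (Nat.ble (nat_lit 323) j)
noncomputable def dM_73 (j z1 z2 u : ℕ) : Bool :=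
  Bool.rec (motive := fun _ => Bool) (Bool.rec (motive := fun _ => Bool) (Bool.rec (motive := fun _ => Bool) (mRel MG [T_a, T_b, T_c, T_f, T_a, T_b, T_c, T_f, T_a, T_b] [T_f, T_c, T_b, T_a, T_f, T_c, T_b, T_a, T_f, T_c] M (Nat.sub (MG u) (Nat.mod (MG u) M)) (nat_lit 40) z1 u (Nat.mod (MG u) M)) (mRel MG [T_b, T_c, T_d, T_c, T_b, T_f, T_v, T_d, T_c] [T_f, T_d, T_c, T_b, T_a, T_f, T_b, T_c, T_d, T_c, T_b, T_f, T_v, T_a, T_b] M (Nat.sub (MG u) (Nat.mod (MG u) M)) (nat_lit 40) z1 u (Nat.mod (MG u) M)) (Nat.ble (nat_lit 328) j)) (Bool.rec (motive := fun _ => Bool) (mRel MG [T_d, T_c, T_b, T_a, T_f, T_b, T_c, T_d, T_c, T_b, T_f, T_v, T_a, T_b, T_c] [T_f, T_b, T_c, T_d, T_c, T_b, T_f, T_v, T_d] M (Nat.sub (MG u) (Nat.mod (MG u) M)) (nat_lit 40) z1 u (Nat.mod (MG u) M)) (mRel MG [T_c, T_d, T_c, T_b, T_f, T_a, T_b, T_c, T_d, T_f,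 T_b, T_c, T_d, T_c, T_b, T_f, T_v, T_d, T_c, T_b] [T_b, T_f, T_v, T_a] M (Nat.sub (MG u) (Nat.mod (MG u) M)) (nat_lit 40) z1 u (Nat.mod (MG u) M)) (Nat.ble (nat_lit 330) j)) (Nat.ble (nat_lit 329) j)) (Bool.rec (motive := fun _ => Bool) (Bool.rec (motive := fun _ => Bool) (mRel MG [T_b, T_c, T_d, T_f, T_b, T_c, T_d, T_c, T_b, T_f, T_v, T_d, T_c, T_b, T_a, T_v] [T_a, T_f, T_b, T_c, T_d, T_c, T_b, T_f] M (Nat.sub (MG u) (Nat.mod (MG u) M)) (nat_lit 40) z1 u (Nat.mod (MG u) M)) (mRel MG [T_b, T_f, T_v] [T_c, T_d, T_c, T_b, T_f, T_a, T_b, T_c, T_d, T_f, T_b, T_c, T_d, T_c, T_b, T_f, T_v, T_d, T_c, T_b, T_a] M (Nat.sub (MG u) (Nat.mod (MG u) M)) (nat_lit 40) z1 u (Nat.mod (MG u) M)) (Nat.ble (nat_lit 332) j)) (Bool.rec (motive := fun _ => Bool) (mRel MG [T_d, T_c, T_b, T_f, T_a, T_b, T_c, T_d, T_f, T_b, T_c, T_d, T_c, T_b, T_f,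 T_v, T_d, T_c, T_b] [T_c, T_b, T_f, T_v, T_a] M (Nat.sub (MG u) (Nat.mod (MG u) M)) (nat_lit 40) z1 u (Nat.mod (MG u) M)) (mRel MG [T_a, T_b, T_c, T_d, T_f, T_b, T_c, T_d, T_c, T_b, T_f, T_v, T_d, T_c, T_b, T_a, T_v] [T_f, T_b, T_c, T_d, T_c, T_b, T_f] M (Nat.sub (MG u) (Nat.mod (MG u) M)) (nat_lit 40) z1 u (Nat.mod (MG u) M)) (Nat.ble (nat_lit 334) j)) (Nat.ble (nat_lit 333) j)) (Nat.ble (nat_lit 331) j)
noncomputable def dM_74 (j z1 z2 u : ℕ) : Bool :=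
  Bool.rec (motive := fun _ => Bool) (dM_72 j z1 z2 u) (dM_73 j z1 z2 u) (Nat.ble (nat_lit 327) j)
noncomputable def dM_75 (j z1 z2 u : ℕ) : Bool :=
  Bool.rec (motive := fun _ => Bool) (dM_71 j z1 z2 u) (dM_74 j z1 z2 u) (Nat.ble (nat_lit 319) j)
noncomputable def dM_76 (j z1 z2 u : ℕ) : Bool :=
  Bool.rec (motive := fun _ => Bool) (dM_68 j z1 z2 u) (dM_75 j z1 z2 u) (Nat.ble (nat_lit 303) j)
noncomputable def dM_77 (j z1 z2 u : ℕ) : Bool :=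
  Bool.rec (motive := fun _ => Bool) (Bool.rec (motive := fun _ => Bool) (Bool.rec (motive := fun _ => Bool) (mRel MG [T_c, T_d, T_c, T_b, T_f, T_e, T_v, T_f, T_b, T_c] [T_b, T_e, T_f, T_v, T_f, T_b, T_c, T_d, T_c, T_b, T_f, T_e, T_f, T_b, T_c, T_d] M (Nat.sub (MG u) (Nat.mod (MG u) M)) (nat_lit 40) z1 u (Nat.mod (MG u) M)) (mRel MG [T_b, T_f, T_b, T_c, T_d, T_c, T_b, T_f, T_v, T_b, T_v, T_f] [T_f, T_b, T_c, T_d, T_c, T_b] M (Nat.sub (MG u) (Nat.mod (MG u) M)) (nat_lit 40) z1 u (Nat.mod (MG u) M)) (Nat.ble (nat_lit 336) j)) (Bool.rec (motive := fun _ => Bool) (mRel MG [T_b, T_c, T_d, T_c, T_b, T_f, T_a, T_b, T_c, T_d, T_f, T_b, T_c, T_d, T_c, T_b, T_f, T_v, T_d] [T_f, T_v, T_a, T_b, T_c] M (Nat.sub (MG u) (Nat.mod (MG u) M)) (nat_lit 40) z1 u (Nat.mod (MG u) M)) (mRel MG [T_f, T_d, T_c, T_b, T_a, T_f, T_b, T_c, T_d, T_c,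 T_b, T_f, T_v, T_a] [T_b, T_c, T_d, T_c, T_b, T_f, T_v, T_d, T_c, T_b] M (Nat.sub (MG u) (Nat.mod (MG u) M)) (nat_lit 40) z1 u (Nat.mod (MG u) M)) (Nat.ble (nat_lit 338) j)) (Nat.ble (nat_lit 337) j)) (Bool.rec (motive := fun _ => Bool) (Bool.rec (motive := fun _ => Bool) (mRel MG [T_a, T_b, T_a, T_b] [T_b, T_a, T_b, T_a, T_b, T_a] M (Nat.sub (MG u) (Nat.mod (MG u) M)) (nat_lit 40) z1 u (Nat.mod (MG u) M)) (mRel MG [T_c, T_e, T_c] [T_e] M (Nat.sub (MG u) (Nat.mod (MG u) M)) (nat_lit 40) z1 u (Nat.mod (MG u) M)) (Nat.ble (nat_lit 340) j)) (Bool.rec (motive := fun _ => Bool) (mRel MG [T_b, T_c, T_d, T_c, T_b, T_f] [T_f, T_b, T_f, T_b, T_c, T_d, T_c, T_b, T_f, T_v, T_b, T_v] M (Nat.sub (MG u) (Nat.mod (MG u) M)) (nat_lit 40) z1 u (Nat.mod (MG u) M)) (mRel MG [T_b, T_c, T_d, T_c, T_b, T_f, T_v, T_a, T_b, T_c, T_d, T_v] [T_f,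 T_a, T_b, T_c, T_d, T_f, T_b, T_c, T_d, T_c, T_b, T_f] M (Nat.sub (MG u) (Nat.mod (MG u) M)) (nat_lit 40) z1 u (Nat.mod (MG u) M)) (Nat.ble (nat_lit 342) j)) (Nat.ble (nat_lit 341) j)) (Nat.ble (nat_lit 339) j)
noncomputable def dM_78 (j z1 z2 u : ℕ) : Bool :=
  Bool.rec (motive := fun _ => Bool) (Bool.rec (motive := fun _ => Bool) (Bool.rec (motive := fun _ => Bool) (mRel MG [T_b, T_c, T_d, T_c, T_b, T_f, T_v] [T_f, T_v, T_f, T_b, T_c, T_d, T_c, T_b, T_f, T_v, T_f, T_b, T_c, T_d, T_c, T_b, T_f] M (Nat.sub (MG u) (Nat.mod (MG u) M)) (nat_lit 40) z1 u (Nat.mod (MG u) M)) (mRel MG [T_c, T_b, T_f, T_v, T_b, T_v, T_f, T_b, T_c, T_d, T_c, T_b, T_f, T_b, T_f] [T_d, T_c, T_b] M (Nat.sub (MG u) (Nat.mod (MG u) M)) (nat_lit 40) z1 u (Nat.mod (MG u) M)) (Nat.ble (nat_lit 344) j)) (Bool.rec (motive := fun _ => Bool) (mRel MG [T_e]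 [T_b, T_e, T_b] M (Nat.sub (MG u) (Nat.mod (MG u) M)) (nat_lit 40) z1 u (Nat.mod (MG u) M)) (mRel MG [T_b, T_f, T_a, T_b, T_c, T_d, T_f, T_b, T_c, T_d, T_c, T_b, T_f] [T_c, T_d, T_c, T_b, T_f, T_v, T_a, T_b, T_c, T_d, T_v] M (Nat.sub (MG u) (Nat.mod (MG u) M)) (nat_lit 40) z1 u (Nat.mod (MG u) M)) (Nat.ble (nat_lit 346) j)) (Nat.ble (nat_lit 345) j)) (Bool.rec (motive := fun _ => Bool) (Bool.rec (motive := fun _ => Bool) (mRel MG [T_b, T_c, T_d, T_c, T_b, T_f, T_a, T_b, T_c, T_d, T_f, T_b, T_c, T_d, T_c, T_b, T_f, T_v, T_d, T_c, T_b, T_a] [T_f, T_v] M (Nat.sub (MG u) (Nat.mod (MG u) M)) (nat_lit 40) z1 u (Nat.mod (MG u) M)) (mRel MG [T_e, T_v, T_f, T_b, T_c, T_d, T_c, T_b, T_f, T_e, T_f, T_b, T_c, T_d, T_c, T_b, T_f, T_v, T_f] [T_f, T_b, T_c, T_d, T_c, T_b, T_e] M (Nat.sub (MG u) (Nat.mod (MG u) M)) (nat_lit 40) z1 u (Nat.mod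 (MG u) M)) (Nat.ble (nat_lit 348) j)) (Bool.rec (motive := fun _ => Bool) (mRel MG [T_c, T_a, T_d] [T_d, T_c, T_d, T_c, T_d, T_c] M (Nat.sub (MG u) (Nat.mod (MG u) M)) (nat_lit 40) z1 u (Nat.mod (MG u) M)) (mRel MG [T_c, T_d, T_c] [T_d, T_a, T_c, T_d, T_c, T_d] M (Nat.sub (MG u) (Nat.mod (MG u) M)) (nat_lit 40) z1 u (Nat.mod (MG u) M)) (Nat.ble (nat_lit 350) j)) (Nat.ble (nat_lit 349) j)) (Nat.ble (nat_lit 347) j)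
noncomputable def dM_79 (j z1 z2 u : ℕ) : Bool :=
  Bool.rec (motive := fun _ => Bool) (dM_77 j z1 z2 u) (dM_78 j z1 z2 u) (Nat.ble (nat_lit 343) j)
noncomputable def dM_80 (j z1 z2 u : ℕ) : Bool :=
  Bool.rec (motive := fun _ => Bool) (Bool.rec (motive := fun _ => Bool) (Bool.rec (motive := fun _ => Bool) (mRel MG [T_b, T_c, T_d, T_v, T_f, T_b, T_c, T_d, T_c, T_b, T_f, T_d, T_c, T_b, T_a, T_f, T_b, T_c, T_d, T_c, T_b, T_f, T_v] [T_a] M (Nat.sub (MG u) (Nat.mod (MG u) M)) (nat_lit 40) z1 u (Nat.mod (MG u) M)) (mRel MG [T_b, T_f, T_b, T_c, T_d, T_c, T_b, T_f, T_v, T_b, T_v] [T_f, T_b, T_c, T_d, T_c, T_b, T_f] M (Nat.sub (MG u) (Nat.mod (MG u) M)) (nat_lit 40) z1 u (Nat.mod (MG u) M)) (Nat.ble (nat_lit 352) j)) (Bool.rec (motive := fun _ => Bool) (mRel MG [T_d, T_c, T_b, T_f, T_v] [T_c, T_b, T_f, T_v, T_f, T_b, T_c, T_d,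 T_c, T_b, T_f, T_v, T_f, T_b, T_c, T_d, T_c, T_b, T_f] M (Nat.sub (MG u) (Nat.mod (MG u) M)) (nat_lit 40) z1 u (Nat.mod (MG u) M)) (mRel MG [T_v, T_f, T_b, T_c, T_d, T_c, T_b, T_f, T_v, T_f, T_b, T_c, T_d, T_c, T_b, T_f, T_v, T_f, T_b, T_c, T_d, T_c] [T_f, T_b] M (Nat.sub (MG u) (Nat.mod (MG u) M)) (nat_lit 40) z1 u (Nat.mod (MG u) M)) (Nat.ble (nat_lit 354) j)) (Nat.ble (nat_lit 353) j)) (Bool.rec (motive := fun _ => Bool) (Bool.rec (motive := fun _ => Bool) (mRel MG [T_d, T_c, T_d, T_c, T_d] [T_c, T_d, T_c, T_a] M (Nat.sub (MG u) (Nat.mod (MG u) M)) (nat_lit 40) z1 u (Nat.mod (MG u) M)) (mRel MG [T_d, T_c, T_b, T_f, T_d, T_c, T_b, T_a, T_f, T_b, T_c, T_d, T_c, T_b, T_f, T_v, T_a, T_b] [T_c, T_b, T_f, T_v, T_d, T_c] M (Nat.sub (MG u) (Nat.mod (MG u) M)) (nat_lit 40) z1 u (Nat.mod (MG u) M)) (Nat.ble (nat_lit 356) j)) (Bool.rec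 (motive := fun _ => Bool) (mRel MG [T_f, T_a, T_b, T_c, T_f, T_a, T_b, T_c, T_f, T_a, T_b] [T_c, T_b, T_a, T_f, T_c, T_b, T_a, T_f, T_c] M (Nat.sub (MG u) (Nat.mod (MG u) M)) (nat_lit 40) z1 u (Nat.mod (MG u) M)) (mRel MG [T_d, T_c, T_d, T_c] [T_a, T_c, T_d, T_c, T_d] M (Nat.sub (MG u) (Nat.mod (MG u) M)) (nat_lit 40) z1 u (Nat.mod (MG u) M)) (Nat.ble (nat_lit 358) j)) (Nat.ble (nat_lit 357) j)) (Nat.ble (nat_lit 355) j)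
noncomputable def dM_81 (j z1 z2 u : ℕ) : Bool :=
  Bool.rec (motive := fun _ => Bool) (Bool.rec (motive := fun _ => Bool) (Bool.rec (motive := fun _ => Bool) (mRel MG [T_b, T_f, T_d, T_c, T_b, T_a, T_f, T_b, T_c, T_d, T_c, T_b, T_f, T_v, T_a, T_b, T_c] [T_c, T_d, T_c, T_b, T_f, T_v, T_d] M (Nat.sub (MG u) (Nat.mod (MG u) M)) (nat_lit 40) z1 u (Nat.mod (MG u) M)) (mRel MG [T_b, T_c, T_d, T_v, T_f, T_b] [T_a, T_v, T_f, T_b, T_c, T_d, T_c, T_b, T_f, T_a, T_b, T_c, T_d, T_f, T_b, T_c, T_d, T_c] M (Nat.sub (MG u) (Nat.mod (MG u) M)) (nat_lit 40) z1 u (Nat.mod (MG u) M)) (Nat.ble (nat_lit 360) j)) (Bool.rec (motive := fun _ => Bool) (mRel MG [T_d, T_c, T_b, T_f, T_d, T_c, T_b, T_a, T_f, T_b, T_c, T_d, T_c, T_b, T_f, T_v, T_a] [T_c, T_b, T_f, T_v, T_d, T_c, T_b] M (Nat.sub (MG u) (Nat.mod (MG u) M)) (nat_lit 40) z1 u (Nat.mod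 (MG u) M)) (mRel MG [T_f, T_v, T_a, T_b] [T_b, T_c, T_d, T_c, T_b, T_f, T_a, T_b, T_c, T_d, T_f, T_b, T_c, T_d, T_c, T_b, T_f, T_v, T_d, T_c] M (Nat.sub (MG u) (Nat.mod (MG u) M)) (nat_lit 40) z1 u (Nat.mod (MG u) M)) (Nat.ble (nat_lit 362) j)) (Nat.ble (nat_lit 361) j)) (Bool.rec (motive := fun _ => Bool) (Bool.rec (motive := fun _ => Bool) (mRel MG [T_b, T_f, T_d, T_c, T_b, T_a, T_f, T_b, T_c, T_d, T_c, T_b, T_f, T_v, T_a, T_b, T_c, T_d, T_v] [T_c, T_d, T_c, T_b, T_f] M (Nat.sub (MG u) (Nat.mod (MG u) M)) (nat_lit 40) z1 u (Nat.mod (MG u) M)) (mRel MG [T_b, T_f, T_b, T_f, T_b, T_f] [] M (Nat.sub (MG u) (Nat.mod (MG u) M)) (nat_lit 40) z1 u (Nat.mod (MG u) M)) (Nat.ble (nat_lit 364) j)) (Bool.rec (motive := fun _ => Bool) (mRel MG [T_b] [T_f, T_b, T_f, T_b, T_f] M (Nat.sub (MG u) (Nat.mod (MG u) M)) (nat_lit 40) z1 u (Nat.mod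 (MG u) M)) (mRel MG [T_f, T_v, T_a, T_b, T_c] [T_b, T_c, T_d, T_c, T_b, T_f, T_a, T_b, T_c, T_d, T_f, T_b, T_c, T_d, T_c, T_b, T_f, T_v, T_d] M (Nat.sub (MG u) (Nat.mod (MG u) M)) (nat_lit 40) z1 u (Nat.mod (MG u) M)) (Nat.ble (nat_lit 366) j)) (Nat.ble (nat_lit 365) j)) (Nat.ble (nat_lit 363) j)
noncomputable def dM_82 (j z1 z2 u : ℕ) : Bool :=
  Bool.rec (motive := fun _ => Bool) (dM_80 j z1 z2 u) (dM_81 j z1 z2 u) (Nat.ble (nat_lit 359) j)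
noncomputable def dM_83 (j z1 z2 u : ℕ) : Bool :=
  Bool.rec (motive := fun _ => Bool) (dM_79 j z1 z2 u) (dM_82 j z1 z2 u) (Nat.ble (nat_lit 351) j)
noncomputable def dM_84 (j z1 z2 u : ℕ) : Bool :=
  Bool.rec (motive := fun _ => Bool) (Bool.rec (motive := fun _ => Bool) (Bool.rec (motive := fun _ => Bool) (mRel MG [T_b, T_c, T_d, T_f, T_b, T_c, T_d, T_c, T_b, T_f, T_v, T_d, T_c, T_b, T_a] [T_a, T_f, T_b, T_c, T_d, T_c, T_b, T_f, T_v] M (Nat.sub (MG u) (Nat.mod (MG u) M)) (nat_lit 40) z1 u (Nat.mod (MG u) M)) (mRel MG [T_d, T_c, T_b, T_f, T_v, T_d, T_c, T_b, T_a, T_v, T_f, T_b, T_c, T_d, T_c, T_b, T_f, T_a] [T_c, T_b, T_f, T_d, T_c, T_b] M (Nat.sub (MG u) (Nat.mod (MG u) M)) (nat_lit 40) z1 u (Nat.mod (MG u) M)) (Nat.ble (nat_lit 368) j)) (Bool.rec (motive := fun _ => Bool) (mRel MG [T_b, T_f, T_c, T_f, T_b, T_c, T_d, T_c,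 T_b, T_f] [T_c, T_d, T_c, T_b, T_f, T_v, T_c, T_v] M (Nat.sub (MG u) (Nat.mod (MG u) M)) (nat_lit 40) z1 u (Nat.mod (MG u) M)) (mRel MG [T_f, T_d, T_f, T_d] [] M (Nat.sub (MG u) (Nat.mod (MG u) M)) (nat_lit 40) z1 u (Nat.mod (MG u) M)) (Nat.ble (nat_lit 370) j)) (Nat.ble (nat_lit 369) j)) (Bool.rec (motive := fun _ => Bool) (Bool.rec (motive := fun _ => Bool) (mRel MG [T_b, T_c, T_d, T_f, T_b, T_c, T_d, T_c, T_b, T_f, T_v, T_d] [T_a, T_f, T_b, T_c, T_d, T_c, T_b, T_f, T_v, T_a, T_b, T_c] M (Nat.sub (MG u) (Nat.mod (MG u) M)) (nat_lit 40) z1 u (Nat.mod (MG u) M)) (mRel MG [T_b, T_c, T_d, T_c, T_b, T_f, T_v, T_c, T_v] [T_f, T_c, T_f, T_b, T_c, T_d, T_c, T_b, T_f] M (Nat.sub (MG u) (Nat.mod (MG u) M)) (nat_lit 40) z1 u (Nat.mod (MG u) M)) (Nat.ble (nat_lit 372) j)) (Bool.rec (motive := fun _ => Bool) (mRel MG [T_c, T_d, T_c,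 T_b, T_f, T_v, T_b, T_v, T_f, T_b, T_c] [T_b, T_f, T_b, T_f, T_b, T_c, T_d] M (Nat.sub (MG u) (Nat.mod (MG u) M)) (nat_lit 40) z1 u (Nat.mod (MG u) M)) (mRel MG [T_c, T_b, T_f, T_c, T_f, T_b, T_c, T_d, T_c, T_b, T_f, T_v, T_c, T_v, T_f, T_b, T_c] [T_d] M (Nat.sub (MG u) (Nat.mod (MG u) M)) (nat_lit 40) z1 u (Nat.mod (MG u) M)) (Nat.ble (nat_lit 374) j)) (Nat.ble (nat_lit 373) j)) (Nat.ble (nat_lit 371) j)
noncomputable def dM_85 (j z1 z2 u : ℕ) : Bool :=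
  Bool.rec (motive := fun _ => Bool) (Bool.rec (motive := fun _ => Bool) (Bool.rec (motive := fun _ => Bool) (mRel MG [T_f, T_b, T_c, T_d, T_c, T_b, T_f, T_v, T_d, T_c] [T_d, T_c, T_b, T_a, T_f, T_b, T_c, T_d, T_c, T_b, T_f, T_v, T_a, T_b] M (Nat.sub (MG u) (Nat.mod (MG u) M)) (nat_lit 40) z1 u (Nat.mod (MG u) M)) (mRel MG [T_b, T_f, T_d, T_c, T_b, T_a, T_f, T_b, T_c, T_d, T_c, T_b, T_f] [T_c, T_d, T_c, T_b, T_f, T_v, T_d, T_c, T_b, T_a, T_v] M (Nat.sub (MG u) (Nat.mod (MG u) M)) (nat_lit 40) z1 u (Nat.mod (MG u) M)) (Nat.ble (nat_lit 376) j)) (Bool.rec (motive := fun _ => Bool) (mRel MG [T_b, T_c, T_d, T_c, T_b, T_f, T_v, T_c, T_v, T_f] [T_f, T_c, T_f, T_b, T_c, T_d, T_c, T_b] M (Nat.sub (MG u) (Nat.mod (MG u) M)) (nat_lit 40) z1 u (Nat.mod (MG u) M)) (mRel MG [T_c, T_d, T_f, T_b, T_c, T_d, T_c, T_b, T_f, T_v] [T_b, T_a,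 T_f, T_b, T_c, T_d, T_c, T_b, T_f, T_v, T_a, T_b, T_c, T_d] M (Nat.sub (MG u) (Nat.mod (MG u) M)) (nat_lit 40) z1 u (Nat.mod (MG u) M)) (Nat.ble (nat_lit 378) j)) (Nat.ble (nat_lit 377) j)) (Bool.rec (motive := fun _ => Bool) (Bool.rec (motive := fun _ => Bool) (mRel MG [T_d, T_c, T_b, T_f, T_v, T_c, T_v, T_f] [T_c, T_b, T_f, T_c, T_f, T_b, T_c, T_d, T_c, T_b] M (Nat.sub (MG u) (Nat.mod (MG u) M)) (nat_lit 40) z1 u (Nat.mod (MG u) M)) (mRel MG [T_v, T_f, T_b, T_c, T_d, T_c, T_b, T_f, T_v, T_f] [T_f, T_b, T_c, T_d, T_c, T_b, T_f, T_v, T_f, T_b, T_c, T_d, T_c, T_b] M (Nat.sub (MG u) (Nat.mod (MG u) M)) (nat_lit 40) z1 u (Nat.mod (MG u) M)) (Nat.ble (nat_lit 380) j)) (Bool.rec (motive := fun _ => Bool) (mRel MG [T_a, T_c, T_d, T_c, T_d, T_c] [T_d, T_c, T_d] M (Nat.sub (MG u) (Nat.mod (MG u) M)) (nat_lit 40) z1 u (Nat.mod (MG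 u) M)) (mRel MG [T_d, T_e, T_d] [T_e, T_d, T_e] M (Nat.sub (MG u) (Nat.mod (MG u) M)) (nat_lit 40) z1 u (Nat.mod (MG u) M)) (Nat.ble (nat_lit 382) j)) (Nat.ble (nat_lit 381) j)) (Nat.ble (nat_lit 379) j)
noncomputable def dM_86 (j z1 z2 u : ℕ) : Bool :=
  Bool.rec (motive := fun _ => Bool) (dM_84 j z1 z2 u) (dM_85 j z1 z2 u) (Nat.ble (nat_lit 375) j)
noncomputable def dM_87 (j z1 z2 u : ℕ) : Bool :=
  Bool.rec (motive := fun _ => Bool) (Bool.rec (motive := fun _ => Bool) (Bool.rec (motive := fun _ => Bool) (mRel MG [T_c, T_b, T_f, T_d, T_c, T_b, T_a, T_f, T_b, T_c, T_d, T_c, T_b, T_f] [T_d, T_c, T_b, T_f, T_v, T_d, T_c, T_b, T_a, T_v] M (Nat.sub (MG u) (Nat.mod (MG u) M)) (nat_lit 40) z1 u (Nat.mod (MG u) M)) (mRel MG [T_e, T_d, T_e, T_d, T_e, T_d] [] M (Nat.sub (MG u) (Nat.mod (MG u) M)) (nat_lit 40) z1 u (Nat.mod (MG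 u) M)) (Nat.ble (nat_lit 384) j)) (Bool.rec (motive := fun _ => Bool) (mRel MG [T_b, T_c, T_b, T_c, T_b, T_c] [] M (Nat.sub (MG u) (Nat.mod (MG u) M)) (nat_lit 40) z1 u (Nat.mod (MG u) M)) (mRel MG [T_d, T_f, T_b, T_c, T_d, T_c, T_b, T_f, T_v, T_d, T_c, T_b] [T_c, T_b, T_a, T_f, T_b, T_c, T_d, T_c, T_b, T_f, T_v, T_a] M (Nat.sub (MG u) (Nat.mod (MG u) M)) (nat_lit 40) z1 u (Nat.mod (MG u) M)) (Nat.ble (nat_lit 386) j)) (Nat.ble (nat_lit 385) j)) (Bool.rec (motive := fun _ => Bool) (Bool.rec (motive := fun _ => Bool) (mRel MG [T_b, T_c, T_d, T_c, T_b, T_f, T_d, T_c, T_b, T_a, T_f, T_b, T_c, T_d, T_c, T_b, T_f, T_v, T_a, T_b] [T_f, T_v, T_d, T_c] M (Nat.sub (MG u) (Nat.mod (MG u) M)) (nat_lit 40) z1 u (Nat.mod (MG u) M)) (mRel MG [T_f, T_c, T_b, T_a, T_f, T_c, T_b, T_a, T_f, T_c, T_b, T_a, T_f, T_c] [T_a, T_b, T_c, T_f, T_a,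 T_b] M (Nat.sub (MG u) (Nat.mod (MG u) M)) (nat_lit 40) z1 u (Nat.mod (MG u) M)) (Nat.ble (nat_lit 388) j)) (Bool.rec (motive := fun _ => Bool) (mRel MG [T_f, T_v, T_b, T_v, T_f, T_b] [T_b, T_c, T_d, T_c, T_b, T_f, T_b, T_f, T_b, T_c, T_d, T_c] M (Nat.sub (MG u) (Nat.mod (MG u) M)) (nat_lit 40) z1 u (Nat.mod (MG u) M)) (mRel MG [T_f, T_a, T_b, T_c, T_d, T_f, T_b, T_c, T_d, T_c, T_b, T_f, T_v, T_d, T_c, T_b, T_a] [T_b, T_c, T_d, T_c, T_b, T_f, T_v] M (Nat.sub (MG u) (Nat.mod (MG u) M)) (nat_lit 40) z1 u (Nat.mod (MG u) M)) (Nat.ble (nat_lit 390) j)) (Nat.ble (nat_lit 389) j)) (Nat.ble (nat_lit 387) j)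
noncomputable def dM_88 (j z1 z2 u : ℕ) : Bool :=
  Bool.rec (motive := fun _ => Bool) (Bool.rec (motive := fun _ => Bool) (Bool.rec (motive := fun _ => Bool) (mRel MG [T_c, T_b, T_f, T_e, T_f, T_b, T_c, T_d, T_c, T_b, T_f, T_v, T_f, T_e, T_b, T_c, T_d, T_c, T_b, T_f, T_e, T_v] [T_d, T_c, T_b, T_f] M (Nat.sub (MG u) (Nat.mod (MG u) M)) (nat_lit 40) z1 u (Nat.mod (MG u) M)) (mRel MG [T_b, T_f, T_e, T_v, T_f, T_b, T_c, T_d, T_c, T_b, T_f, T_e, T_f, T_b, T_c, T_d, T_c, T_b, T_f, T_v] [T_c, T_d, T_c, T_b, T_e, T_f] M (Nat.sub (MG u) (Nat.mod (MG u) M)) (nat_lit 40) z1 u (Nat.mod (MG u) M)) (Nat.ble (nat_lit 392) j)) (Bool.rec (motive := fun _ => Bool) (mRel MG [T_c, T_d, T_c, T_b, T_f, T_v, T_a, T_b, T_c, T_d] [T_b, T_f, T_a, T_b, T_c, T_d, T_f, T_b, T_c, T_d, T_c, T_b, T_f, T_v] M (Nat.sub (MG u) (Nat.mod (MG u) M)) (nat_lit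 40) z1 u (Nat.mod (MG u) M)) (mRel MG [T_c, T_d, T_c, T_b, T_f, T_v, T_d, T_c, T_b, T_a] [T_b, T_f, T_d, T_c, T_b, T_a, T_f, T_b, T_c, T_d, T_c, T_b, T_f, T_v] M (Nat.sub (MG u) (Nat.mod (MG u) M)) (nat_lit 40) z1 u (Nat.mod (MG u) M)) (Nat.ble (nat_lit 394) j)) (Nat.ble (nat_lit 393) j)) (Bool.rec (motive := fun _ => Bool) (Bool.rec (motive := fun _ => Bool) (mRel MG [T_a, T_b, T_c, T_d, T_f, T_b, T_c, T_d, T_c, T_b, T_f, T_v, T_d, T_c, T_b] [T_f, T_b, T_c, T_d, T_c, T_b, T_f, T_v, T_a] M (Nat.sub (MG u) (Nat.mod (MG u) M)) (nat_lit 40) z1 u (Nat.mod (MG u) M)) (mRel MG [T_b, T_f, T_c, T_f, T_b, T_c, T_d, T_c, T_b, T_f, T_v, T_c, T_v, T_f] [T_c, T_d, T_c, T_b] M (Nat.sub (MG u) (Nat.mod (MG u) M)) (nat_lit 40) z1 u (Nat.mod (MG u) M)) (Nat.ble (nat_lit 396) j)) (Bool.rec (motive := fun _ => Bool) (mRel MG [T_f, T_v, T_a,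 T_b, T_c, T_d] [T_b, T_c, T_d, T_c, T_b, T_f, T_a, T_b, T_c, T_d, T_f, T_b, T_c, T_d, T_c, T_b, T_f, T_v] M (Nat.sub (MG u) (Nat.mod (MG u) M)) (nat_lit 40) z1 u (Nat.mod (MG u) M)) (Bool.rec (motive := fun _ => Bool) (mRel MG [T_d, T_c, T_d, T_c] [T_c, T_d, T_a, T_c, T_d] M (Nat.sub (MG u) (Nat.mod (MG u) M)) (nat_lit 40) z1 u (Nat.mod (MG u) M)) (mRel MG [T_v, T_f, T_b, T_c, T_d, T_c, T_b, T_f] [T_f, T_b, T_c, T_d, T_c, T_b, T_f, T_v, T_f, T_b, T_c, T_d, T_c, T_b, T_f, T_v] M (Nat.sub (MG u) (Nat.mod (MG u) M)) (nat_lit 40) z1 u (Nat.mod (MG u) M)) (Nat.ble (nat_lit 399) j)) (Nat.ble (nat_lit 398) j)) (Nat.ble (nat_lit 397) j)) (Nat.ble (nat_lit 395) j)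
noncomputable def dM_89 (j z1 z2 u : ℕ) : Bool :=
  Bool.rec (motive := fun _ => Bool) (dM_87 j z1 z2 u) (dM_88 j z1 z2 u) (Nat.ble (nat_lit 391) j)
noncomputable def dM_90 (j z1 z2 u : ℕ) : Bool :=
  Bool.rec (motive := fun _ => Bool) (dM_86 j z1 z2 u) (dM_89 j z1 z2 u) (Nat.ble (nat_lit 383) j)
noncomputable def dM_91 (j z1 z2 u : ℕ) : Bool :=
  Bool.rec (motive := fun _ => Bool) (dM_83 j z1 z2 u) (dM_90 j z1 z2 u) (Nat.ble (nat_lit 367) j)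
noncomputable def dM_92 (j z1 z2 u : ℕ) : Bool :=
  Bool.rec (motive := fun _ => Bool) (dM_76 j z1 z2 u) (dM_91 j z1 z2 u) (Nat.ble (nat_lit 335) j)
noncomputable def dM_93 (j z1 z2 u : ℕ) : Bool :=
  Bool.rec (motive := fun _ => Bool) (Bool.rec (motive := fun _ => Bool) (Bool.rec (motive := fun _ => Bool) (mRel MG [T_c, T_b, T_f] [T_d, T_c, T_b, T_f, T_d, T_c, T_b, T_a, T_f, T_b, T_c, T_d, T_c, T_b, T_f, T_v, T_a, T_b, T_c, T_d, T_v] M (Nat.sub (MG u) (Nat.mod (MG u) M)) (nat_lit 40) z1 u (Nat.mod (MG u) M)) (mRel MG [T_b, T_c, T_d, T_c, T_b, T_f, T_v, T_f, T_e, T_b, T_c, T_d, T_c, T_b, T_f, T_e, T_v, T_f] [T_f, T_e, T_f, T_b, T_c, T_d, T_c, T_b] M (Nat.sub (MG u) (Nat.mod (MG u) M)) (nat_lit 40) z1 u (Nat.mod (MG u) M)) (Nat.ble (nat_lit 401) j)) (Bool.rec (motive := fun _ => Bool) (mRel MG [T_c, T_b, T_f, T_a, T_b, T_c,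 T_d, T_f, T_b, T_c, T_d, T_c, T_b, T_f, T_v, T_d, T_c, T_b] [T_d, T_c, T_b, T_f, T_v, T_a] M (Nat.sub (MG u) (Nat.mod (MG u) M)) (nat_lit 40) z1 u (Nat.mod (MG u) M)) (mRel MG [T_c, T_d] [T_d, T_c, T_d, T_c, T_d, T_a, T_c] M (Nat.sub (MG u) (Nat.mod (MG u) M)) (nat_lit 40) z1 u (Nat.mod (MG u) M)) (Nat.ble (nat_lit 403) j)) (Nat.ble (nat_lit 402) j)) (Bool.rec (motive := fun _ => Bool) (Bool.rec (motive := fun _ => Bool) (mRel MG [T_c, T_b, T_a, T_f, T_b, T_c, T_d, T_c, T_b, T_f, T_v] [T_d, T_f, T_b, T_c, T_d, T_c, T_b, T_f, T_v, T_d, T_c, T_b, T_a] M (Nat.sub (MG u) (Nat.mod (MG u) M)) (nat_lit 40) z1 u (Nat.mod (MG u) M)) (mRel MG [T_c, T_b, T_a, T_f, T_c, T_b, T_a, T_f, T_c, T_b, T_a, T_f, T_c, T_b] [T_f, T_a, T_b, T_c, T_f, T_a] M (Nat.sub (MG u) (Nat.mod (MG u) M)) (nat_lit 40) z1 u (Nat.mod (MG u) M)) (Nat.ble (nat_lit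 405) j)) (Bool.rec (motive := fun _ => Bool) (mRel MG [T_b, T_c, T_d, T_c, T_b, T_f, T_v, T_d, T_c, T_b, T_a, T_v, T_f] [T_f, T_d, T_c, T_b, T_a, T_f, T_b, T_c, T_d, T_c, T_b] M (Nat.sub (MG u) (Nat.mod (MG u) M)) (nat_lit 40) z1 u (Nat.mod (MG u) M)) (mRel MG [T_f, T_v, T_b, T_v, T_f, T_b, T_c, T_d, T_c, T_b, T_f, T_b] [T_b, T_c, T_d, T_c, T_b, T_f] M (Nat.sub (MG u) (Nat.mod (MG u) M)) (nat_lit 40) z1 u (Nat.mod (MG u) M)) (Nat.ble (nat_lit 407) j)) (Nat.ble (nat_lit 406) j)) (Nat.ble (nat_lit 404) j)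
noncomputable def dM_94 (j z1 z2 u : ℕ) : Bool :=
  Bool.rec (motive := fun _ => Bool) (Bool.rec (motive := fun _ => Bool) (Bool.rec (motive := fun _ => Bool) (mRel MG [T_b, T_c, T_d, T_c, T_b, T_f, T_e, T_f, T_b, T_c, T_d, T_c, T_b, T_f, T_v, T_f] [T_f, T_v, T_e, T_f, T_b, T_c, T_d, T_c, T_b, T_e] M (Nat.sub (MG u) (Nat.mod (MG u) M)) (nat_lit 40) z1 u (Nat.mod (MG u) M)) (mRel MG [T_a, T_v] [T_b, T_c, T_d, T_v, T_f, T_b, T_c, T_d, T_c, T_b, T_f, T_d, T_c, T_b, T_a, T_f, T_b, T_c, T_d, T_c, T_b, T_f] M (Nat.sub (MG u) (Nat.mod (MG u) M)) (nat_lit 40) z1 u (Nat.mod (MG u) M)) (Nat.ble (nat_lit 409) j)) (Bool.rec (motive := fun _ => Bool) (mRel MG [T_b, T_f, T_b, T_f, T_b] [T_f] M (Nat.sub (MG u) (Nat.mod (MG u) M)) (nat_lit 40) z1 u (Nat.mod (MG u) M)) (mRel MG [T_d, T_c, T_d, T_c, T_d, T_c, T_d, T_a] [T_c] M (Nat.sub (MG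 u) (Nat.mod (MG u) M)) (nat_lit 40) z1 u (Nat.mod (MG u) M)) (Nat.ble (nat_lit 411) j)) (Nat.ble (nat_lit 410) j)) (Bool.rec (motive := fun _ => Bool) (Bool.rec (motive := fun _ => Bool) (mRel MG [T_c, T_b, T_f] [T_d, T_c, T_b, T_f, T_v, T_c, T_v, T_f, T_b, T_c, T_d, T_c, T_b, T_f, T_c] M (Nat.sub (MG u) (Nat.mod (MG u) M)) (nat_lit 40) z1 u (Nat.mod (MG u) M)) (mRel MG [T_b, T_c, T_d, T_c, T_b, T_f, T_e, T_v, T_f] [T_e, T_f, T_v, T_f, T_b, T_c, T_d, T_c, T_b, T_f, T_e, T_f, T_b, T_c, T_d, T_c, T_b] M (Nat.sub (MG u) (Nat.mod (MG u) M)) (nat_lit 40) z1 u (Nat.mod (MG u) M)) (Nat.ble (nat_lit 413) j)) (Bool.rec (motive := fun _ => Bool) (mRel MG [T_c, T_b, T_f, T_a, T_b, T_c, T_d, T_f, T_b, T_c, T_d, T_c, T_b, T_f, T_v, T_d, T_c, T_b, T_a] [T_d, T_c, T_b, T_f, T_v] M (Nat.sub (MG u) (Nat.mod (MG u) M)) (nat_lit 40) z1 u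 (Nat.mod (MG u) M)) (mRel MG [T_d, T_c, T_b, T_f, T_a, T_b, T_c, T_d, T_f, T_b, T_c, T_d, T_c, T_b, T_f, T_v, T_d, T_c, T_b, T_a, T_v, T_f] [T_c, T_b] M (Nat.sub (MG u) (Nat.mod (MG u) M)) (nat_lit 40) z1 u (Nat.mod (MG u) M)) (Nat.ble (nat_lit 415) j)) (Nat.ble (nat_lit 414) j)) (Nat.ble (nat_lit 412) j)
noncomputable def dM_95 (j z1 z2 u : ℕ) : Bool :=
  Bool.rec (motive := fun _ => Bool) (dM_93 j z1 z2 u) (dM_94 j z1 z2 u) (Nat.ble (nat_lit 408) j)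
noncomputable def dM_96 (j z1 z2 u : ℕ) : Bool :=
  Bool.rec (motive := fun _ => Bool) (Bool.rec (motive := fun _ => Bool) (Bool.rec (motive := fun _ => Bool) (mRel MG [T_c, T_d, T_c, T_b, T_f, T_v, T_a, T_b, T_c, T_d, T_v] [T_b, T_f, T_a, T_b, T_c, T_d, T_f, T_b, T_c, T_d, T_c, T_b, T_f] M (Nat.sub (MG u) (Nat.mod (MG u) M)) (nat_lit 40) z1 u (Nat.mod (MG u) M)) (mRel MG [T_a, T_b, T_c, T_d, T_v, T_f, T_b, T_c, T_d, T_c, T_b, T_f, T_d, T_c, T_b, T_a, T_f, T_b, T_c, T_d, T_c, T_b, T_f, T_v] [] M (Nat.sub (MG u) (Nat.mod (MG u) M)) (nat_lit 40) z1 u (Nat.mod (MG u) M)) (Nat.ble (nat_lit 417) j)) (Bool.rec (motive := fun _ => Bool) (mRel MG [T_b, T_c, T_d, T_c, T_b, T_f, T_d, T_c, T_b, T_a, T_f, T_b, T_c, T_d, T_c, T_b, T_f, T_v, T_a, T_b, T_c, T_d] [T_f, T_v] M (Nat.sub (MG u) (Nat.mod (MG u) M)) (nat_lit 40) z1 u (Nat.mod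 (MG u) M)) (mRel MG [T_b, T_c, T_d, T_c, T_b, T_f, T_v] [T_f, T_d, T_c, T_b, T_a, T_f, T_b, T_c, T_d, T_c, T_b, T_f, T_v, T_a, T_b, T_c, T_d] M (Nat.sub (MG u) (Nat.mod (MG u) M)) (nat_lit 40) z1 u (Nat.mod (MG u) M)) (Nat.ble (nat_lit 419) j)) (Nat.ble (nat_lit 418) j)) (Bool.rec (motive := fun _ => Bool) (Bool.rec (motive := fun _ => Bool) (mRel MG [T_c, T_b] [T_d, T_c, T_b, T_f, T_c, T_f, T_b, T_c, T_d, T_c, T_b, T_f, T_v, T_c, T_v, T_f] M (Nat.sub (MG u) (Nat.mod (MG u) M)) (nat_lit 40) z1 u (Nat.mod (MG u) M)) (mRel MG [T_d, T_f, T_b, T_c, T_d, T_c, T_b, T_f, T_v, T_d] [T_c, T_b, T_a, T_f, T_b, T_c, T_d, T_c, T_b, T_f, T_v, T_a, T_b, T_c] M (Nat.sub (MG u) (Nat.mod (MG u) M)) (nat_lit 40) z1 u (Nat.mod (MG u) M)) (Nat.ble (nat_lit 421) j)) (Bool.rec (motive := fun _ => Bool) (mRel MG [T_f, T_b, T_c, T_d, T_c, T_b,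 T_f, T_d, T_c, T_b, T_a, T_f, T_b, T_c, T_d, T_c, T_b, T_f] [T_v, T_d, T_c, T_b, T_a, T_v] M (Nat.sub (MG u) (Nat.mod (MG u) M)) (nat_lit 40) z1 u (Nat.mod (MG u) M)) (mRel MG [T_c, T_b, T_a, T_v, T_f] [T_d, T_v, T_f, T_b, T_c, T_d, T_c, T_b, T_f, T_d, T_c, T_b, T_a, T_f, T_b, T_c, T_d, T_c, T_b] M (Nat.sub (MG u) (Nat.mod (MG u) M)) (nat_lit 40) z1 u (Nat.mod (MG u) M)) (Nat.ble (nat_lit 423) j)) (Nat.ble (nat_lit 422) j)) (Nat.ble (nat_lit 420) j)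
noncomputable def dM_97 (j z1 z2 u : ℕ) : Bool :=
  Bool.rec (motive := fun _ => Bool) (Bool.rec (motive := fun _ => Bool) (Bool.rec (motive := fun _ => Bool) (mRel MG [T_d, T_c, T_b, T_a, T_v, T_f] [T_v, T_f, T_b, T_c, T_d, T_c, T_b, T_f, T_d, T_c, T_b, T_a, T_f, T_b, T_c, T_d, T_c, T_b] M (Nat.sub (MG u) (Nat.mod (MG u) M)) (nat_lit 40) z1 u (Nat.mod (MG u) M)) (mRel MG [T_f, T_e, T_f] [T_e] M (Nat.sub (MG u) (Nat.mod (MG u) M)) (nat_lit 40) z1 u (Nat.mod (MG u) M)) (Nat.ble (nat_lit 425) j)) (Bool.rec (motive := fun _ => Bool) (mRel MG [T_f, T_b, T_c, T_d, T_c, T_b, T_f, T_a, T_b, T_c, T_d, T_f, T_b, T_c, T_d, T_c, T_b, T_f, T_v, T_d] [T_v, T_a, T_b, T_c] M (Nat.sub (MG u) (Nat.mod (MG u) M)) (nat_lit 40) z1 u (Nat.mod (MG u) M)) (mRel MG [T_d, T_c, T_d, T_c, T_a, T_d] [T_c, T_d, T_c] M (Nat.sub (MG u) (Nat.mod (MG u)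 M)) (nat_lit 40) z1 u (Nat.mod (MG u) M)) (Nat.ble (nat_lit 427) j)) (Nat.ble (nat_lit 426) j)) (Bool.rec (motive := fun _ => Bool) (Bool.rec (motive := fun _ => Bool) (mRel MG [T_b, T_c, T_d, T_c, T_b, T_f, T_e, T_f, T_b, T_c, T_d, T_c, T_b, T_f, T_v] [T_f, T_v, T_e, T_f, T_b, T_c, T_d, T_c, T_b, T_e, T_f] M (Nat.sub (MG u) (Nat.mod (MG u) M)) (nat_lit 40) z1 u (Nat.mod (MG u) M)) (mRel MG [T_c, T_b, T_f, T_b, T_f, T_b, T_c, T_d, T_c, T_b, T_f, T_v, T_b, T_v, T_f, T_b, T_c] [T_d] M (Nat.sub (MG u) (Nat.mod (MG u) M)) (nat_lit 40) z1 u (Nat.mod (MG u) M)) (Nat.ble (nat_lit 429) j)) (Bool.rec (motive := fun _ => Bool) (mRel MG [T_c, T_d, T_f, T_b, T_c, T_d, T_c, T_b, T_f, T_v, T_d] [T_b, T_a, T_f, T_b, T_c, T_d, T_c, T_b, T_f, T_v, T_a, T_b, T_c] M (Nat.sub (MG u) (Nat.mod (MG u) M)) (nat_lit 40) z1 u (Nat.mod (MG u) M))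 (mRel MG [T_a, T_b, T_c, T_d, T_f, T_b, T_c, T_d, T_c, T_b, T_f] [T_f, T_b, T_c, T_d, T_c, T_b, T_f, T_v, T_a, T_b, T_c, T_d, T_v] M (Nat.sub (MG u) (Nat.mod (MG u) M)) (nat_lit 40) z1 u (Nat.mod (MG u) M)) (Nat.ble (nat_lit 431) j)) (Nat.ble (nat_lit 430) j)) (Nat.ble (nat_lit 428) j)
noncomputable def dM_98 (j z1 z2 u : ℕ) : Bool :=
  Bool.rec (motive := fun _ => Bool) (dM_96 j z1 z2 u) (dM_97 j z1 z2 u) (Nat.ble (nat_lit 424) j)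
noncomputable def dM_99 (j z1 z2 u : ℕ) : Bool :=
  Bool.rec (motive := fun _ => Bool) (dM_95 j z1 z2 u) (dM_98 j z1 z2 u) (Nat.ble (nat_lit 416) j)
noncomputable def dM_100 (j z1 z2 u : ℕ) : Bool :=
  Bool.rec (motive := fun _ => Bool) (Bool.rec (motive := fun _ => Bool) (Bool.rec (motive := fun _ => Bool) (mRel MG [T_c, T_d, T_c, T_b, T_f, T_d, T_c, T_b, T_a, T_f, T_b, T_c, T_d, T_c, T_b, T_f, T_v, T_a, T_b] [T_b, T_f, T_v, T_d, T_c] M (Nat.sub (MG u) (Nat.mod (MG u) M)) (nat_lit 40) z1 u (Nat.mod (MG u) M)) (mRel MG [T_c, T_b, T_f, T_v, T_a, T_b, T_c, T_d, T_v, T_f] [T_d, T_c, T_b, T_f, T_a, T_b, T_c, T_d, T_f, T_b, T_c, T_d, T_c, T_b] M (Nat.sub (MG u) (Nat.mod (MG u) M)) (nat_lit 40) z1 u (Nat.mod (MG u) M)) (Nat.ble (nat_lit 433) j)) (Bool.rec (motive := fun _ => Bool) (mRel MG [T_d, T_c, T_b, T_f, T_v, T_d, T_c,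 T_b, T_a, T_v, T_f, T_b, T_c, T_d, T_c, T_b] [T_c, T_b, T_f, T_d, T_c, T_b, T_a, T_f] M (Nat.sub (MG u) (Nat.mod (MG u) M)) (nat_lit 40) z1 u (Nat.mod (MG u) M)) (mRel MG [T_c, T_b, T_f, T_v, T_b, T_v, T_f, T_b] [T_d, T_c, T_b, T_f, T_b, T_f, T_b, T_c, T_d, T_c] M (Nat.sub (MG u) (Nat.mod (MG u) M)) (nat_lit 40) z1 u (Nat.mod (MG u) M)) (Nat.ble (nat_lit 435) j)) (Nat.ble (nat_lit 434) j)) (Bool.rec (motive := fun _ => Bool) (Bool.rec (motive := fun _ => Bool) (mRel MG [T_c] [T_b, T_a, T_v, T_f, T_b, T_c, T_d, T_c, T_b, T_f, T_a, T_b, T_c, T_d, T_f, T_b, T_c, T_d, T_c, T_b, T_f, T_v, T_d] M (Nat.sub (MG u) (Nat.mod (MG u) M)) (nat_lit 40) z1 u (Nat.mod (MG u) M)) (mRel MG [T_v, T_d, T_c, T_b] [T_f, T_b, T_c, T_d, T_c, T_b, T_f, T_d, T_c, T_b, T_a, T_f, T_b, T_c, T_d, T_c, T_b, T_f, T_v, T_a] M (Nat.sub (MG u) (Nat.mod (MG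 u) M)) (nat_lit 40) z1 u (Nat.mod (MG u) M)) (Nat.ble (nat_lit 437) j)) (Bool.rec (motive := fun _ => Bool) (mRel MG [T_b, T_c, T_d, T_v, T_f, T_b, T_c] [T_a, T_v, T_f, T_b, T_c, T_d, T_c, T_b, T_f, T_a, T_b, T_c, T_d, T_f, T_b, T_c, T_d] M (Nat.sub (MG u) (Nat.mod (MG u) M)) (nat_lit 40) z1 u (Nat.mod (MG u) M)) (mRel MG [T_f, T_a, T_b, T_c, T_d, T_f, T_b, T_c, T_d, T_c, T_b, T_f] [T_b, T_c, T_d, T_c, T_b, T_f, T_v, T_a, T_b, T_c, T_d, T_v] M (Nat.sub (MG u) (Nat.mod (MG u) M)) (nat_lit 40) z1 u (Nat.mod (MG u) M)) (Nat.ble (nat_lit 439) j)) (Nat.ble (nat_lit 438) j)) (Nat.ble (nat_lit 436) j)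
noncomputable def dM_101 (j z1 z2 u : ℕ) : Bool :=
  Bool.rec (motive := fun _ => Bool) (Bool.rec (motive := fun _ => Bool) (Bool.rec (motive := fun _ => Bool) (mRel MG [T_f, T_b, T_c, T_d, T_c, T_b, T_f, T_a, T_b, T_c, T_d, T_f, T_b, T_c, T_d, T_c, T_b, T_f, T_v, T_d, T_c] [T_v, T_a, T_b] M (Nat.sub (MG u) (Nat.mod (MG u) M)) (nat_lit 40) z1 u (Nat.mod (MG u) M)) (mRel MG [T_d, T_c, T_d, T_c, T_d] [T_a, T_c, T_d, T_c] M (Nat.sub (MG u) (Nat.mod (MG u) M)) (nat_lit 40) z1 u (Nat.mod (MG u) M)) (Nat.ble (nat_lit 441) j)) (Bool.rec (motive := fun _ => Bool) (mRel MG [T_b, T_c, T_d, T_c] [T_f, T_a, T_b, T_c, T_d, T_f, T_b, T_c, T_d, T_c, T_b, T_f, T_v, T_d, T_c, T_b, T_a, T_v, T_f, T_b] M (Nat.sub (MG u) (Nat.mod (MG u) M)) (nat_lit 40) z1 u (Nat.mod (MG u) M)) (mRel MG [T_f, T_v, T_c, T_v, T_f, T_b] [T_b, T_c, T_d, T_c, T_b,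 T_f, T_c, T_f, T_b, T_c, T_d, T_c] M (Nat.sub (MG u) (Nat.mod (MG u) M)) (nat_lit 40) z1 u (Nat.mod (MG u) M)) (Nat.ble (nat_lit 443) j)) (Nat.ble (nat_lit 442) j)) (Bool.rec (motive := fun _ => Bool) (Bool.rec (motive := fun _ => Bool) (mRel MG [T_b, T_c, T_d, T_c, T_b, T_f, T_d, T_c] [T_f, T_v, T_d, T_c, T_b, T_a, T_v, T_f, T_b, T_c, T_d, T_c, T_b, T_f, T_a, T_b] M (Nat.sub (MG u) (Nat.mod (MG u) M)) (nat_lit 40) z1 u (Nat.mod (MG u) M)) (mRel MG [T_f, T_a, T_b, T_c, T_d, T_f, T_b] [T_b, T_c, T_d, T_c, T_b, T_f, T_v, T_a, T_b, T_c, T_d, T_v, T_f, T_b, T_c, T_d, T_c] M (Nat.sub (MG u) (Nat.mod (MG u) M)) (nat_lit 40) z1 u (Nat.mod (MG u) M)) (Nat.ble (nat_lit 445) j)) (Bool.rec (motive := fun _ => Bool) (mRel MG [T_b, T_f, T_e, T_v, T_f, T_b] [T_c, T_d, T_c, T_b, T_e, T_f, T_v, T_f, T_b, T_c, T_d, T_c, T_b, T_f, T_e, T_f,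 T_b, T_c, T_d, T_c] M (Nat.sub (MG u) (Nat.mod (MG u) M)) (nat_lit 40) z1 u (Nat.mod (MG u) M)) (mRel MG [T_d, T_v, T_f, T_b, T_c, T_d, T_c, T_b, T_f, T_d, T_c, T_b, T_a, T_f, T_b, T_c, T_d, T_c, T_b, T_f] [T_c, T_b, T_a, T_v] M (Nat.sub (MG u) (Nat.mod (MG u) M)) (nat_lit 40) z1 u (Nat.mod (MG u) M)) (Nat.ble (nat_lit 447) j)) (Nat.ble (nat_lit 446) j)) (Nat.ble (nat_lit 444) j)
noncomputable def dM_102 (j z1 z2 u : ℕ) : Bool :=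
  Bool.rec (motive := fun _ => Bool) (dM_100 j z1 z2 u) (dM_101 j z1 z2 u) (Nat.ble (nat_lit 440) j)
noncomputable def dM_103 (j z1 z2 u : ℕ) : Bool :=
  Bool.rec (motive := fun _ => Bool) (Bool.rec (motive := fun _ => Bool) (Bool.rec (motive := fun _ => Bool) (mRel MG [T_b, T_c, T_f, T_a, T_b, T_c, T_f, T_a, T_b, T_c, T_f, T_a, T_b] [T_a, T_f, T_c, T_b, T_a, T_f, T_c] M (Nat.sub (MG u) (Nat.mod (MG u) M)) (nat_lit 40) z1 u (Nat.mod (MG u) M)) (mRel MG [T_f, T_c, T_b, T_a, T_f, T_c, T_b] [T_a, T_b, T_c, T_f, T_a, T_b, T_c, T_f, T_a, T_b, T_c, T_f, T_a] M (Nat.sub (MG u) (Nat.mod (MG u) M)) (nat_lit 40) z1 u (Nat.mod (MG u) M)) (Nat.ble (nat_lit 449) j)) (Bool.rec (motive := fun _ => Bool) (mRel MG [T_f, T_a, T_b, T_c, T_d, T_f, T_b, T_c, T_d, T_c, T_b, T_f, T_v, T_d, T_c] [T_b, T_c, T_d, T_c, T_b, T_f, T_v, T_a, T_b] M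 (Nat.sub (MG u) (Nat.mod (MG u) M)) (nat_lit 40) z1 u (Nat.mod (MG u) M)) (mRel MG [T_b, T_f, T_a, T_b, T_c, T_d, T_f, T_b, T_c, T_d, T_c, T_b, T_f, T_v, T_d, T_c, T_b, T_a, T_v] [T_c, T_d, T_c, T_b, T_f] M (Nat.sub (MG u) (Nat.mod (MG u) M)) (nat_lit 40) z1 u (Nat.mod (MG u) M)) (Nat.ble (nat_lit 451) j)) (Nat.ble (nat_lit 450) j)) (Bool.rec (motive := fun _ => Bool) (Bool.rec (motive := fun _ => Bool) (mRel MG [T_c, T_d, T_c, T_b, T_f, T_e, T_f, T_b, T_c, T_d, T_c, T_b, T_f, T_v, T_f] [T_b, T_f, T_v, T_e, T_f, T_b, T_c, T_d, T_c, T_b, T_e] M (Nat.sub (MG u) (Nat.mod (MG u) M)) (nat_lit 40) z1 u (Nat.mod (MG u) M)) (mRel MG [T_c, T_d, T_c, T_b, T_f, T_d, T_c, T_b, T_a, T_f, T_b, T_c, T_d, T_c, T_b, T_f, T_v, T_a, T_b, T_c, T_d, T_v, T_f, T_b] [] M (Nat.sub (MG u) (Nat.mod (MG u) M)) (nat_lit 40) z1 u (Nat.mod (MG u) M))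 (Nat.ble (nat_lit 453) j)) (Bool.rec (motive := fun _ => Bool) (mRel MG [T_c, T_d, T_c, T_d, T_c, T_a] [T_d, T_c, T_d] M (Nat.sub (MG u) (Nat.mod (MG u) M)) (nat_lit 40) z1 u (Nat.mod (MG u) M)) (mRel MG [T_v, T_f, T_b, T_c, T_d, T_c, T_b, T_f, T_d, T_c, T_b, T_a, T_f, T_b, T_c, T_d, T_c, T_b] [T_d, T_c, T_b, T_a, T_v, T_f] M (Nat.sub (MG u) (Nat.mod (MG u) M)) (nat_lit 40) z1 u (Nat.mod (MG u) M)) (Nat.ble (nat_lit 455) j)) (Nat.ble (nat_lit 454) j)) (Nat.ble (nat_lit 452) j)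
noncomputable def dM_104 (j z1 z2 u : ℕ) : Bool :=
  Bool.rec (motive := fun _ => Bool) (Bool.rec (motive := fun _ => Bool) (Bool.rec (motive := fun _ => Bool) (mRel MG [T_b, T_c, T_d, T_f, T_b, T_c, T_d, T_c] [T_a, T_f, T_b, T_c, T_d, T_c, T_b, T_f, T_v, T_a, T_b, T_c, T_d, T_v, T_f, T_b] M (Nat.sub (MG u) (Nat.mod (MG u) M)) (nat_lit 40) z1 u (Nat.mod (MG u) M)) (mRel MG [T_c, T_b, T_a] [T_d, T_v, T_f, T_b, T_c, T_d, T_c, T_b, T_f, T_d, T_c, T_b, T_a, T_f, T_b, T_c, T_d, T_c, T_b, T_f, T_v] M (Nat.sub (MG u) (Nat.mod (MG u) M)) (nat_lit 40) z1 u (Nat.mod (MG u) M)) (Nat.ble (nat_lit 457) j)) (Bool.rec (motive := fun _ => Bool) (mRel MG [T_b, T_f, T_v, T_d, T_c, T_b, T_a, T_v, T_f] [T_c, T_d, T_c, T_b, T_f, T_d, T_c, T_b, T_a, T_f, T_b, T_c, T_d, T_c, T_b] M (Nat.sub (MG u) (Nat.mod (MG u) M)) (nat_lit 40) z1 u (Nat.mod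 (MG u) M)) (mRel MG [T_c, T_d, T_v, T_f, T_b, T_c, T_d, T_c, T_b, T_f, T_d, T_c, T_b, T_a, T_f, T_b, T_c, T_d, T_c, T_b, T_f, T_v] [T_b, T_a] M (Nat.sub (MG u) (Nat.mod (MG u) M)) (nat_lit 40) z1 u (Nat.mod (MG u) M)) (Nat.ble (nat_lit 459) j)) (Nat.ble (nat_lit 458) j)) (Bool.rec (motive := fun _ => Bool) (Bool.rec (motive := fun _ => Bool) (mRel MG [T_b, T_c, T_d, T_v, T_f, T_b, T_c, T_d, T_c, T_b, T_f, T_d, T_c, T_b, T_a, T_f, T_b, T_c, T_d, T_c, T_b, T_f, T_v, T_a] [] M (Nat.sub (MG u) (Nat.mod (MG u) M)) (nat_lit 40) z1 u (Nat.mod (MG u) M)) (mRel MG [T_b, T_a, T_b, T_a, T_b, T_a, T_b] [T_a, T_b, T_a] M (Nat.sub (MG u) (Nat.mod (MG u) M)) (nat_lit 40) z1 u (Nat.mod (MG u) M)) (Nat.ble (nat_lit 461) j)) (Bool.rec (motive := fun _ => Bool) (mRel MG [T_c, T_b, T_f, T_d, T_c, T_b, T_a, T_f, T_b, T_c, T_d, T_c, T_b, T_f,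 T_v, T_a, T_b, T_c, T_d, T_v, T_f] [T_d, T_c, T_b] M (Nat.sub (MG u) (Nat.mod (MG u) M)) (nat_lit 40) z1 u (Nat.mod (MG u) M)) (mRel MG [T_d, T_c, T_d, T_c, T_d, T_c, T_a] [T_c, T_d] M (Nat.sub (MG u) (Nat.mod (MG u) M)) (nat_lit 40) z1 u (Nat.mod (MG u) M)) (Nat.ble (nat_lit 463) j)) (Nat.ble (nat_lit 462) j)) (Nat.ble (nat_lit 460) j)
noncomputable def dM_105 (j z1 z2 u : ℕ) : Bool :=
  Bool.rec (motive := fun _ => Bool) (dM_103 j z1 z2 u) (dM_104 j z1 z2 u) (Nat.ble (nat_lit 456) j)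
noncomputable def dM_106 (j z1 z2 u : ℕ) : Bool :=
  Bool.rec (motive := fun _ => Bool) (dM_102 j z1 z2 u) (dM_105 j z1 z2 u) (Nat.ble (nat_lit 448) j)
noncomputable def dM_107 (j z1 z2 u : ℕ) : Bool :=
  Bool.rec (motive := fun _ => Bool) (dM_99 j z1 z2 u) (dM_106 j z1 z2 u) (Nat.ble (nat_lit 432) j)
noncomputable def dM_108 (j z1 z2 u : ℕ) : Bool :=
  Bool.rec (motive := fun _ => Bool) (Bool.rec (motive := fun _ => Bool) (Bool.rec (motive := fun _ => Bool) (mRel MG [T_b, T_f, T_d, T_c, T_b, T_a, T_f, T_b, T_c, T_d, T_c, T_b, T_f, T_v, T_a] [T_c, T_d, T_c, T_b, T_f, T_v, T_d, T_c, T_b] M (Nat.sub (MG u) (Nat.mod (MG u) M)) (nat_lit 40) z1 u (Nat.mod (MG u) M)) (mRel MG [T_v, T_f, T_b, T_c, T_d, T_c, T_b, T_f, T_v, T_f, T_b, T_c, T_d, T_c, T_b, T_f, T_v] [T_f, T_b, T_c, T_d, T_c, T_b, T_f] M (Nat.sub (MG u) (Nat.mod (MG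 u) M)) (nat_lit 40) z1 u (Nat.mod (MG u) M)) (Nat.ble (nat_lit 465) j)) (Bool.rec (motive := fun _ => Bool) (mRel MG [T_c, T_d, T_c, T_d, T_c, T_d, T_a] [T_d, T_c] M (Nat.sub (MG u) (Nat.mod (MG u) M)) (nat_lit 40) z1 u (Nat.mod (MG u) M)) (mRel MG [T_c, T_b, T_f, T_v, T_a] [T_d, T_c, T_b, T_f, T_a, T_b, T_c, T_d, T_f, T_b, T_c, T_d, T_c, T_b, T_f, T_v, T_d, T_c, T_b] M (Nat.sub (MG u) (Nat.mod (MG u) M)) (nat_lit 40) z1 u (Nat.mod (MG u) M)) (Nat.ble (nat_lit 467) j)) (Nat.ble (nat_lit 466) j)) (Bool.rec (motive := fun _ => Bool) (Bool.rec (motive := fun _ => Bool) (mRel MG [T_c, T_d, T_c, T_b, T_f] [T_b, T_f, T_d, T_c, T_b, T_a, T_f, T_b, T_c, T_d, T_c, T_b, T_f, T_v, T_a, T_b, T_c, T_d, T_v] M (Nat.sub (MG u) (Nat.mod (MG u) M)) (nat_lit 40) z1 u (Nat.mod (MG u) M)) (mRel MG [T_a, T_b] [T_b, T_a, T_b, T_a, T_b, T_a,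 T_b, T_a] M (Nat.sub (MG u) (Nat.mod (MG u) M)) (nat_lit 40) z1 u (Nat.mod (MG u) M)) (Nat.ble (nat_lit 469) j)) (Bool.rec (motive := fun _ => Bool) (mRel MG [T_a, T_d, T_a, T_d] [] M (Nat.sub (MG u) (Nat.mod (MG u) M)) (nat_lit 40) z1 u (Nat.mod (MG u) M)) (mRel MG [T_e, T_f, T_b, T_c, T_d, T_c, T_b, T_e, T_f, T_v, T_f, T_b, T_c, T_d, T_c, T_b, T_f, T_e, T_f, T_b] [T_v, T_f, T_b, T_c, T_d, T_c] M (Nat.sub (MG u) (Nat.mod (MG u) M)) (nat_lit 40) z1 u (Nat.mod (MG u) M)) (Nat.ble (nat_lit 471) j)) (Nat.ble (nat_lit 470) j)) (Nat.ble (nat_lit 468) j)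
noncomputable def dM_109 (j z1 z2 u : ℕ) : Bool :=
  Bool.rec (motive := fun _ => Bool) (Bool.rec (motive := fun _ => Bool) (Bool.rec (motive := fun _ => Bool) (mRel MG [T_v, T_f, T_b, T_c, T_d, T_c, T_b, T_f, T_a, T_b, T_c, T_d, T_f, T_b, T_c, T_d, T_c, T_b, T_f] [T_a, T_b, T_c, T_d, T_v] M (Nat.sub (MG u) (Nat.mod (MG u) M)) (nat_lit 40) z1 u (Nat.mod (MG u) M)) (mRel MG [T_d, T_c, T_b, T_f, T_v, T_f] [T_c, T_b, T_f, T_v, T_f, T_b, T_c, T_d, T_c, T_b, T_f, T_v, T_f, T_b, T_c, T_d, T_c, T_b] M (Nat.sub (MG u) (Nat.mod (MG u) M)) (nat_lit 40) z1 u (Nat.mod (MG u) M)) (Nat.ble (nat_lit 473) j)) (Bool.rec (motive := fun _ => Bool) (mRel MG [T_c, T_d, T_c, T_b, T_f, T_e, T_v, T_f, T_b, T_c, T_d, T_c, T_b, T_f, T_e, T_f, T_b, T_c, T_d, T_c, T_b, T_f, T_v] [T_b, T_e, T_f] M (Nat.sub (MG u) (Nat.mod (MG u) M)) (nat_lit 40) z1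 u (Nat.mod (MG u) M)) (mRel MG [T_b, T_c, T_d, T_c, T_b, T_f, T_a, T_b, T_c, T_d, T_f, T_b, T_c, T_d, T_c, T_b, T_f, T_v] [T_f, T_v, T_a, T_b, T_c, T_d] M (Nat.sub (MG u) (Nat.mod (MG u) M)) (nat_lit 40) z1 u (Nat.mod (MG u) M)) (Nat.ble (nat_lit 475) j)) (Nat.ble (nat_lit 474) j)) (Bool.rec (motive := fun _ => Bool) (Bool.rec (motive := fun _ => Bool) (mRel MG [T_b, T_c, T_d, T_c, T_b, T_f, T_d, T_c, T_b, T_a, T_f, T_b, T_c, T_d, T_c, T_b, T_f, T_v] [T_f, T_v, T_d, T_c, T_b, T_a] M (Nat.sub (MG u) (Nat.mod (MG u) M)) (nat_lit 40) z1 u (Nat.mod (MG u) M)) (mRel MG [T_f] [T_b, T_c, T_d, T_c, T_b, T_f, T_b, T_f, T_b, T_c, T_d, T_c, T_b, T_f, T_v, T_b, T_v] M (Nat.sub (MG u) (Nat.mod (MG u) M)) (nat_lit 40) z1 u (Nat.mod (MG u) M)) (Nat.ble (nat_lit 477) j)) (Bool.rec (motive := fun _ => Bool) (mRel MG [T_c, T_d, T_c, T_b,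 T_f, T_a] [T_b, T_f, T_v, T_a, T_b, T_c, T_d, T_v, T_f, T_b, T_c, T_d, T_c, T_b, T_f, T_d, T_c, T_b] M (Nat.sub (MG u) (Nat.mod (MG u) M)) (nat_lit 40) z1 u (Nat.mod (MG u) M)) (mRel MG [T_f] [T_b, T_c, T_d, T_c, T_b, T_f, T_v, T_f, T_b, T_c, T_d, T_c, T_b, T_f, T_v, T_f, T_b, T_c, T_d, T_c, T_b, T_f, T_v] M (Nat.sub (MG u) (Nat.mod (MG u) M)) (nat_lit 40) z1 u (Nat.mod (MG u) M)) (Nat.ble (nat_lit 479) j)) (Nat.ble (nat_lit 478) j)) (Nat.ble (nat_lit 476) j)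
noncomputable def dM_110 (j z1 z2 u : ℕ) : Bool :=
  Bool.rec (motive := fun _ => Bool) (dM_108 j z1 z2 u) (dM_109 j z1 z2 u) (Nat.ble (nat_lit 472) j)
noncomputable def dM_111 (j z1 z2 u : ℕ) : Bool :=
  Bool.rec (motive := fun _ => Bool) (Bool.rec (motive := fun _ => Bool) (Bool.rec (motive := fun _ => Bool) (mRel MG [T_f, T_b, T_c] [T_v, T_a, T_b, T_c, T_d, T_v, T_f, T_b, T_c, T_d, T_c, T_b, T_f, T_d, T_c, T_b, T_a, T_f, T_b, T_c, T_d] M (Nat.sub (MG u) (Nat.mod (MG u) M)) (nat_lit 40) z1 u (Nat.mod (MG u) M)) (mRel MG [T_c, T_d, T_f, T_b, T_c, T_d, T_c, T_b, T_f, T_v, T_d, T_c, T_b, T_a, T_v] [T_b, T_a, T_f, T_b, T_c, T_d, T_c, T_b, T_f] M (Nat.sub (MG u) (Nat.mod (MG u) M)) (nat_lit 40) z1 u (Nat.mod (MG u) M)) (Nat.ble (nat_lit 481) j)) (Bool.rec (motive := fun _ => Bool) (mRel MG [T_v, T_c, T_v, T_f] [T_f, T_b, T_c,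 T_d, T_c, T_b, T_f, T_c, T_f, T_b, T_c, T_d, T_c, T_b] M (Nat.sub (MG u) (Nat.mod (MG u) M)) (nat_lit 40) z1 u (Nat.mod (MG u) M)) (mRel MG [T_f, T_a, T_f] [T_a] M (Nat.sub (MG u) (Nat.mod (MG u) M)) (nat_lit 40) z1 u (Nat.mod (MG u) M)) (Nat.ble (nat_lit 483) j)) (Nat.ble (nat_lit 482) j)) (Bool.rec (motive := fun _ => Bool) (Bool.rec (motive := fun _ => Bool) (mRel MG [T_b, T_c, T_d, T_v, T_f, T_b, T_c, T_d, T_c, T_b, T_f, T_d, T_c, T_b, T_a, T_f, T_b, T_c, T_d, T_c, T_b, T_f] [T_a, T_v] M (Nat.sub (MG u) (Nat.mod (MG u) M)) (nat_lit 40) z1 u (Nat.mod (MG u) M)) (mRel MG [T_c, T_d, T_v, T_f, T_b, T_c, T_d, T_c, T_b, T_f, T_d, T_c, T_b, T_a, T_f, T_b, T_c, T_d, T_c, T_b, T_f] [T_b, T_a, T_v] M (Nat.sub (MG u) (Nat.mod (MG u) M)) (nat_lit 40) z1 u (Nat.mod (MG u) M)) (Nat.ble (nat_lit 485) j)) (Bool.rec (motive := fun _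 => Bool) (mRel MG [T_d, T_c, T_d, T_c, T_d, T_c] [T_a, T_c, T_d] M (Nat.sub (MG u) (Nat.mod (MG u) M)) (nat_lit 40) z1 u (Nat.mod (MG u) M)) (mRel MG [T_c, T_b, T_f, T_a] [T_d, T_c, T_b, T_f, T_v, T_a, T_b, T_c, T_d, T_v, T_f, T_b, T_c, T_d, T_c, T_b, T_f, T_d, T_c, T_b] M (Nat.sub (MG u) (Nat.mod (MG u) M)) (nat_lit 40) z1 u (Nat.mod (MG u) M)) (Nat.ble (nat_lit 487) j)) (Nat.ble (nat_lit 486) j)) (Nat.ble (nat_lit 484) j)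
noncomputable def dM_112 (j z1 z2 u : ℕ) : Bool :=
  Bool.rec (motive := fun _ => Bool) (Bool.rec (motive := fun _ => Bool) (Bool.rec (motive := fun _ => Bool) (mRel MG [T_b, T_c, T_d, T_c, T_b, T_f, T_a, T_b, T_c, T_d, T_f, T_b, T_c, T_d, T_c, T_b, T_f, T_v, T_d, T_c, T_b, T_a, T_v] [T_f] M (Nat.sub (MG u) (Nat.mod (MG u) M)) (nat_lit 40) z1 u (Nat.mod (MG u) M)) (mRel MG [T_c, T_d, T_c, T_b, T_f, T_d, T_c, T_b, T_a, T_f, T_b, T_c, T_d, T_c, T_b, T_f, T_v, T_a, T_b, T_c, T_d] [T_b, T_f, T_v] M (Nat.sub (MG u) (Nat.mod (MG u) M)) (nat_lit 40) z1 u (Nat.mod (MG u) M)) (Nat.ble (nat_lit 489) j)) (Bool.rec (motive := fun _ => Bool) (mRel MG [T_c, T_b, T_f, T_v, T_a, T_b, T_c, T_d, T_v] [T_d, T_c, T_b, T_f, T_a, T_b, T_c, T_d, T_f, T_b, T_c, T_d, T_c, T_b, T_f] M (Nat.sub (MG u) (Nat.mod (MG u) M)) (nat_lit 40) z1 u (Nat.mod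 (MG u) M)) (mRel MG [T_d, T_c, T_b, T_a, T_v, T_f, T_b, T_c, T_d, T_c, T_b, T_f, T_a, T_b, T_c, T_d, T_f, T_b, T_c, T_d, T_c, T_b, T_f, T_v] [] M (Nat.sub (MG u) (Nat.mod (MG u) M)) (nat_lit 40) z1 u (Nat.mod (MG u) M)) (Nat.ble (nat_lit 491) j)) (Nat.ble (nat_lit 490) j)) (Bool.rec (motive := fun _ => Bool) (Bool.rec (motive := fun _ => Bool) (mRel MG [T_f, T_a, T_b, T_c, T_d, T_f, T_b, T_c, T_d, T_c, T_b, T_f, T_v, T_d, T_c, T_b, T_a, T_v, T_f] [T_b, T_c, T_d, T_c, T_b] M (Nat.sub (MG u) (Nat.mod (MG u) M)) (nat_lit 40) z1 u (Nat.mod (MG u) M)) (mRel MG [T_b, T_c, T_d, T_f, T_b, T_c, T_d, T_c, T_b, T_f] [T_a, T_f, T_b, T_c, T_d, T_c, T_b, T_f, T_v, T_a, T_b, T_c, T_d, T_v] M (Nat.sub (MG u) (Nat.mod (MG u) M)) (nat_lit 40) z1 u (Nat.mod (MG u) M)) (Nat.ble (nat_lit 493) j)) (Bool.rec (motive := fun _ => Bool) (mRel MG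 [T_d, T_c, T_d, T_c, T_d, T_c, T_a, T_d] [T_c] M (Nat.sub (MG u) (Nat.mod (MG u) M)) (nat_lit 40) z1 u (Nat.mod (MG u) M)) (mRel MG [T_b, T_c, T_d, T_c, T_b, T_f, T_e, T_v] [T_e, T_f, T_v, T_f, T_b, T_c, T_d, T_c, T_b, T_f, T_e, T_f, T_b, T_c, T_d, T_c, T_b, T_f] M (Nat.sub (MG u) (Nat.mod (MG u) M)) (nat_lit 40) z1 u (Nat.mod (MG u) M)) (Nat.ble (nat_lit 495) j)) (Nat.ble (nat_lit 494) j)) (Nat.ble (nat_lit 492) j)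
noncomputable def dM_113 (j z1 z2 u : ℕ) : Bool :=
  Bool.rec (motive := fun _ => Bool) (dM_111 j z1 z2 u) (dM_112 j z1 z2 u) (Nat.ble (nat_lit 488) j)
noncomputable def dM_114 (j z1 z2 u : ℕ) : Bool :=
  Bool.rec (motive := fun _ => Bool) (dM_110 j z1 z2 u) (dM_113 j z1 z2 u) (Nat.ble (nat_lit 480) j)
noncomputable def dM_115 (j z1 z2 u : ℕ) : Bool :=
  Bool.rec (motive := fun _ => Bool) (Bool.rec (motive := fun _ => Bool) (Bool.rec (motive := fun _ => Bool) (mRel MG [T_v, T_a, T_b, T_c, T_d, T_v, T_f] [T_f, T_b, T_c, T_d, T_c, T_b, T_f, T_a, T_b, T_c, T_d, T_f, T_b, T_c, T_d, T_c, T_b] M (Nat.sub (MG u) (Nat.mod (MG u) M)) (nat_lit 40) z1 u (Nat.mod (MG u) M)) (mRel MG [T_c, T_b, T_a, T_f, T_b, T_c, T_d, T_c, T_b, T_f, T_v, T_a, T_b, T_c, T_d] [T_d, T_f, T_b, T_c, T_d, T_c, T_b, T_f, T_v] M (Nat.sub (MG u) (Nat.mod (MG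 u) M)) (nat_lit 40) z1 u (Nat.mod (MG u) M)) (Nat.ble (nat_lit 497) j)) (Bool.rec (motive := fun _ => Bool) (mRel MG [T_b, T_c, T_d, T_c, T_b, T_f, T_v, T_f, T_b, T_c, T_d, T_c, T_b, T_f, T_v, T_f, T_b, T_c, T_d, T_c, T_b, T_f, T_v] [T_f] M (Nat.sub (MG u) (Nat.mod (MG u) M)) (nat_lit 40) z1 u (Nat.mod (MG u) M)) (mRel MG [T_b, T_f, T_d, T_c, T_b, T_a, T_f, T_b, T_c, T_d, T_c, T_b, T_f, T_v, T_a, T_b, T_c, T_d, T_v, T_f] [T_c, T_d, T_c, T_b] M (Nat.sub (MG u) (Nat.mod (MG u) M)) (nat_lit 40) z1 u (Nat.mod (MG u) M)) (Nat.ble (nat_lit 499) j)) (Nat.ble (nat_lit 498) j)) (Bool.rec (motive := fun _ => Bool) (Bool.rec (motive := fun _ => Bool) (mRel MG [T_a, T_b, T_c, T_d, T_f, T_b, T_c, T_d, T_c, T_b, T_f, T_v, T_d] [T_f, T_b, T_c, T_d, T_c, T_b, T_f, T_v, T_a, T_b, T_c] M (Nat.sub (MG u) (Nat.mod (MG u) M)) (nat_lit 40) z1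 u (Nat.mod (MG u) M)) (mRel MG [T_a, T_b, T_c, T_d] [T_v, T_f, T_b, T_c, T_d, T_c, T_b, T_f, T_a, T_b, T_c, T_d, T_f, T_b, T_c, T_d, T_c, T_b, T_f, T_v] M (Nat.sub (MG u) (Nat.mod (MG u) M)) (nat_lit 40) z1 u (Nat.mod (MG u) M)) (Nat.ble (nat_lit 501) j)) (Bool.rec (motive := fun _ => Bool) (mRel MG [T_d, T_c, T_b, T_f, T_v, T_b, T_v, T_f, T_b, T_c, T_d, T_c, T_b, T_f, T_b] [T_c, T_b, T_f] M (Nat.sub (MG u) (Nat.mod (MG u) M)) (nat_lit 40) z1 u (Nat.mod (MG u) M)) (mRel MG [T_b, T_f, T_v, T_d] [T_c, T_d, T_c, T_b, T_f, T_d, T_c, T_b, T_a, T_f, T_b, T_c, T_d, T_c, T_b, T_f, T_v, T_a, T_b, T_c] M (Nat.sub (MG u) (Nat.mod (MG u) M)) (nat_lit 40) z1 u (Nat.mod (MG u) M)) (Nat.ble (nat_lit 503) j)) (Nat.ble (nat_lit 502) j)) (Nat.ble (nat_lit 500) j)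
noncomputable def dM_116 (j z1 z2 u : ℕ) : Bool :=
  Bool.rec (motive := fun _ => Bool) (Bool.rec (motive := fun _ => Bool) (Bool.rec (motive := fun _ => Bool) (mRel MG [T_b, T_f, T_v, T_c, T_v, T_f, T_b] [T_c, T_d, T_c, T_b, T_f, T_c, T_f, T_b, T_c, T_d, T_c] M (Nat.sub (MG u) (Nat.mod (MG u) M)) (nat_lit 40) z1 u (Nat.mod (MG u) M)) (mRel MG [T_f, T_v, T_f, T_b, T_c] [T_e, T_b, T_c, T_d, T_c, T_b, T_f, T_e, T_v, T_f, T_b, T_c, T_d, T_c, T_b, T_f, T_e, T_f, T_b, T_c, T_d] M (Nat.sub (MG u) (Nat.mod (MG u) M)) (nat_lit 40) z1 u (Nat.mod (MG u) M)) (Nat.ble (nat_lit 505) j)) (Bool.rec (motive := fun _ => Bool) (mRel MG [T_d, T_c, T_a] [T_c, T_d, T_c, T_d, T_c, T_d] M (Nat.sub (MG u) (Nat.mod (MG u) M)) (nat_lit 40) z1 u (Nat.mod (MG u) M)) (mRel MG [T_c, T_b, T_a, T_f, T_b, T_c, T_d, T_c, T_b, T_f, T_v, T_a, T_b, T_c, T_d,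 T_v] [T_d, T_f, T_b, T_c, T_d, T_c, T_b, T_f] M (Nat.sub (MG u) (Nat.mod (MG u) M)) (nat_lit 40) z1 u (Nat.mod (MG u) M)) (Nat.ble (nat_lit 507) j)) (Nat.ble (nat_lit 506) j)) (Bool.rec (motive := fun _ => Bool) (Bool.rec (motive := fun _ => Bool) (mRel MG [T_b, T_f, T_e, T_f, T_b, T_c, T_d, T_c, T_b, T_f, T_v, T_f, T_e, T_b, T_c, T_d, T_c, T_b, T_f, T_e, T_v, T_f] [T_c, T_d, T_c, T_b] M (Nat.sub (MG u) (Nat.mod (MG u) M)) (nat_lit 40) z1 u (Nat.mod (MG u) M)) (mRel MG [T_a, T_b, T_c, T_d, T_v, T_f] [T_v, T_f, T_b, T_c, T_d, T_c, T_b, T_f, T_a, T_b, T_c, T_d, T_f, T_b, T_c, T_d, T_c, T_b] M (Nat.sub (MG u) (Nat.mod (MG u) M)) (nat_lit 40) z1 u (Nat.mod (MG u) M)) (Nat.ble (nat_lit 509) j)) (Bool.rec (motive := fun _ => Bool) (mRel MG [T_b, T_f, T_e, T_f, T_b, T_c, T_d, T_c, T_b, T_f] [T_c, T_d, T_c, T_b, T_f, T_v, T_e,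 T_f, T_b, T_c, T_d, T_c, T_b, T_e, T_f, T_v] M (Nat.sub (MG u) (Nat.mod (MG u) M)) (nat_lit 40) z1 u (Nat.mod (MG u) M)) (mRel MG [T_b, T_f, T_v, T_b, T_v, T_f, T_b, T_c, T_d, T_c, T_b, T_f, T_b, T_f] [T_c, T_d, T_c, T_b] M (Nat.sub (MG u) (Nat.mod (MG u) M)) (nat_lit 40) z1 u (Nat.mod (MG u) M)) (Nat.ble (nat_lit 511) j)) (Nat.ble (nat_lit 510) j)) (Nat.ble (nat_lit 508) j)
noncomputable def dM_117 (j z1 z2 u : ℕ) : Bool :=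
  Bool.rec (motive := fun _ => Bool) (dM_115 j z1 z2 u) (dM_116 j z1 z2 u) (Nat.ble (nat_lit 504) j)
noncomputable def dM_118 (j z1 z2 u : ℕ) : Bool :=
  Bool.rec (motive := fun _ => Bool) (Bool.rec (motive := fun _ => Bool) (Bool.rec (motive := fun _ => Bool) (mRel MG [T_f, T_b, T_f] [T_b, T_f, T_b] M (Nat.sub (MG u) (Nat.mod (MG u) M)) (nat_lit 40) z1 u (Nat.mod (MG u) M)) (mRel MG [T_a, T_b, T_c, T_d, T_f, T_b, T_c, T_d, T_c, T_b, T_f, T_v, T_d, T_c] [T_f, T_b, T_c, T_d, T_c, T_b, T_f, T_v, T_a, T_b] M (Nat.sub (MG u) (Nat.mod (MG u) M)) (nat_lit 40) z1 u (Nat.mod (MG u) M)) (Nat.ble (nat_lit 513) j)) (Bool.rec (motive := fun _ => Bool) (mRel MG [T_c, T_d, T_v] [T_b, T_a, T_v, T_f, T_b, T_c, T_d, T_c, T_b, T_f, T_a, T_b, T_c, T_d, T_f, T_b, T_c, T_d, T_c, T_b, T_f] M (Nat.sub (MG u) (Nat.mod (MG u) M)) (nat_lit 40) z1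 u (Nat.mod (MG u) M)) (mRel MG [T_d, T_e, T_d, T_e] [T_e, T_d] M (Nat.sub (MG u) (Nat.mod (MG u) M)) (nat_lit 40) z1 u (Nat.mod (MG u) M)) (Nat.ble (nat_lit 515) j)) (Nat.ble (nat_lit 514) j)) (Bool.rec (motive := fun _ => Bool) (Bool.rec (motive := fun _ => Bool) (mRel MG [T_b] [T_c, T_f, T_a, T_b, T_c, T_f, T_a, T_b, T_c, T_f, T_a, T_b, T_c, T_f, T_a, T_b, T_c, T_f, T_a] M (Nat.sub (MG u) (Nat.mod (MG u) M)) (nat_lit 40) z1 u (Nat.mod (MG u) M)) (mRel MG [T_f, T_b, T_c, T_d, T_c, T_b, T_f, T_v, T_b, T_v, T_f, T_b, T_c, T_d, T_c, T_b, T_f, T_b] [] M (Nat.sub (MG u) (Nat.mod (MG u) M)) (nat_lit 40) z1 u (Nat.mod (MG u) M)) (Nat.ble (nat_lit 517) j)) (Bool.rec (motive := fun _ => Bool) (mRel MG [T_b, T_d, T_b, T_d] [] M (Nat.sub (MG u) (Nat.mod (MG u) M)) (nat_lit 40) z1 u (Nat.mod (MG u) M)) (mRel MG [T_a, T_v, T_f, T_b,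 T_c, T_d, T_c, T_b, T_f, T_a, T_b, T_c, T_d, T_f, T_b, T_c, T_d, T_c, T_b, T_f, T_v] [T_b, T_c, T_d] M (Nat.sub (MG u) (Nat.mod (MG u) M)) (nat_lit 40) z1 u (Nat.mod (MG u) M)) (Nat.ble (nat_lit 519) j)) (Nat.ble (nat_lit 518) j)) (Nat.ble (nat_lit 516) j)
noncomputable def dM_119 (j z1 z2 u : ℕ) : Bool :=
  Bool.rec (motive := fun _ => Bool) (Bool.rec (motive := fun _ => Bool) (Bool.rec (motive := fun _ => Bool) (mRel MG [T_d, T_c, T_b, T_f, T_b, T_f, T_b, T_c, T_d, T_c, T_b, T_f] [T_c, T_b, T_f, T_v, T_b, T_v] M (Nat.sub (MG u) (Nat.mod (MG u) M)) (nat_lit 40) z1 u (Nat.mod (MG u) M)) (mRel MG [T_f, T_b, T_c, T_d, T_c, T_b, T_f, T_d, T_c, T_b, T_a, T_f, T_b, T_c, T_d, T_c, T_b, T_f, T_v, T_a, T_b, T_c, T_d, T_v] [] M (Nat.sub (MG u) (Nat.mod (MG u) M)) (nat_lit 40) z1 u (Nat.mod (MG u) M)) (Nat.ble (nat_lit 521) j)) (Bool.rec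 (motive := fun _ => Bool) (mRel MG [T_b, T_c, T_d, T_c, T_b, T_f, T_a, T_b, T_c, T_d, T_f, T_b, T_c, T_d, T_c, T_b, T_f] [T_f, T_v, T_a, T_b, T_c, T_d, T_v] M (Nat.sub (MG u) (Nat.mod (MG u) M)) (nat_lit 40) z1 u (Nat.mod (MG u) M)) (mRel MG [T_f, T_b, T_c, T_d, T_c, T_b, T_f, T_v] [T_v, T_f, T_b, T_c, T_d, T_c, T_b, T_f, T_v, T_f, T_b, T_c, T_d, T_c, T_b, T_f] M (Nat.sub (MG u) (Nat.mod (MG u) M)) (nat_lit 40) z1 u (Nat.mod (MG u) M)) (Nat.ble (nat_lit 523) j)) (Nat.ble (nat_lit 522) j)) (Bool.rec (motive := fun _ => Bool) (Bool.rec (motive := fun _ => Bool) (mRel MG [T_f, T_b, T_c, T_d, T_c, T_b, T_f, T_d, T_c, T_b, T_a, T_f, T_b, T_c, T_d, T_c, T_b, T_f, T_v, T_a, T_b, T_c, T_d] [T_v] M (Nat.sub (MG u) (Nat.mod (MG u) M)) (nat_lit 40) z1 u (Nat.mod (MG u) M)) (mRel MG [T_b] [T_v, T_f, T_b, T_c, T_d, T_c, T_b, T_f, T_b,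 T_f, T_b, T_c, T_d, T_c, T_b, T_f, T_v] M (Nat.sub (MG u) (Nat.mod (MG u) M)) (nat_lit 40) z1 u (Nat.mod (MG u) M)) (Nat.ble (nat_lit 525) j)) (Bool.rec (motive := fun _ => Bool) (mRel MG [T_b, T_c, T_d, T_c, T_b, T_f, T_v, T_b, T_v, T_f, T_b, T_c, T_d, T_c, T_b, T_f, T_b] [T_f] M (Nat.sub (MG u) (Nat.mod (MG u) M)) (nat_lit 40) z1 u (Nat.mod (MG u) M)) (Bool.rec (motive := fun _ => Bool) (mRel MG [T_f, T_b, T_c, T_d, T_c, T_b, T_f] [T_c, T_f, T_b, T_c, T_d, T_c, T_b, T_f, T_v, T_c, T_v] M (Nat.sub (MG u) (Nat.mod (MG u) M)) (nat_lit 40) z1 u (Nat.mod (MG u) M)) (mRel MG [T_f, T_b, T_c, T_d, T_c, T_b, T_f, T_v, T_d, T_c, T_b, T_a] [T_d, T_c, T_b, T_a, T_f, T_b, T_c, T_d, T_c, T_b, T_f, T_v] M (Nat.sub (MG u) (Nat.mod (MG u) M)) (nat_lit 40) z1 u (Nat.mod (MG u) M)) (Nat.ble (nat_lit 528) j)) (Nat.ble (nat_lit 527) j)) (Nat.ble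 (nat_lit 526) j)) (Nat.ble (nat_lit 524) j)
noncomputable def dM_120 (j z1 z2 u : ℕ) : Bool :=
  Bool.rec (motive := fun _ => Bool) (dM_118 j z1 z2 u) (dM_119 j z1 z2 u) (Nat.ble (nat_lit 520) j)
noncomputable def dM_121 (j z1 z2 u : ℕ) : Bool :=
  Bool.rec (motive := fun _ => Bool) (dM_117 j z1 z2 u) (dM_120 j z1 z2 u) (Nat.ble (nat_lit 512) j)
noncomputable def dM_122 (j z1 z2 u : ℕ) : Bool :=
  Bool.rec (motive := fun _ => Bool) (dM_114 j z1 z2 u) (dM_121 j z1 z2 u) (Nat.ble (nat_lit 496) j)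
noncomputable def dM_123 (j z1 z2 u : ℕ) : Bool :=
  Bool.rec (motive := fun _ => Bool) (dM_107 j z1 z2 u) (dM_122 j z1 z2 u) (Nat.ble (nat_lit 464) j)
noncomputable def dM_124 (j z1 z2 u : ℕ) : Bool :=
  Bool.rec (motive := fun _ => Bool) (dM_92 j z1 z2 u) (dM_123 j z1 z2 u) (Nat.ble (nat_lit 400) j)
noncomputable def dM_125 (j z1 z2 u : ℕ) : Bool :=
  Bool.rec (motive := fun _ => Bool) (dM_63 j z1 z2 u) (dM_124 j z1 z2 u) (Nat.ble (nat_lit 275) j)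
noncomputable def dM_126 (j z1 z2 u : ℕ) : Bool :=
  Bool.rec (motive := fun _ => Bool) (dM_36 j z1 z2 u) (dM_125 j z1 z2 u) (Nat.ble (nat_lit 160) j)
noncomputable def dM_127 (j z1 z2 u : ℕ) : Bool :=
  Bool.rec (motive := fun _ => Bool) (dM_17 j z1 z2 u) (dM_126 j z1 z2 u) (Nat.ble (nat_lit 77) j)
noncomputable def dM_128 (j z1 z2 u : ℕ) : Bool :=
  Bool.rec (motive := fun _ => Bool) (dM_2 j z1 z2 u) (dM_127 j z1 z2 u) (Nat.ble (nat_lit 7) j)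
noncomputable def dM_129 (j z1 z2 u : ℕ) : Bool :=
  Bool.rec (motive := fun _ => Bool) (dM_1 j z1 z2 u) (dM_128 j z1 z2 u) (Nat.ble (nat_lit 5) j)
noncomputable def dM_130 (j z1 z2 u : ℕ) : Bool :=
  Bool.rec (motive := fun _ => Bool) (dM_0 j z1 z2 u) (dM_129 j z1 z2 u) (Nat.ble (nat_lit 3) j)
noncomputable def chkM (u : ℕ) : Bool :=
  Bool.rec (motive := fun _ => Bool) (band (Nat.ble (Nat.succ (Nat.mod (MG u) M)) u) (dM_130 (Nat.land (MR u) (nat_lit 1023)) (Nat.land (Nat.shiftRight (MR u) (nat_lit 10)) (nat_lit 32767)) (Nat.shiftRight (MR u) (nat_lit 25)) u)) true (Nat.ble A (MG u))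
noncomputable def chkN (u : ℕ) : Bool :=
  band (chk_a (Nat.land (Nat.shiftRight (RS u) (nat_lit 0)) (nat_lit 63)) u) (band (chk_b (Nat.land (Nat.shiftRight (RS u) (nat_lit 6)) (nat_lit 63)) u) (band (chk_c (Nat.land (Nat.shiftRight (RS u) (nat_lit 12)) (nat_lit 63)) u) (band (chk_d (Nat.land (Nat.shiftRight (RS u) (nat_lit 18)) (nat_lit 63)) u) (band (chk_e (Nat.land (Nat.shiftRight (RS u) (nat_lit 24)) (nat_lit 63)) u) (band (chk_f (Nat.land (Nat.shiftRight (RS u) (nat_lit 30)) (nat_lit 63)) u) (band (chk_v (Nat.land (Nat.shiftRight (RS u) (nat_lit 36)) (nat_lit 63)) u) (chkM u)))))))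
noncomputable def chkP (u : ℕ) : Bool := Bool.rec (motive := fun _ => Bool) (chkN u) true (Nat.ble M u)
noncomputable def liveP (u : ℕ) : Bool := Bool.rec (motive := fun _ => Bool) (Nat.ble A (MG u)) false (Nat.ble M u)
end H17.TCSV
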